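import Cfsg.Agent.H59.Yoshida
import Mathlib.GroupTheory.Perm.Cycle.Type

/-!
# Counting fixed cosets of an involution: transfer and sign

For an involution `t` and a subgroup `K`, the transfer of `t` into an abelian quotient of `K` only sees the
fixed cosets, whose number is governed by the number of conjugates of `t` lying in `K`.
-/

set_option autoImplicit false

namespace Cfsg.Agent.H67.TwoSym

open Subgroup MulAction

variable {G : Type*} [Group G] [Finite G]

/-- Without subgroups of index two, every homomorphism to an abelian 2-group is trivial. -/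
theorem eq_one_of_hom (hno : ∀ H : Subgroup G, H.index ≠ 2) {A : Type*} [CommGroup A] (hA : IsPGroup 2 A)
    (f : G →* A) (x : G) : f x = 1 := by
  by_contra hne
  have : Fact (Nat.Prime 2) := ⟨Nat.prime_two⟩
  have hr : IsPGroup 2 f.range := hA.to_subgroup _
  have : Finite f.range := Finite.of_surjective f.rangeRestrict f.rangeRestrict_surjective
  obtain ⟨n, hn⟩ := IsPGroup.iff_card.mp hr
  rcases Nat.eq_zero_or_pos n with rfl | hpos
  · rw [pow_zero, Nat.card_eq_one_iff_unique] at hn
    obtain ⟨hs, -⟩ := hn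
    exact hne (congrArg Subtype.val (hs.elim (⟨f x, x, rfl⟩ : f.range) 1))
  obtain ⟨m, rfl⟩ : ∃ m, n = m + 1 := ⟨n - 1, by omega⟩
  obtain ⟨H, hH⟩ := Sylow.exists_subgroup_card_pow_prime (G := f.range) 2 (n := m)
    (by rw [hn]; exact pow_dvd_pow 2 (by omega))
  have hi := H.card_mul_index
  rw [hH, hn, pow_succ] at hi
  apply hno (H.comap f.rangeRestrict)
  rw [index_comap_of_surjective _ f.rangeRestrict_surjective]
  exact Nat.eq_of_mul_eq_mul_left (by positivity) hi

omit [Finite G] in
/-- The elements conjugating `t` onto a given conjugate form a coset of the centraliser. -/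
theorem card_conj_fibre (t g₀ : G) :
    Nat.card {g : G // g⁻¹ * t * g = g₀⁻¹ * t * g₀} = Nat.card (centralizer ({t} : Set G)) :=
  Nat.card_congr
    { toFun := fun g => ⟨g * g₀⁻¹, by
        rw [mem_centralizer_singleton_iff]
        calc g.1 * g₀⁻¹ * t = g.1 * (g₀⁻¹ * t * g₀) * g₀⁻¹ := by group
          _ = g.1 * (g.1⁻¹ * t * g.1) * g₀⁻¹ := by rw [g.2]
          _ = t * (g.1 * g₀⁻¹) := by group⟩
      invFun := fun c => ⟨c * g₀, by
        have h := mem_centralizer_singleton_iff.1 c.2
        calc ((c : G) * g₀)⁻¹ * t * ((c : G) * g₀) = g₀⁻¹ * ((c : G)⁻¹ * (t * c)) * g₀ := by group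
          _ = g₀⁻¹ * t * g₀ := by rw [← h]; group⟩
      left_inv := fun g => Subtype.ext (by simp)
      right_inv := fun c => Subtype.ext (by simp) }

/-- Counting the elements which conjugate `t` into a set. -/
theorem card_conj_into (t : G) (P : Set G) :
    Nat.card {g : G // g⁻¹ * t * g ∈ P}
      = Nat.card (centralizer ({t} : Set G)) * Nat.card {y : G // y ∈ P ∧ IsConj t y} := by
  classical
  have := Fintype.ofFinite G
  let φ : {g : G // g⁻¹ * t * g ∈ P} → {y : G // y ∈ P ∧ IsConj t y} :=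
    fun g => ⟨g.1⁻¹ * t * g.1, g.2, isConj_iff.2 ⟨g.1⁻¹, by group⟩⟩
  rw [← Nat.card_congr (Equiv.sigmaFiberEquiv φ), Nat.card_sigma,
    Nat.card_eq_fintype_card (α := {y : G // y ∈ P ∧ IsConj t y})]
  rw [mul_comm, ← smul_eq_mul, ← Finset.card_univ, ← Finset.sum_const]
  refine Finset.sum_congr rfl fun y _ => ?_
  obtain ⟨c, hc⟩ := isConj_iff.1 y.2.2
  rw [← card_conj_fibre t c⁻¹]
  refine Nat.card_congr
    { toFun := fun g => ⟨g.1.1, ?_⟩, invFun := fun g => ⟨⟨g.1, ?_⟩, ?_⟩,
      left_inv := fun g => rfl, right_inv := fun g => rfl }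
  · have := congrArg Subtype.val g.2
    simp only [φ] at this
    rw [this, inv_inv, hc]
  · rw [g.2, inv_inv, hc]; exact y.2.1
  · exact Subtype.ext (by simp only [φ]; rw [g.2, inv_inv, hc])

open Classical in
/-- The transfer of an involution, split along a conjugation invariant map on its conjugates in `K`. -/
theorem transfer_parts (hno : ∀ H : Subgroup G, H.index ≠ 2) {t : G} (ht : t * t = 1) (K : Subgroup G)
    {A : Type*} [CommGroup A] (hA : IsPGroup 2 A) (φ : K →* A) {I : Type*} [Fintype I] (p : G → I)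
    (hp : ∀ k ∈ K, ∀ y ∈ K, IsConj t y → p (k⁻¹ * y * k) = p y) (z : I → A)
    (hz : ∀ (y : G) (hy : y ∈ K), IsConj t y → φ ⟨y, hy⟩ = z (p y)) :
    ∃ m : I → ℕ, (∀ i, m i * Nat.card K = Nat.card (centralizer ({t} : Set G))
      * Nat.card {y : G // (y ∈ K ∧ p y = i) ∧ IsConj t y}) ∧ ∏ i, z i ^ m i = 1 := by
  have := Fintype.ofFinite (G ⧸ K)
  set val : G ⧸ K → G := fun q => q.out⁻¹ * t * q.out with hval
  set S : I → Finset (G ⧸ K) := fun i => Finset.univ.filter fun q => val q ∈ K ∧ p (val q) = i with hS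
  refine ⟨fun i => (S i).card, fun i => ?_, ?_⟩
  · have hpre : (QuotientGroup.mk : G → G ⧸ K) ⁻¹' (↑(S i))
        = {g : G | g⁻¹ * t * g ∈ {y : G | y ∈ K ∧ p y = i}} := by
      ext g
      obtain ⟨k, hk⟩ := QuotientGroup.mk_out_eq_mul K g
      have e : ((g : G ⧸ K).out)⁻¹ * t * (g : G ⧸ K).out = (k : G)⁻¹ * (g⁻¹ * t * g) * k := by
        rw [hk]; group
      simp only [hS, hval, Set.mem_preimage, Finset.coe_filter, Finset.mem_univ, true_and, Set.mem_ofPred_eq, e]
      have hconj : IsConj t (g⁻¹ * t * g) := isConj_iff.2 ⟨g⁻¹, by group⟩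
      have hiff : (k : G)⁻¹ * (g⁻¹ * t * g) * k ∈ K ↔ g⁻¹ * t * g ∈ K := by
        rw [Subgroup.mul_mem_cancel_right _ k.2, Subgroup.mul_mem_cancel_left _ (inv_mem k.2)]
      constructor
      · rintro ⟨h1, h2⟩
        exact ⟨hiff.1 h1, by rw [← hp k k.2 _ (hiff.1 h1) hconj, h2]⟩
      · rintro ⟨h1, h2⟩
        exact ⟨hiff.2 h1, by rw [hp k k.2 _ h1 hconj, h2]⟩
    have h1 := Nat.card_congr (QuotientGroup.preimageMkEquivSubgroupProdSet K (↑(S i)))
    rw [hpre, Nat.card_prod, Nat.card_coe_set_eq (↑(S i) : Set (G ⧸ K)), Set.ncard_coe_finset] at h1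
    rw [mul_comm, ← h1]
    exact card_conj_into t {y : G | y ∈ K ∧ p y = i}
  · have ho : ∀ n, n ∣ orderOf t → 1 < n → n = 2 := by
      intro n hn h1
      have h2 : orderOf t ∣ 2 := orderOf_dvd_of_pow_eq_one (by rw [pow_two, ht])
      exact ((Nat.dvd_prime Nat.prime_two).1 (hn.trans h2)).resolve_left (by omega)
    have hV := H59.transfer_eq_prod_fixTerm φ t (fun g n h hn hn1 => by
      obtain rfl := ho n hn hn1
      rw [show (⟨_, h⟩ : K) = 1 from Subtype.ext (by simp [pow_two, ht]), map_one])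
    rw [eq_one_of_hom hno hA] at hV
    have hdisj : ∀ q : G ⧸ K, H59.fixTerm φ t q.out = ∏ i, if q ∈ S i then z i else 1 := by
      intro q
      unfold H59.fixTerm
      by_cases h : val q ∈ K
      · rw [dif_pos h, Finset.prod_eq_single (p (val q)) (fun i _ hi => if_neg ?_) (by simp), if_pos]
        · exact hz _ h (isConj_iff.2 ⟨q.out⁻¹, by rw [hval, inv_inv]⟩)
        · simp [hS, h]
        · simp only [hS, Finset.mem_filter, Finset.mem_univ, true_and, not_and]
          exact fun _ e => hi e.symm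
      · rw [dif_neg h, Finset.prod_eq_one]
        exact fun i _ => if_neg (by simp [hS, h])
    rw [Finset.prod_congr rfl fun q _ => hdisj q, Finset.prod_comm] at hV
    rw [hV]
    refine Finset.prod_congr rfl fun i _ => ?_
    rw [Finset.prod_ite_mem, Finset.univ_inter, Finset.prod_const]

open Classical in
/-- The number of fixed cosets and the sign of the action on cosets. -/
theorem fixed_congr (hno : ∀ H : Subgroup G, H.index ≠ 2) {t : G} (ht : t * t = 1) (K : Subgroup G) :
    ∃ f : ℕ, f * Nat.card K = Nat.card (centralizer ({t} : Set G))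
      * Nat.card {y : G // y ∈ K ∧ IsConj t y} ∧ f % 4 = K.index % 4 := by
  have := Fintype.ofFinite (G ⧸ K)
  set τ := MulAction.toPermHom G (G ⧸ K) t with hτ
  set F := Finset.univ.filter (fun q : G ⧸ K => t • q = q) with hF
  refine ⟨F.card, ?_, ?_⟩
  · have hpre : (QuotientGroup.mk : G → G ⧸ K) ⁻¹' (↑F) = {g : G | g⁻¹ * t * g ∈ (K : Set G)} := by
      ext g
      simp only [hF, Set.mem_preimage, Finset.coe_filter, Finset.mem_univ, true_and, Set.mem_ofPred_eq,
        SetLike.mem_coe]
      rw [MulAction.Quotient.smul_mk, eq_comm, QuotientGroup.eq, smul_eq_mul, mul_assoc]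
    have h1 := Nat.card_congr (QuotientGroup.preimageMkEquivSubgroupProdSet K (↑F))
    rw [hpre, Nat.card_prod, Nat.card_coe_set_eq (↑F : Set (G ⧸ K)), Set.ncard_coe_finset] at h1
    rw [mul_comm, ← h1]
    exact card_conj_into t (K : Set G)
  · have hsign : Equiv.Perm.sign τ = 1 :=
      eq_one_of_hom hno (A := ℤˣ) (IsPGroup.of_card (n := 1) (by simp))
        (Equiv.Perm.sign.comp (MulAction.toPermHom G (G ⧸ K))) t
    have hct : ∀ c ∈ τ.cycleType, c = 2 := by
      intro c hc
      have h1 := Equiv.Perm.dvd_of_mem_cycleType hc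
      have h2 := h1.trans (orderOf_dvd_of_pow_eq_one (n := 2) (by rw [hτ, ← map_pow, pow_two, ht, map_one]))
      exact ((Nat.dvd_prime Nat.prime_two).mp h2).resolve_left (Equiv.Perm.one_lt_of_mem_cycleType hc).ne'
    have hrep := Multiset.eq_replicate_card.mpr hct
    set k := Multiset.card τ.cycleType with hk
    have h1 := Equiv.Perm.sum_cycleType τ
    rw [hrep, Multiset.sum_replicate, smul_eq_mul] at h1
    have hs : τ.support.card + F.card = K.index := by
      have hsup : τ.support = Finset.univ.filter (fun q : G ⧸ K => ¬ t • q = q) := by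
        ext q
        simp [hτ]
      rw [hsup, hF, add_comm, Finset.card_filter_add_card_filter_not, Finset.card_univ, ← Nat.card_eq_fintype_card,
        ← index_eq_card]
    have hev : Even k := by
      rw [Equiv.Perm.sign_of_cycleType, hrep, Multiset.sum_replicate, Multiset.card_replicate, smul_eq_mul,
        pow_add, pow_mul'] at hsign
      by_contra hodd
      rw [Nat.not_even_iff_odd] at hodd
      rw [hodd.neg_one_pow] at hsign
      norm_num at hsign
    obtain ⟨e, he⟩ := hev
    omega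

/-- A conjugation invariant set all of whose centralisers in a 2-group are small has size divisible by a
power of two. -/
theorem two_pow_dvd_card {K : Subgroup G} {e j : ℕ} (hK : Nat.card K = 2 ^ e) (P : Set G)
    (hP : ∀ k ∈ K, ∀ y ∈ P, k * y * k⁻¹ ∈ P)
    (hcent : ∀ y ∈ P, Nat.card (K ⊓ centralizer ({y} : Set G) : Subgroup G) ≤ 2 ^ (e - j)) (hj : j ≤ e) :
    2 ^ j ∣ Nat.card P := by
  classical
  let inst : MulAction K P :=
    { smul := fun k y => ⟨k * y * (k : G)⁻¹, hP k k.2 y y.2⟩
      one_smul := fun y => Subtype.ext (by show ((1 : K) : G) * y * ((1 : K) : G)⁻¹ = y; simp)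
      mul_smul := fun k l y => Subtype.ext (by
        show ((k * l : K) : G) * y * ((k * l : K) : G)⁻¹ = k * (l * y * (l : G)⁻¹) * (k : G)⁻¹
        simp only [Subgroup.coe_mul]; group) }
  have := Fintype.ofFinite (orbitRel.Quotient K P)
  rw [Nat.card_congr (MulAction.selfEquivSigmaOrbits K P), Nat.card_sigma]
  refine Finset.dvd_sum fun ω _ => ?_
  have hidx : Nat.card (orbit K ω.out) = (stabilizer K ω.out).index := by
    rw [index_stabilizer, Nat.card_coe_set_eq]
  rw [hidx]
  set y := ω.out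
  have hst : Nat.card (stabilizer K y) ≤ 2 ^ (e - j) := by
    refine le_trans (le_of_eq ?_) (hcent y y.2)
    refine Nat.card_congr
      { toFun := fun k => ⟨k.1.1, k.1.2, mem_centralizer_singleton_iff.2 (mul_inv_eq_iff_eq_mul.1
          (congrArg Subtype.val (mem_stabilizer_iff.1 k.2)))⟩
        invFun := fun k => ⟨⟨k.1, k.2.1⟩, mem_stabilizer_iff.2 (Subtype.ext (mul_inv_eq_iff_eq_mul.2
          (mem_centralizer_singleton_iff.1 k.2.2)))⟩
        left_inv := fun k => rfl
        right_inv := fun k => rfl }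
  have hd : (stabilizer K y).index ∣ 2 ^ e := hK ▸ index_dvd_card _
  obtain ⟨i, -, hi⟩ := (Nat.dvd_prime_pow Nat.prime_two).1 hd
  have hmul := card_mul_index (stabilizer K y)
  rw [hK, hi] at hmul
  rw [hi]
  refine pow_dvd_pow 2 ?_
  have h3 : 2 ^ e ≤ 2 ^ (e - j + i) := by
    rw [pow_add, ← hmul]; exact Nat.mul_le_mul_right _ hst
  have := (Nat.pow_le_pow_iff_right (by omega : 1 < 2)).1 h3
  omega

open Classical in
/-- A sign character takes the value `-1` on an even number of fixed cosets. -/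
theorem two_dvd (hno : ∀ H : Subgroup G, H.index ≠ 2) {t : G} (ht : t * t = 1) (K : Subgroup G)
    (φ : K →* ℤˣ) :
    2 * Nat.card K ∣ Nat.card (centralizer ({t} : Set G))
      * Nat.card {y : G // (∃ h : y ∈ K, φ ⟨y, h⟩ = -1) ∧ IsConj t y} := by
  obtain ⟨m, hm, hprod⟩ := transfer_parts hno ht K (A := ℤˣ) (IsPGroup.of_card (n := 1) (by simp)) φ
    (fun y => if h : y ∈ K then φ ⟨y, h⟩ else 1) (fun k hk y hy _ => by
      have h' : k⁻¹ * y * k ∈ K := mul_mem (mul_mem (inv_mem hk) hy) hk
      rw [dif_pos h', dif_pos hy,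
        show (⟨_, h'⟩ : K) = (⟨k, hk⟩ : K)⁻¹ * ⟨y, hy⟩ * ⟨k, hk⟩ from Subtype.ext rfl, map_mul, map_mul, map_inv,
        mul_right_comm, inv_mul_cancel, one_mul])
    id (fun y hy _ => by simp only [id, dif_pos hy])
  have hcard : Nat.card {y : G // (y ∈ K ∧ (if h : y ∈ K then φ ⟨y, h⟩ else 1) = -1) ∧ IsConj t y}
      = Nat.card {y : G // (∃ h : y ∈ K, φ ⟨y, h⟩ = -1) ∧ IsConj t y} := by
    refine Nat.card_congr (Equiv.subtypeEquivRight fun y => and_congr_left fun _ => ?_)
    exact ⟨fun ⟨h, e⟩ => ⟨h, (dif_pos h).symm.trans e⟩, fun ⟨h, e⟩ => ⟨h, (dif_pos h).trans e⟩⟩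
  have h2 := hm (-1)
  rw [hcard] at h2
  rw [← h2]
  refine Nat.mul_dvd_mul_right ?_ _
  have h3 : ((-1 : ℤˣ)) ^ m (-1) = 1 := by
    simpa using hprod
  rcases Nat.even_or_odd (m (-1)) with he | ho
  · exact he.two_dvd
  · rw [ho.neg_one_pow] at h3; exact absurd h3 (by decide)

end Cfsg.Agent.H67.TwoSym
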