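import Cfsg.Agent.H67.TwoSym.Lift

/-!
# The normaliser of `T0` when it centralises the four group
-/

set_option autoImplicit false
set_option linter.unusedSectionVars false
set_option linter.unusedSimpArgs false
set_option linter.unusedTactic false
set_option linter.unreachableTactic false
set_option maxHeartbeats 2000000

namespace Cfsg.Agent.H67.TwoSym

open Subgroup Equiv Equiv.Perm

theorem wadd_eq_zero {o w : W} (h : wadd o w = (false, false)) : o = w := by
  revert o w; decide

namespace Setup

variable {G : Type*} [Group G] [Finite G] {k : ℕ} (S : Setup G k)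

/-- The data from which the case of large 2-parts is refuted. -/
def Side (Fr : Frame k) : Prop :=
  (∃ w ∈ normalizer (S.T0 : Set G), S.D w ∧ w * S.t * w⁻¹ = S.el true Fr.b ∧
    w * S.el false Fr.e1 = S.el false Fr.e1 * w) ∧
  Nat.card {y : G // (y ∈ normalizer (S.T0 : Set G) ∧
    y * S.el false Fr.e1 * y⁻¹ = S.el false Fr.e2) ∧ S.D y} = 16

/-- The exceptional configuration of six sets. -/
def Hex : Prop :=
  ∃ R : Rel G, R.toCoc = cocM true true (true, false) false false ∧ R.Faithful ∧
    R.grp = (normalizer (S.T0 : Set G) : Subgroup G) ∧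
    (∀ v z, S.D (R.el v z) ↔ v ∈ hexList) ∧
    (normalizer (S.T0 : Set G) : Subgroup G).index % 4 = 2

theorem hom_of_coord {R : Rel G} (hf : R.Faithful) (P : V → Bool) (hP : ∀ v w, P (vadd v w) = (P v ^^ P w)) :
    ∃ φ : R.grp →* ℤˣ, ∀ v w h, φ ⟨R.el v w, h⟩ = cond (P v) (-1) 1 := by
  refine ⟨MonoidHom.mk' (fun x => cond (P (R.mem_grp.1 x.2).choose) (-1) 1) (fun x y => ?_), fun v w h => ?_⟩
  · have hxy := (R.mem_grp.1 (x * y).2).choose_spec.choose_spec
    have hx := (R.mem_grp.1 x.2).choose_spec.choose_spec
    have hy := (R.mem_grp.1 y.2).choose_spec.choose_spec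
    have e := hxy.symm.trans ((Subgroup.coe_mul _ x y).trans ((congrArg₂ (· * ·) hx hy).trans (R.el_mul ..)))
    rw [(R.el_inj hf e).1, hP]
    cases P (R.mem_grp.1 x.2).choose <;> cases P (R.mem_grp.1 y.2).choose <;> rfl
  · show cond (P (R.mem_grp.1 h).choose) (-1 : ℤˣ) 1 = _
    rw [← (R.el_inj hf (R.mem_grp.1 h).choose_spec.choose_spec).1]

/-- The outcome of the analysis of the normaliser. -/
theorem bfix (hM : S.IsMp) :
    (512 ∣ Nat.card G ∧ (S.Side S.F ∨ S.Side S.geo.F')) ∨ S.Hex := by
  classical
  have hF := S.Mp_fix hM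
  set N := (normalizer (S.T0 : Set G) : Subgroup G) with hN
  have hF'b : S.el false (S.geo.F'.elP false true false false) = S.e false true true false false := by
    rw [S.geo.elP'_eq]; rfl
  obtain ⟨wb, hwb, δb, qB, hbt, hbe, hbs, hbq⟩ := S.exists_lift hM hF (Fr := S.F) (Or.inl rfl)
  obtain ⟨wc, hwc, δc, qC, hct', hce', hcs', hcq'⟩ := S.exists_lift hM hF (Fr := S.geo.F') (Or.inr rfl)
  change wb * S.t * wb⁻¹ = S.e true false true false false at hbt
  change wb * S.e false false false true false * wb⁻¹ = S.e false false δb true false at hbe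
  change wb * S.e false false false false true * wb⁻¹ = S.e false false false false true at hbs
  change wb * wb = S.e false qB false false false at hbq
  have hct : wc * S.t * wc⁻¹ = S.e true true true false false := by
    rw [hct', S.geo.elP'_eq]; rfl
  have hcq : wc * wc = S.e false qC false false false := by
    rw [hcq', S.geo.elP'_eq]; cases qC <;> rfl
  have hcs : wc * S.e false false false false true * wc⁻¹ = S.e false δc δc false true := by
    rw [S.geo.elP'_eq, S.geo.elP'_eq] at hce'
    change wc * S.e false false true false true * wc⁻¹ = _ at hce'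
    rw [show S.e false false false false true = S.e false false true false false * S.e false false true false true by
      rw [S.e_mul]; rfl, conj_prod, hF wc hwc, hce']
    cases δc <;> rw [← Setup.e, S.e_mul] <;> rfl
  have hce : wc * S.e false false false true false * wc⁻¹ = S.e false false false true false := by
    rw [S.geo.elP'_eq] at hcs'
    change wc * S.e false false true true false * wc⁻¹ = S.e false false true true false at hcs'
    rw [show S.e false false false true false = S.e false false true false false * S.e false false true true false by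
      rw [S.e_mul]; rfl, conj_prod, hF wc hwc, hcs', S.e_mul]
  -- their commutator
  obtain ⟨η, hη⟩ : ∃ η : W, wc * wb = S.e false η.1 η.2 false false * (wb * wc) := by
    set z := wc * wb * wc⁻¹ * wb⁻¹ with hz
    have hzT := S.Mp_commutator_mem hM hwc hwb
    obtain ⟨p, x, y, i, j, e⟩ := S.exists_e hzT
    have hrel : wc * wb = z * (wb * wc) := by rw [hz]; group
    have hcomp : ∀ X, ∀ X' X'' : G, wb * X * wb⁻¹ = X' → wc * X' * wc⁻¹ = X'' →
        ∀ Y' Y'' : G, wc * X * wc⁻¹ = Y' → wb * Y' * wb⁻¹ = Y'' → X'' = Y'' → z * X'' * z⁻¹ = X'' := by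
      intro X X' X'' h1 h2 Y' Y'' h3 h4 h5
      calc z * X'' * z⁻¹ = z * Y'' * z⁻¹ := by rw [h5]
        _ = z * (wb * (wc * X * wc⁻¹) * wb⁻¹) * z⁻¹ := by rw [h3, h4]
        _ = z * (wb * wc) * X * (z * (wb * wc))⁻¹ := by group
        _ = wc * (wb * X * wb⁻¹) * wc⁻¹ := by rw [← hrel]; group
        _ = X'' := by rw [h1, h2]
    have hze : z * S.e false false δb true false * z⁻¹ = S.e false false δb true false := by
      refine hcomp _ _ _ hbe ?_ _ _ hce hbe rfl
      rw [show S.e false false δb true false
        = S.e false false δb false false * S.e false false false true false by rw [S.e_mul]; simp,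
        conj_prod, hF wc hwc, hce]
    have hzs : z * S.e false δc δc false true * z⁻¹ = S.e false δc δc false true := by
      refine hcomp _ _ _ hbs hcs _ _ hcs ?_ rfl
      rw [show S.e false δc δc false true = S.e false δc δc false false * S.e false false false false true by
        rw [S.e_mul]; simp, conj_prod, hF wb hwb, hbs]
    rw [hz, e, mul_inv_eq_iff_eq_mul, S.e_commute_iff] at hze hzs
    obtain rfl : j = false := by revert hze; cases i <;> cases j <;> simp
    obtain rfl : i = false := by revert hzs; cases i <;> simp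
    obtain rfl : p = false := by
      cases p
      · rfl
      · exfalso
        have hsplit : S.e true x y false false = S.t * S.e false x y false false := by
          rw [← S.e_t, S.e_mul]; simp
        have h : z * (wb * z * wb⁻¹) = 1 := by
          have h1 : wc * (wb * wb) * wc⁻¹ = wb * wb := by rw [hbq]; exact hF wc hwc qB false
          calc z * (wb * z * wb⁻¹) = wc * (wb * wb) * wc⁻¹ * (wb * wb)⁻¹ := by rw [hz]; group
            _ = 1 := by rw [h1]; group
        rw [hz, e, hsplit, conj_prod, hbt, hF wb hwb, ← S.e_t, S.e_mul, S.e_mul, S.e_mul] at h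
        have := (S.e_eq_one h).2.2.1
        revert this; cases y <;> simp
    exact ⟨(x, y), by rw [hrel, hz, e]⟩
  let ae := S.e false true false false false
  let be := S.e false false true false false
  have hz0 : ∀ x y, cond x ae 1 * cond y be 1 = S.e false x y false false := by
    intro x y
    cases x <;> cases y <;> simp only [ae, be, cond_true, cond_false, one_mul, mul_one, S.e_one]
    rw [S.e_mul]; rfl
  have hconjrel : ∀ (g : G) p x y i j x' y', g * S.e p x y i j * g⁻¹ = S.e p x' y' i j →
      g * S.e p x y i j = S.e false (x ^^ x') (y ^^ y') false false * (S.e p x y i j * g) := by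
    intro g p x y i j x' y' h
    rw [mul_inv_eq_iff_eq_mul.1 h, ← mul_assoc (S.e false _ _ _ _), S.e_mul]
    congr 1
    cases x <;> cases x' <;> cases y <;> cases y' <;> cases p <;> cases i <;> cases j <;> rfl
  have hcZ : ∀ g ∈ N, ∀ x y, S.e false x y false false * g = g * S.e false x y false false :=
    fun g hg x y => (mul_inv_eq_iff_eq_mul.1 (hF g hg x y)).symm
  let R : Rel G :=
    { cocM δb δc η qB qC with
      za := ae
      zb := be
      g0 := S.e true false false false false
      g1 := S.e false false false true false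
      g2 := S.e false false false false true
      g3 := wb
      g4 := wc
      za_sq := (S.e_sq_eq_one_iff ..).2 rfl
      zb_sq := (S.e_sq_eq_one_iff ..).2 rfl
      zab := (S.e_commute_iff ..).2 rfl
      za_g := ⟨(S.e_commute_iff ..).2 rfl, (S.e_commute_iff ..).2 rfl, (S.e_commute_iff ..).2 rfl,
        hcZ wb hwb .., hcZ wc hwc ..⟩
      zb_g := ⟨(S.e_commute_iff ..).2 rfl, (S.e_commute_iff ..).2 rfl, (S.e_commute_iff ..).2 rfl,
        hcZ wb hwb .., hcZ wc hwc ..⟩
      r0 := ((S.e_sq_eq_one_iff ..).2 rfl).trans (by simp [cocM])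
      r1 := ((S.e_sq_eq_one_iff ..).2 rfl).trans (by simp [cocM])
      r2 := ((S.e_sq_eq_one_iff ..).2 rfl).trans (by simp [cocM])
      r3 := hbq.trans (by simp only [cocM]; rw [hz0])
      r4 := hcq.trans (by simp only [cocM]; rw [hz0])
      r10 := by simp only [cocM, cond_false, one_mul, mul_one]; exact (S.e_commute_iff ..).2 rfl
      r20 := by simp only [cocM, cond_false, one_mul, mul_one]; exact (S.e_commute_iff ..).2 rfl
      r21 := by simp only [cocM]; rw [hz0, S.e_mul, S.e_mul, S.e_mul]; rfl
      r30 := by
        simp only [cocM]; rw [hz0]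
        exact hconjrel wb true false false false false false true (by rw [S.e_t]; exact hbt)
      r31 := by
        simp only [cocM]; rw [hz0]
        exact (hconjrel wb false false false true false false δb hbe).trans (by cases δb <;> rfl)
      r32 := by
        simp only [cocM]; rw [hz0]
        exact hconjrel wb false false false false true false false hbs
      r40 := by
        simp only [cocM]; rw [hz0]
        exact hconjrel wc true false false false false true true (by rw [S.e_t]; exact hct)
      r41 := by
        simp only [cocM]; rw [hz0]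
        exact hconjrel wc false false false true false false false hce
      r42 := by
        simp only [cocM]; rw [hz0]
        exact (hconjrel wc false false false false true δc δc hcs).trans (by cases δc <;> rfl)
      r43 := by simp only [cocM]; rw [hz0]; exact hη }
  have hel : ∀ p i j v3 v4 x y, R.el (p, i, j, v3, v4) (x, y) = S.e p x y i j * (cond v3 wb 1 * cond v4 wc 1) := by
    intro p i j v3 v4 x y
    simp only [Rel.el, Rel.zeta, Rel.gen, R]
    rw [hz0]
    cases p <;> cases i <;> cases j <;> cases x <;> cases y <;>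
      simp only [cond_true, cond_false, mul_one, one_mul, ← mul_assoc, S.e_mul, Bool.xor_false, Bool.false_xor,
        Bool.and_false, Bool.false_and, Bool.and_self, Bool.xor_self, S.e_one] <;> rfl
  have helN : ∀ v z, R.el v z ∈ N := by
    rintro ⟨p, i, j, v3, v4⟩ ⟨x, y⟩
    rw [hel]
    refine mul_mem (S.T0_le_N (S.e_mem ..)) (mul_mem ?_ ?_)
    · cases v3; exacts [one_mem _, hwb]
    · cases v4; exacts [one_mem _, hwc]
  have htrans : ∀ v z, R.el v z * S.t * (R.el v z)⁻¹
      = S.e true v.2.2.2.2 (v.2.2.2.1 ^^ v.2.2.2.2) false false := by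
    rintro ⟨p, i, j, v3, v4⟩ ⟨x, y⟩
    rw [hel]
    have h4 : cond v4 wc 1 * S.t * (cond v4 wc 1)⁻¹ = S.e true v4 v4 false false := by
      cases v4
      · rw [cond_false, one_mul, inv_one, mul_one, S.e_t]
      · exact hct
    have h3 : cond v3 wb 1 * S.e true v4 v4 false false * (cond v3 wb 1)⁻¹
        = S.e true v4 (v3 ^^ v4) false false := by
      cases v3
      · rw [cond_false, one_mul, inv_one, mul_one, Bool.false_xor]
      · rw [cond_true, show S.e true v4 v4 false false = S.t * S.e false v4 v4 false false by
          rw [← S.e_t, S.e_mul]; simp, conj_prod, hbt, hF wb hwb, S.e_mul]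
        cases v4 <;> rfl
    rw [show S.e p x y i j * (cond v3 wb 1 * cond v4 wc 1) * S.t * (S.e p x y i j * (cond v3 wb 1 * cond v4 wc 1))⁻¹
      = S.e p x y i j * (cond v3 wb 1 * (cond v4 wc 1 * S.t * (cond v4 wc 1)⁻¹) * (cond v3 wb 1)⁻¹) *
        (S.e p x y i j)⁻¹ by group, h4, h3]
    exact S.Mp_conj_comm_Z _ _ _ (S.e_mem ..)
  have hf : R.Faithful := by
    rintro ⟨p, i, j, v3, v4⟩ ⟨x, y⟩ h
    have h1 := htrans (p, i, j, v3, v4) (x, y)
    rw [h, one_mul, inv_one, mul_one, ← S.e_t] at h1
    obtain ⟨-, rfl, h3, -, -⟩ := S.e_inj h1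
    obtain rfl : v3 = false := by revert h3; cases v3 <;> simp
    rw [hel, cond_false, cond_false, mul_one, mul_one] at h
    obtain ⟨rfl, rfl, rfl, rfl, rfl⟩ := S.e_eq_one h
    exact ⟨rfl, rfl⟩
  have hgrp : R.grp = N := by
    refine Subgroup.eq_of_le_of_card_ge ?_ (by rw [R.card_grp hf, hN, S.Mp_card_N hM])
    rintro g ⟨v, z, rfl⟩
    exact helN v z
  have hmem : ∀ g, g ∈ N ↔ ∃ v z, g = R.el v z := fun g => hgrp ▸ R.mem_grp
  have hDflip : ∀ v z, S.D (R.el v z) ↔ S.D (R.el v (false, false)) := by
    rintro ⟨p, i, j, v3, v4⟩ ⟨x, y⟩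
    have key : ∀ x y x' y', S.D (R.el (p, i, j, v3, v4) (x, y)) → S.D (R.el (p, i, j, v3, v4) (x', y')) := by
      intro x y x' y' h
      have h1 := S.D_mul_Z0 hM h (x ^^ x') (y ^^ y') (hcZ _ (helN _ _) ..)
      rw [hel, ← hcZ (S.e p x y i j * (cond v3 wb 1 * cond v4 wc 1)) (hel p i j v3 v4 x y ▸ helN _ _),
        ← mul_assoc, S.e_mul] at h1
      rw [hel]
      revert h1
      cases x <;> cases x' <;> cases y <;> cases y' <;> cases p <;> cases i <;> cases j <;> exact id
    exact ⟨key _ _ _ _, key _ _ _ _⟩
  let C := cocM δb δc η qB qC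
  have hcomm : ∀ v u z w, R.el v z * R.el u w = R.el u w * R.el v z ↔ C.om v u = (false, false) :=
    fun v u z w => R.commute_iff hf v u z w
  let f : V → Bool := fun v => decide (S.D (R.el v (false, false)))
  set Dl := build f C.outerM innerM with hDl
  have hDmem : ∀ v, v ∈ Dl ↔ S.D (R.el v (false, false)) := by
    rintro ⟨p, i, j, v3, v4⟩
    rw [hDl, mem_build]
    constructor
    · rintro (h | ⟨-, h⟩)
      · simp only [innerM, List.mem_cons, List.not_mem_nil, or_false, Prod.mk.injEq] at h
        rcases h with ⟨rfl, rfl, rfl, rfl, rfl⟩ | ⟨rfl, rfl, rfl, rfl, rfl⟩ | ⟨rfl, rfl, rfl, rfl, rfl⟩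
        all_goals rw [hel, cond_false, cond_false, mul_one, mul_one, S.D_e_iff_Mp hM]; decide
      · exact of_decide_eq_true h
    · intro h
      by_cases hv : v3 = false ∧ v4 = false
      · obtain ⟨rfl, rfl⟩ := hv
        left
        rw [hel, cond_false, cond_false, mul_one, mul_one, S.D_e_iff_Mp hM] at h
        obtain ⟨rfl, h1⟩ := h
        revert h1
        cases i <;> cases j <;> simp [innerM]
      · right
        refine ⟨List.mem_filter.2 ⟨mem_allV _, ?_⟩, decide_eq_true h⟩
        have hq : C.q (p, i, j, v3, v4) = (false, false) := (R.sq_eq_one_iff hf _ _).1 (S.D_sq h)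
        cases v3 <;> cases v4 <;> simp [hq] at hv ⊢
  have hnd : Dl.Nodup := nodup_build f _ _ (nodup_allV.filter _) (by decide) (fun v hv h => by
    have h1 := (List.mem_filter.1 hv).2
    simp only [innerM, List.mem_cons, List.not_mem_nil, or_false] at h
    rcases h with rfl | rfl | rfl <;> simp at h1)
  have hcount : ∀ P : V → Bool, Nat.card {g : G // (∃ v z, g = R.el v z ∧ P v = true) ∧ S.D g}
      = 4 * (Dl.filter P).length := by
    intro P
    have e : (Dl.filter P).length = Nat.card {v : V // v ∈ Dl.filter P} := by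
      rw [Nat.card_eq_fintype_card, Fintype.card_of_subtype (Dl.filter P).toFinset (fun v => List.mem_toFinset),
        List.toFinset_card_of_nodup (hnd.filter _)]
    have e4 : (4 : ℕ) = Nat.card W := by rw [Nat.card_eq_fintype_card]; rfl
    rw [e, e4, ← Nat.card_prod]
    refine (Nat.card_congr (Equiv.ofBijective (fun x => ⟨R.el x.2.1 x.1,
      ⟨x.2.1, x.1, rfl, (List.mem_filter.1 x.2.2).2⟩, (hDflip _ _).2 ((hDmem _).1 (List.mem_filter.1 x.2.2).1)⟩)
      ⟨?_, ?_⟩)).symm
    · rintro ⟨z, v, hv⟩ ⟨z', v', hv'⟩ h
      obtain ⟨rfl, rfl⟩ := R.el_inj hf (congrArg Subtype.val h)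
      rfl
    · rintro ⟨_, ⟨v, z, rfl, hP⟩, hD⟩
      exact ⟨(z, ⟨v, List.mem_filter.2 ⟨(hDmem v).2 ((hDflip v z).1 hD), hP⟩⟩), rfl⟩
  have hp : IsPGroup 2 N := IsPGroup.of_card (n := 7) (S.Mp_card_N hM)
  have hfull : C.full Dl = true := by
    refine List.all_eq_true.2 fun s hs => ?_
    have hsD := (hDmem s).1 hs
    have h32 : Nat.card (N ⊓ centralizer ({R.el s (false, false)} : Set G) : Subgroup G) = 32 := by
      refine le_antisymm (S.card_centralizer_le_of_D hsD hp) ?_
      let L := allV.filter fun w => C.om s w == (false, false)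
      have hL2 : Nat.card (W × {w : V // w ∈ L}) = 4 * L.length := by
        rw [Nat.card_prod, Nat.card_eq_fintype_card, Nat.card_eq_fintype_card,
          Fintype.card_of_subtype L.toFinset (fun v => List.mem_toFinset),
          List.toFinset_card_of_nodup (nodup_allV.filter _)]
        rfl
      have h8 : 32 ≤ 4 * L.length := by
        have := kerM δb δc η qB qC s
        simp only [L, C]; omega
      refine h8.trans (hL2 ▸ Nat.card_le_card_of_injective
        (fun x => ⟨R.el x.2.1 x.1, helN _ _, mem_centralizer_singleton_iff.2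
          (((hcomm s x.2.1 _ x.1).2 (by simpa using (List.mem_filter.1 x.2.2).2))).symm⟩) ?_)
      rintro ⟨z, v, hv⟩ ⟨z', v', hv'⟩ h
      obtain ⟨rfl, rfl⟩ := R.el_inj hf (congrArg Subtype.val h)
      rfl
    obtain ⟨h12, xx, yy, hxx, hyy, hxy⟩ := S.extremal hsD h32
    rw [S.card_D_T0_Mp hM] at h12
    refine full_step _ Dl hnd (fun v => wadd_self _) hs ?_ ?_
    · have h2 := hcount fun w => C.om s w == (false, false)
      have he : Nat.card {g : G // (∃ v z, g = R.el v z ∧ (C.om s v == (false, false)) = true) ∧ S.D g} = 12 := by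
        rw [← h12]
        refine Nat.card_congr (Equiv.subtypeEquivRight fun g => and_congr_left fun _ => ?_)
        constructor
        · rintro ⟨v, z, rfl, h⟩
          exact ⟨helN v z, ((hcomm s v _ z).2 (by simpa using h)).symm⟩
        · rintro ⟨hg, hgs⟩
          obtain ⟨v, z, rfl⟩ := (hmem g).1 hg
          exact ⟨v, z, rfl, by simpa using (hcomm s v _ z).1 hgs.symm⟩
      omega
    · obtain ⟨v, z, rfl⟩ := (hmem xx).1 hxx.1.1
      obtain ⟨v', z', rfl⟩ := (hmem yy).1 hyy.1.1
      exact ⟨v, (hDmem v).2 ((hDflip v z).1 hxx.2), v', (hDmem v').2 ((hDflip v' z').1 hyy.2),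
        (hcomm s v _ z).1 hxx.1.2.symm, (hcomm s v' _ z').1 hyy.1.2.symm,
        fun h => hxy ((hcomm v v' z z').2 h)⟩
  -- every linear character takes the value one an even number of times
  have hpar : ∀ P : V → Bool, (∀ v w, P (vadd v w) = (P v ^^ P w)) →
      P (false, false, false, false, false) = false → P (vsum Dl) = false := by
    intro P hP h0
    obtain ⟨φ, hφ⟩ := hom_of_coord hf P hP
    have h1 := two_dvd S.hno S.t_sq R.grp φ
    have h2 : Nat.card {y : G // (∃ h : y ∈ R.grp, φ ⟨y, h⟩ = -1) ∧ IsConj S.t y} = 4 * (Dl.filter P).length := by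
      rw [← hcount P]
      refine Nat.card_congr (Equiv.subtypeEquivRight fun y => and_congr_left fun _ => ?_)
      constructor
      · rintro ⟨h, hv⟩
        obtain ⟨v, z, rfl⟩ := h
        have hv := (hφ v z (R.el_mem v z)).symm.trans hv
        refine ⟨v, z, rfl, ?_⟩
        cases hPv : P v
        · rw [hPv] at hv; exact absurd hv (by decide)
        · rfl
      · rintro ⟨v, z, rfl, hv⟩
        exact ⟨R.el_mem v z, by rw [hφ, hv]; rfl⟩
    rw [h2, S.card_C, R.card_grp hf] at h1
    have h3 : 2 ∣ S.geo.κ * (Dl.filter P).length := by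
      obtain ⟨c, hc⟩ := h1
      exact ⟨c, by nlinarith⟩
    have h4 : 2 ∣ (Dl.filter P).length :=
      (Nat.Coprime.dvd_mul_left (Nat.coprime_two_left.2 S.geo.κ_odd)).1 h3
    rw [vsum_coord P hP h0, decide_eq_false_iff_not]
    omega
  have hsum : vsum Dl = (false, false, false, false, false) := by
    have e0 := hpar (fun v => v.1) (fun v w => rfl) rfl
    have e1 := hpar (fun v => v.2.1) (fun v w => rfl) rfl
    have e2 := hpar (fun v => v.2.2.1) (fun v w => rfl) rfl
    have e3 := hpar (fun v => v.2.2.2.1) (fun v w => rfl) rfl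
    have e4 := hpar (fun v => v.2.2.2.2) (fun v w => rfl) rfl
    revert e0 e1 e2 e3 e4
    generalize vsum Dl = v
    obtain ⟨v0, v1, v2, v3, v4⟩ := v
    rintro rfl rfl rfl rfl rfl
    rfl
  have hgood := Coc.search_sound _ _ f _ _ (searchM δb δc η qB qC) hfull
  rw [← hDl, goodM, hsum] at hgood
  obtain ⟨fx, hfx, hmod⟩ := fixed_congr S.hno S.t_sq N
  have hall : Nat.card {g : G // g ∈ N ∧ IsConj S.t g} = 4 * Dl.length := by
    have h := hcount fun _ => true
    rw [List.filter_eq_self.2 (by simp)] at h
    rw [← h]
    exact Nat.card_congr (Equiv.subtypeEquivRight fun g => and_congr_left fun _ => by simp [hmem])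
  rw [S.card_C, S.Mp_card_N hM, hall] at hfx
  have hfxe : fx = S.geo.κ * Dl.length := by nlinarith
  have hidx := N.card_mul_index
  rw [S.Mp_card_N hM] at hidx
  simp only [bne_self_eq_false, Bool.false_or, Bool.or_eq_true, Bool.and_eq_true, beq_iff_eq,
    Bool.not_eq_true', List.all_eq_true] at hgood
  rcases hgood with ⟨hlen, hside⟩ | ⟨⟨⟨⟨⟨⟨hdb, hdc⟩, hη'⟩, hqB⟩, hqC⟩, hlen⟩, hhex⟩
  · left
    have h4 : N.index % 4 = 0 := by
      rw [← hmod, hfxe, Nat.mul_mod]
      rcases hlen with h | h <;> rw [h] <;> simp
    refine ⟨⟨N.index / 4, by omega⟩, ?_⟩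
    have hkey : ∀ (u : V) (zu : W) (v : V) (z w : W),
        R.el v z * R.el u zu * (R.el v z)⁻¹ = R.zeta w * R.el u zu ↔ C.om v u = w := by
      intro u zu v z w
      rw [mul_inv_eq_iff_eq_mul, R.el_comm, mul_assoc, mul_left_inj]
      constructor
      · intro h
        have h1 : R.zeta (wadd (C.om v u) w) = 1 := by rw [← R.zeta_add, h, R.zeta_add, wadd_self, R.zeta_zero]
        rw [R.zeta_eq_one hf] at h1
        exact wadd_eq_zero h1
      · exact fun h => by rw [← h]
    have hza : R.zeta (true, false) = S.e false true false false false := by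
      simp only [Rel.zeta, R]; exact hz0 true false
    rcases hside with hB | hC
    · refine Or.inl ⟨?_, ?_⟩
      · simp only [Coc.sideB, Bool.and_eq_true, List.any_eq_true, beq_iff_eq, Bool.not_eq_true'] at hB
        obtain ⟨⟨⟨p, i, j, v3, v4⟩, hv, ⟨h3, h4'⟩, hom⟩, -⟩ := hB
        obtain rfl : v3 = true := h3
        obtain rfl : v4 = false := h4'
        refine ⟨_, helN _ (false, false), (hDmem _).1 hv, ?_, ?_⟩
        · rw [htrans]
          show S.el true (S.F.elP false true false false) = _
          rw [S.elP01]
        · have h1 := (hcomm _ (false, true, false, false, false) (false, false) (false, false)).2 hom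
          rw [hel false true false false false false false] at h1
          simpa [Setup.e, S.F.elP_e1, -isConj_iff] using h1
      · simp only [Coc.sideB, Bool.and_eq_true, beq_iff_eq] at hB
        rw [show (16 : ℕ) = 4 * (Dl.filter fun v => C.om v (false, true, false, false, false) == (true, false)).length
          by rw [hB.2], ← hcount]
        refine Nat.card_congr (Equiv.subtypeEquivRight fun y => and_congr_left fun _ => ?_)
        have hu : R.el (false, true, false, false, false) (false, false) = S.el false S.F.e1 := by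
          rw [hel]; simp [Setup.e, S.F.elP_e1]
        have he2 : S.el false S.F.e2 = R.zeta (true, false) * R.el (false, true, false, false, false) (false, false) := by
          rw [hza, hu, ← S.F.a_mul_e1, Setup.e, S.F.elP_a, S.el_mul]; rfl
        constructor
        · rintro ⟨hy, h⟩
          obtain ⟨v, z, rfl⟩ := (hmem y).1 hy
          rw [he2, ← hu] at h
          exact ⟨v, z, rfl, by simpa using (hkey _ _ _ _ _).1 h⟩
        · rintro ⟨v, z, rfl, h⟩
          refine ⟨helN _ _, ?_⟩
          rw [he2, ← hu]
          exact (hkey _ _ _ _ _).2 (by simpa using h)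
    · refine Or.inr ⟨?_, ?_⟩
      · simp only [Coc.sideC, Bool.and_eq_true, List.any_eq_true, beq_iff_eq, Bool.not_eq_true'] at hC
        obtain ⟨⟨⟨p, i, j, v3, v4⟩, hv, ⟨h3, h4'⟩, hom⟩, -⟩ := hC
        obtain rfl : v3 = false := h3
        obtain rfl : v4 = true := h4'
        refine ⟨_, helN _ (false, false), (hDmem _).1 hv, ?_, ?_⟩
        · rw [htrans]
          show S.el true (S.F.elP true true false false) = _
          rw [S.elP11, S.geo.b']
        · have h1 := (hcomm _ (false, false, true, false, false) (false, false) (false, true)).2 hom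
          rw [hel false false true false false false true, cond_false, cond_false, mul_one, mul_one] at h1
          rw [S.geo.e1'_eq]
          exact h1
      · simp only [Coc.sideC, Bool.and_eq_true, beq_iff_eq] at hC
        rw [show (16 : ℕ) = 4 * (Dl.filter fun v => C.om v (false, false, true, false, false) == (true, false)).length
          by rw [hC.2], ← hcount]
        refine Nat.card_congr (Equiv.subtypeEquivRight fun y => and_congr_left fun _ => ?_)
        have hu : R.el (false, false, true, false, false) (false, true) = S.el false S.geo.F'.e1 := by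
          rw [hel, cond_false, cond_false, mul_one, mul_one, S.geo.e1'_eq]; rfl
        have he2 : S.el false S.geo.F'.e2 = R.zeta (true, false) * R.el (false, false, true, false, false) (false, true) := by
          rw [hza, hu, ← S.geo.F'.a_mul_e1, S.geo.a', Setup.e, S.F.elP_a, S.el_mul]; rfl
        constructor
        · rintro ⟨hy, h⟩
          obtain ⟨v, z, rfl⟩ := (hmem y).1 hy
          rw [he2, ← hu] at h
          exact ⟨v, z, rfl, by simpa using (hkey _ _ _ _ _).1 h⟩
        · rintro ⟨v, z, rfl, h⟩
          refine ⟨helN _ _, ?_⟩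
          rw [he2, ← hu]
          exact (hkey _ _ _ _ _).2 (by simpa using h)
  · right
    subst hdb hdc hη' hqB hqC
    refine ⟨R, rfl, hf, hgrp, fun v z => ?_, ?_⟩
    · rw [hDflip, ← hDmem]
      have hsub : hexList ⊆ Dl := fun x hx => by simpa using hhex x hx
      have hperm : hexList.Perm Dl :=
        (List.subperm_of_subset (by decide) hsub).perm_of_length_le (by rw [hlen]; rfl)
      exact hperm.mem_iff.symm
    · show N.index % 4 = 2
      rw [← hmod, hfxe, hlen]
      obtain ⟨d, hd⟩ := S.geo.κ_odd
      omega

end Setup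

end Cfsg.Agent.H67.TwoSym
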