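import Cfsg.Agent.H67.TwoSym.Model

/-!
# The finite checks

A configuration is a list of vectors in which every member commutes with exactly two others, and these two do not
commute with each other.
-/

set_option autoImplicit false

namespace Cfsg.Agent.H67.TwoSym

/-- Whether two vectors commute. -/
def Coc.adj (d : Coc) (s w : V) : Bool := (w != s) && d.om s w == (false, false)

/-- The configuration condition. -/
def Coc.full (d : Coc) (D : List V) : Bool :=
  D.all fun s => match D.filter (d.adj s) with
    | [x, y] => d.om x y != (false, false)
    | _ => false

/-- A member with at most two neighbours, not commuting when two. -/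
def Coc.sparse (d : Coc) (D : List V) (s : V) : Bool :=
  match D.filter (d.adj s) with
  | [] => true
  | [_] => true
  | [x, y] => d.om x y != (false, false)
  | _ => false

/-- Whether a vector may be added to a partial configuration. -/
def Coc.okAdd (d : Coc) (v : V) (acc : List V) : Bool :=
  d.sparse (v :: acc) v && (acc.filter (d.adj v)).all (d.sparse (v :: acc))

/-- The vectors chosen by `f` added to a partial configuration. -/
def build (f : V → Bool) : List V → List V → List V
  | [], acc => acc
  | v :: vs, acc => build f vs (if f v then v :: acc else acc)

/-- A pruned search through all configurations. -/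
def Coc.search (d : Coc) (P : List V → Bool) : List V → List V → Bool
  | [], acc => !(d.full acc) || P acc
  | v :: vs, acc => d.search P vs acc && (if d.okAdd v acc then d.search P vs (v :: acc) else true)

theorem sublist_build (f : V → Bool) : ∀ (l acc : List V), acc.Sublist (build f l acc)
  | [], acc => List.Sublist.refl acc
  | v :: vs, acc => by
    by_cases h : f v = true
    · simp only [build, h, if_true]
      exact (List.sublist_cons_self v acc).trans (sublist_build f vs (v :: acc))
    · simp only [build, h]
      exact sublist_build f vs acc

theorem sparse_of_full (d : Coc) {D D' : List V} (hs : D'.Sublist D) (hf : d.full D = true) {s : V}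
    (h : s ∈ D') : d.sparse D' s = true := by
  have h1 := (List.all_eq_true.1 hf) s (hs.subset h)
  have hsub : (D'.filter (d.adj s)).Sublist (D.filter (d.adj s)) := hs.filter _
  revert h1 hsub
  unfold Coc.sparse
  generalize D.filter (d.adj s) = L
  generalize D'.filter (d.adj s) = L'
  match L with
  | [] => simp
  | [_] => simp
  | x :: y :: z :: L => simp
  | [x, y] =>
    intro h1 hsub
    match L' with
    | [] => rfl
    | [_] => rfl
    | [x', y'] =>
      have e := hsub.eq_of_length rfl
      simp only [List.cons.injEq, and_true] at e
      obtain ⟨rfl, rfl⟩ := e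
      exact h1
    | a :: b :: c :: L' => exact absurd hsub.length_le (by simp)

theorem Coc.search_sound (d : Coc) (P : List V → Bool) (f : V → Bool) :
    ∀ (l acc : List V), d.search P l acc = true → d.full (build f l acc) = true →
      P (build f l acc) = true
  | [], acc, h, hf => by
    simp only [Coc.search, build] at h hf ⊢
    rw [hf] at h
    simpa using h
  | v :: vs, acc, h, hf => by
    simp only [Coc.search, Bool.and_eq_true] at h
    simp only [build] at hf ⊢
    by_cases hv : f v = true
    · rw [if_pos hv] at hf ⊢
      have hsub := sublist_build f vs (v :: acc)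
      have hok : d.okAdd v acc = true := by
        rw [Coc.okAdd, Bool.and_eq_true, List.all_eq_true]
        exact ⟨sparse_of_full d hsub hf (by simp), fun s hs =>
          sparse_of_full d hsub hf (List.mem_cons_of_mem _ (List.mem_filter.1 hs).1)⟩
      rw [if_pos hok] at h
      exact d.search_sound P f vs (v :: acc) h.2 hf
    · rw [if_neg hv] at hf ⊢
      exact d.search_sound P f vs acc h.1 hf

/-- All vectors. -/
def allV : List V :=
  [false, true].flatMap fun a => [false, true].flatMap fun b => [false, true].flatMap fun c =>
    [false, true].flatMap fun d => [false, true].map fun e => (a, b, c, d, e)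

theorem mem_allV : ∀ v : V, v ∈ allV := by decide

theorem nodup_allV : allV.Nodup := by decide

/-- The sum of a list of vectors. -/
def vsum : List V → V
  | [] => (false, false, false, false, false)
  | v :: vs => vadd v (vsum vs)

/-- The data of the case in which only `ta` is fused to `t`. -/
def cocL (β η₁ η₂ : Bool) : Coc where
  w10 := (false, false)
  w20 := (false, false)
  w21 := (false, false)
  w30 := (false, false)
  w31 := (false, false)
  w32 := (true, false)
  w40 := (true, false)
  w41 := (β, false)
  w42 := (η₁, false)
  w43 := (η₂, false)
  s0 := (false, false)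
  s1 := (false, false)
  s2 := (false, false)
  s3 := (false, false)
  s4 := (false, false)

/-- The three vectors of conjugates inside `T0`. -/
def innerL : List V :=
  [(true, false, false, false, false), (true, false, false, true, false), (true, true, true, false, false)]

/-- The candidates outside `T0`. -/
def Coc.outerL (d : Coc) : List V := allV.filter fun v => v.2.2.2.2 && d.q v == (false, false)

theorem searchL : ∀ β η₁ η₂ : Bool,
    (cocL β η₁ η₂).search (fun D => D.length % 2 == 0) (cocL β η₁ η₂).outerL innerL = true := by
  decide +kernel

/-- The data of the case in which the normaliser of `T0` fixes `⟨a, b⟩` pointwise. -/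
def cocM (δb δc : Bool) (η : W) (qB qC : Bool) : Coc where
  w10 := (false, false)
  w20 := (false, false)
  w21 := (true, false)
  w30 := (false, true)
  w31 := (false, δb)
  w32 := (false, false)
  w40 := (true, true)
  w41 := (false, false)
  w42 := (δc, δc)
  w43 := η
  s0 := (false, false)
  s1 := (false, false)
  s2 := (false, false)
  s3 := (qB, false)
  s4 := (qC, false)

/-- The three vectors of conjugates inside `T0`. -/
def innerM : List V :=
  [(true, false, false, false, false), (true, true, false, false, false), (true, false, true, false, false)]

/-- The candidates outside `T0`. -/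
def Coc.outerM (d : Coc) : List V := allV.filter fun v => (v.2.2.2.1 || v.2.2.2.2) && d.q v == (false, false)

/-- A conjugate translating `t` to `tb`, centralising `e1`, and four conjugates moving `e1`. -/
def Coc.sideB (d : Coc) (D : List V) : Bool :=
  (D.any fun v => v.2.2.2.1 && !v.2.2.2.2 && d.om v (false, true, false, false, false) == (false, false)) &&
    (D.filter fun v => d.om v (false, true, false, false, false) == (true, false)).length == 4

/-- The mirror image of `sideB`. -/
def Coc.sideC (d : Coc) (D : List V) : Bool :=
  (D.any fun v => !v.2.2.2.1 && v.2.2.2.2 && d.om v (false, false, true, false, false) == (false, false)) &&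
    (D.filter fun v => d.om v (false, false, true, false, false) == (true, false)).length == 4

/-- The six vectors of the exceptional configuration. -/
def hexList : List V :=
  [(true, false, false, false, false), (true, true, false, false, false), (true, false, true, false, false),
   (true, false, false, true, true), (true, false, true, false, true), (true, true, false, true, false)]

/-- The configurations whose sum vanishes. -/
def goodM (δb δc : Bool) (η : W) (qB qC : Bool) (D : List V) : Bool :=
  vsum D != (false, false, false, false, false) ||
    ((D.length == 8 || D.length == 12) && ((cocM δb δc η qB qC).sideB D || (cocM δb δc η qB qC).sideC D)) ||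
    (δb && δc && η == (true, false) && !qB && !qC && D.length == 6 && hexList.all fun v => D.contains v)

theorem searchM : ∀ δb δc : Bool, ∀ η : W, ∀ qB qC : Bool, (cocM δb δc η qB qC).search (goodM δb δc η qB qC)
    (cocM δb δc η qB qC).outerM innerM = true := by
  decide +kernel

end Cfsg.Agent.H67.TwoSym

namespace Cfsg.Agent.H67.TwoSym

theorem mem_build (f : V → Bool) : ∀ (l acc : List V) (v : V),
    v ∈ build f l acc ↔ v ∈ acc ∨ (v ∈ l ∧ f v = true)
  | [], acc, v => by simp [build]
  | w :: vs, acc, v => by
    rw [build, mem_build f vs]
    by_cases h : f w = true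
    · simp only [h, if_true, List.mem_cons]
      constructor
      · rintro ((rfl | h1) | ⟨h1, h2⟩)
        exacts [Or.inr ⟨Or.inl rfl, h⟩, Or.inl h1, Or.inr ⟨Or.inr h1, h2⟩]
      · rintro (h1 | ⟨rfl | h1, h2⟩)
        exacts [Or.inl (Or.inr h1), Or.inl (Or.inl rfl), Or.inr ⟨h1, h2⟩]
    · simp only [h]
      constructor
      · rintro (h1 | ⟨h1, h2⟩)
        exacts [Or.inl h1, Or.inr ⟨List.mem_cons_of_mem _ h1, h2⟩]
      · rintro (h1 | ⟨h1, h2⟩)
        · exact Or.inl h1
        · rcases List.mem_cons.1 h1 with rfl | h1
          exacts [absurd h2 h, Or.inr ⟨h1, h2⟩]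

theorem nodup_build (f : V → Bool) : ∀ (l acc : List V), l.Nodup → acc.Nodup → (∀ v ∈ l, v ∉ acc) →
    (build f l acc).Nodup
  | [], acc, _, h, _ => h
  | w :: vs, acc, hl, ha, hd => by
    rw [build]
    obtain ⟨hw, hvs⟩ := List.nodup_cons.1 hl
    by_cases h : f w = true
    · rw [if_pos h]
      refine nodup_build f vs _ hvs (List.nodup_cons.2 ⟨hd w (by simp), ha⟩) fun v hv hmem => ?_
      rcases List.mem_cons.1 hmem with rfl | h1
      exacts [hw hv, hd v (List.mem_cons_of_mem _ hv) h1]
    · rw [if_neg h]
      exact nodup_build f vs _ hvs ha fun v hv => hd v (List.mem_cons_of_mem _ hv)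

/-- A member with exactly two non-commuting neighbours. -/
theorem full_step (d : Coc) (D : List V) (hD : D.Nodup) (hself : ∀ s : V, d.om s s = (false, false)) {s : V}
    (hs : s ∈ D) (hlen : (D.filter fun w => d.om s w == (false, false)).length = 3)
    (hnc : ∃ x ∈ D, ∃ y ∈ D, d.om s x = (false, false) ∧ d.om s y = (false, false) ∧ d.om x y ≠ (false, false)) :
    (match D.filter (d.adj s) with
      | [x, y] => d.om x y != (false, false)
      | _ => false) = true := by
  have heq : D.filter (d.adj s) = (D.filter fun w => d.om s w == (false, false)).erase s := by
    rw [List.Nodup.erase_eq_filter (hD.filter _), List.filter_filter]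
    rfl
  have hmem : s ∈ D.filter fun w => d.om s w == (false, false) := List.mem_filter.2 ⟨hs, by simp [hself]⟩
  have hl : (D.filter (d.adj s)).length = 2 := by rw [heq, List.length_erase_of_mem hmem, hlen]
  obtain ⟨x, y, hxy⟩ := List.length_eq_two.1 hl
  rw [hxy]
  obtain ⟨p, hp, q, hq, hsp, hsq, hpq⟩ := hnc
  have key : ∀ w ∈ D, d.om s w = (false, false) → w = s ∨ w = x ∨ w = y := by
    intro w hw h
    by_cases hws : w = s
    · exact Or.inl hws
    · have hm : w ∈ D.filter (d.adj s) := List.mem_filter.2 ⟨hw, by simp [Coc.adj, hws, h]⟩
      rw [hxy] at hm
      simpa [hws] using hm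
  have hsymm : ∀ v w : V, d.om v w = d.om w v := fun v w => wadd_comm _ _
  have hx : d.om s x = (false, false) := by
    have hm : x ∈ D.filter (d.adj s) := by rw [hxy]; simp
    simpa [Coc.adj] using ((List.mem_filter.1 hm).2 |> fun h => (Bool.and_eq_true _ _).mp h).2
  have hy : d.om s y = (false, false) := by
    have hm : y ∈ D.filter (d.adj s) := by rw [hxy]; simp
    simpa [Coc.adj] using ((List.mem_filter.1 hm).2 |> fun h => (Bool.and_eq_true _ _).mp h).2
  by_contra hne
  have hxy0 : d.om x y = (false, false) := by simpa using hne
  apply hpq
  rcases key p hp hsp with rfl | rfl | rfl <;> rcases key q hq hsq with rfl | rfl | rfl <;>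
    first
    | exact hself _
    | assumption
    | (rw [hsymm]; assumption)

end Cfsg.Agent.H67.TwoSym

namespace Cfsg.Agent.H67.TwoSym

/-- The data of the case in which the normaliser of `T0` moves `b`. -/
def cocG (x₁ x₂ : Bool) : Coc where
  w10 := (false, false)
  w20 := (false, false)
  w21 := (true, false)
  w30 := (true, false)
  w31 := (x₁, false)
  w32 := (x₂, false)
  w40 := (false, false)
  w41 := (false, false)
  w42 := (false, false)
  w43 := (false, false)
  s0 := (false, false)
  s1 := (false, false)
  s2 := (false, false)
  s3 := (false, false)
  s4 := (false, false)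

/-- The candidates outside `T0`. -/
def Coc.outerG (d : Coc) : List V :=
  allV.filter fun v => v.2.2.2.1 && !v.2.2.2.2 && d.q v == (false, false)

/-- The configuration condition at the members outside `T0`. -/
def Coc.okG (d : Coc) (l : List V) : Bool :=
  l.all fun s => match (innerM ++ l).filter (d.adj s) with
    | [x, y] => d.om x y != (false, false)
    | _ => false

theorem oddG : ∀ x₁ x₂ : Bool, (cocG x₁ x₂).outerG.sublists.all (fun l =>
    l.isEmpty || !((cocG x₁ x₂).okG l) || l.length % 2 == 1) = true := by
  decide +kernel

end Cfsg.Agent.H67.TwoSym

namespace Cfsg.Agent.H67.TwoSym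

theorem kerM : ∀ δb δc : Bool, ∀ η : W, ∀ qB qC : Bool, ∀ v : V,
    8 ≤ (allV.filter fun w => (cocM δb δc η qB qC).om v w == (false, false)).length := by
  decide +kernel

theorem vsum_coord (P : V → Bool) (hP : ∀ v w, P (vadd v w) = (P v ^^ P w))
    (h0 : P (false, false, false, false, false) = false) :
    ∀ l : List V, P (vsum l) = decide ((l.filter P).length % 2 = 1)
  | [] => by simp [vsum, h0]
  | v :: vs => by
    rw [vsum, hP, vsum_coord P hP h0 vs]
    by_cases h : P v = true
    · rw [List.filter_cons_of_pos h, h, List.length_cons, Bool.true_xor, ← decide_not, decide_eq_decide]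
      omega
    · rw [List.filter_cons_of_neg h, Bool.eq_false_iff.2 h, Bool.false_xor]

end Cfsg.Agent.H67.TwoSym
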