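import Cfsg.Agent.H67.TwoSym.Local
import Cfsg.Agent.H67.TwoSym.Check
import Mathlib.GroupTheory.Abelianization.Defs
import Mathlib.GroupTheory.Commutator.Basic

/-!
# The pattern with a single fused class
-/

set_option autoImplicit false
set_option linter.unusedSectionVars false
set_option linter.unusedSimpArgs false
set_option linter.unusedTactic false
set_option linter.unreachableTactic false

namespace Cfsg.Agent.H67.TwoSym

open Subgroup Equiv

/-- Conjugating a product. -/
theorem conj_prod {G : Type*} [Group G] (g x y : G) : g * (x * y) * g⁻¹ = g * x * g⁻¹ * (g * y * g⁻¹) := by group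

namespace Setup

variable {G : Type*} [Group G] [Finite G] {k : ℕ} (S : Setup G k)

theorem T0_le_N : S.T0 ≤ (normalizer (S.T0 : Set G) : Subgroup G) := le_normalizer

theorem L_card_N (hL : S.IsL) : Nat.card (normalizer (S.T0 : Set G) : Subgroup G) = 64 := by
  rw [S.card_normalizer, S.card_orbit0, ind_true S.D_ta, ind_false hL.2, ind_false hL.1,
    ind_false (mt S.D_b_iff.2 hL.1), ind_false (mt S.D_tb_iff.2 hL.2)]

theorem L_odd_index (hL : S.IsL) : ¬ 2 ∣ (normalizer (S.T0 : Set G) : Subgroup G).index := by
  intro hdvd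
  obtain ⟨f, hf, hmod⟩ := fixed_congr S.hno S.t_sq S.T0
  have h6 : Nat.card {y : G // y ∈ S.T0 ∧ IsConj S.t y} = 6 := S.card_D_T0_L hL
  rw [S.card_C, h6, S.card_T0] at hf
  have h1 := (normalizer (S.T0 : Set G) : Subgroup G).card_mul_index
  rw [S.L_card_N hL] at h1
  have h2 := S.T0.card_mul_index
  rw [S.card_T0] at h2
  obtain ⟨c, hc⟩ := hdvd
  obtain ⟨d, hd⟩ := S.geo.κ_odd
  rw [hd] at hf
  omega

/-- The conjugate `t sw`. -/
def s0 : G := S.e true false false false true

/-- Membership in the class pair of `t sw`. -/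
def InP (g : G) : Prop := ∃ x, g = S.e true x false false true

/-- Membership in the class pair of `t e1 b`. -/
def InQ (g : G) : Prop := ∃ x, g = S.e true x true true false

theorem D_s0 (hL : S.IsL) : S.D S.s0 := (S.D_e_iff_L hL ..).2 (by decide)

theorem D_q0 (hL : S.IsL) : S.D (S.e true false true true false) := (S.D_e_iff_L hL ..).2 (by decide)

theorem conj_e_a {g : G} (hg : g ∈ normalizer (S.T0 : Set G)) (x : Bool) :
    g * S.e false x false false false * g⁻¹ = S.e false x false false false := by
  cases x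
  · rw [S.e_one]; group
  · rw [S.e_a]; exact S.conj_a hg

theorem e_a_mul (z p x y i j : Bool) : S.e false z false false false * S.e p x y i j = S.e p (xor z x) y i j := by
  rw [e_mul]; cases z <;> cases p <;> cases x <;> cases y <;> cases i <;> cases j <;> rfl

theorem central_e_iff {p x y i j : Bool} (h : ∀ z ∈ S.T0, z * S.e p x y i j = S.e p x y i j * z) :
    i = false ∧ j = false := by
  have h1 := (S.e_commute_iff ..).1 (h _ (S.e_mem false false false true false))
  have h2 := (S.e_commute_iff ..).1 (h _ (S.e_mem false false false false true))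
  revert h1 h2
  cases i <;> cases j <;> simp

theorem N_conj_central {g : G} (hg : g ∈ normalizer (S.T0 : Set G)) (p x y : Bool) :
    ∃ p' x' y', g * S.e p x y false false * g⁻¹ = S.e p' x' y' false false := by
  obtain ⟨p', x', y', i, j, e⟩ := S.exists_e (S.normalizer_normal hg (S.e_mem p x y false false))
  obtain ⟨rfl, rfl⟩ := S.central_e_iff (fun z hz => by
    rw [← e]
    have hz' : g⁻¹ * z * g ∈ S.T0 := (mem_normalizer_iff.1 hg _).2 (by
      rwa [show g * (g⁻¹ * z * g) * g⁻¹ = z by group])
    obtain ⟨a, b, c, d, f, e'⟩ := S.exists_e hz'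
    have hc := (S.e_commute_iff a b c d f p x y false false).2 (by simp)
    rw [← e'] at hc
    calc z * (g * S.e p x y false false * g⁻¹) = g * (g⁻¹ * z * g * S.e p x y false false) * g⁻¹ := by group
      _ = g * (S.e p x y false false * (g⁻¹ * z * g)) * g⁻¹ := by rw [hc]
      _ = g * S.e p x y false false * g⁻¹ * z := by group)
  exact ⟨p', x', y', e⟩

theorem L_outer_mem (hL : S.IsL) {g : G} (hg : g ∈ normalizer (S.T0 : Set G)) {x y i j : Bool}
    (hD : S.D (S.e true x y i j)) (hij : (i || j) = true) :
    S.InP (g * S.e true x y i j * g⁻¹) ∨ S.InQ (g * S.e true x y i j * g⁻¹) := by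
  obtain ⟨p', x', y', i', j', e⟩ := S.exists_e (S.normalizer_normal hg (S.e_mem true x y i j))
  have hD' := (S.D_e_iff_L hL ..).1 (e ▸ S.D_conj g hD)
  obtain ⟨rfl, hij', hs⟩ := hD'
  rcases Bool.eq_false_or_eq_true (i' || j') with h | h
  · rw [e]
    revert hs hij' h
    cases i' <;> cases j' <;> cases y' <;> simp [suppOf]
    · exact Or.inl ⟨x', rfl⟩
    · exact Or.inr ⟨x', rfl⟩
  · obtain ⟨rfl, rfl⟩ : i' = false ∧ j' = false := by simpa using h
    obtain ⟨p2, x2, y2, e2⟩ := S.N_conj_central (inv_mem hg) true x' y'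
    have : S.e true x y i j = S.e p2 x2 y2 false false := by
      rw [← e2, ← e]; group
    obtain ⟨-, -, -, rfl, rfl⟩ := S.e_inj this
    simp at hij

theorem L_conj_t (hL : S.IsL) {g : G} (hg : g ∈ normalizer (S.T0 : Set G)) :
    ∃ z, g * S.t * g⁻¹ = S.e true z false false false := by
  obtain ⟨⟨p, u, v, e⟩, hD⟩ := S.mem_orbit0_of_normalizes hg
  change g * S.t * g⁻¹ = S.e p u v false false at e
  rw [e] at hD
  obtain ⟨rfl, -, hs⟩ := (S.D_e_iff_L hL ..).1 hD
  refine ⟨u, e.trans ?_⟩
  revert hs
  cases u <;> cases v <;> simp [suppOf]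

theorem L_sq_mem (hL : S.IsL) {g : G} (hg : g ∈ normalizer (S.T0 : Set G)) : g * g ∈ S.T0 := by
  refine S.mem_T0_of_normalizes (mul_mem hg hg) (mul_inv_eq_iff_eq_mul.1 ?_)
  obtain ⟨z, hz⟩ := S.L_conj_t hL hg
  rw [show g * g * S.t * (g * g)⁻¹ = g * (g * S.t * g⁻¹) * g⁻¹ by group, hz,
    show S.e true z false false false = S.e false z false false false * S.t by
      rw [← S.e_t, S.e_mul]; simp,
    conj_prod, S.conj_e_a hg, hz, ← S.e_t, S.e_mul]
  cases z <;> rfl

theorem L_conj_b (hL : S.IsL) {g : G} (hg : g ∈ normalizer (S.T0 : Set G)) :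
    ∃ z, g * S.e false false true false false * g⁻¹ = S.e false z true false false := by
  obtain ⟨p, x, y, e⟩ := S.N_conj_central hg false false true
  have h2 : g * g * S.e false false true false false * (g * g)⁻¹ = S.e false false true false false := by
    obtain ⟨q, a, b, i, j, e'⟩ := S.exists_e (S.L_sq_mem hL hg)
    have := (S.e_commute_iff q a b i j false false true false false).2 (by simp)
    rw [e', this, mul_assoc, mul_inv_cancel, mul_one]
  have ha := S.conj_e_a hg
  obtain ⟨zt, hzt⟩ := S.L_conj_t hL hg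
  have hnD : ¬ S.D (g * S.e false false true false false * g⁻¹) := by
    rw [S.D_conj_iff, S.e_b]; exact hL.1
  rw [e, S.D_e_iff_L hL] at hnD
  have hy : y = true := by
    by_contra hy
    obtain rfl : y = false := by simpa using hy
    cases p
    · have h3 : g * S.e false false true false false * g⁻¹ = g * S.e false x false false false * g⁻¹ := by
        rw [e, ha]
      exact absurd (S.e_inj (mul_left_cancel (mul_right_cancel h3))).2.2.1 (by decide)
    · exact hnD ⟨rfl, rfl, by cases x <;> simp [suppOf]⟩
  subst hy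
  refine ⟨x, e.trans ?_⟩
  cases p
  · rfl
  · exfalso
    have h3 : S.e true x true false false = S.e false x true false false * S.t := by
      rw [← S.e_t, S.e_mul]; cases x <;> rfl
    have h4 : S.e false x true false false = S.e false x false false false * S.e false false true false false := by
      rw [S.e_a_mul]; cases x <;> rfl
    rw [show g * g * S.e false false true false false * (g * g)⁻¹
      = g * (g * S.e false false true false false * g⁻¹) * g⁻¹ by group, e, h3, conj_prod, hzt, h4, conj_prod,
      ha, e, S.e_mul, S.e_mul] at h2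
    have h5 := (S.e_inj h2).2.1
    cases zt
    · obtain ⟨q, a, b, i, j, e'⟩ := S.exists_e
        (S.mem_T0_of_normalizes hg (mul_inv_eq_iff_eq_mul.1 (hzt.trans S.e_t)))
      have hc := (S.e_commute_iff q a b i j false false true false false).2 (by simp)
      rw [e', hc, mul_assoc, mul_inv_cancel, mul_one] at e
      exact absurd (S.e_inj e).1 (by decide)
    · revert h5
      cases x <;> simp

theorem L_moves_t (hL : S.IsL) {g : G} (hg : g ∈ normalizer (S.T0 : Set G)) (hgT : g ∉ S.T0) :
    g * S.t * g⁻¹ = S.e true true false false false := by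
  obtain ⟨z, hz⟩ := S.L_conj_t hL hg
  cases z
  · exact absurd (S.mem_T0_of_normalizes hg (mul_inv_eq_iff_eq_mul.1 (hz.trans S.e_t))) hgT
  · exact hz

theorem L_coset (hL : S.IsL) {g x : G} (hg : g ∈ normalizer (S.T0 : Set G)) (hgT : g ∉ S.T0)
    (hx : x ∈ normalizer (S.T0 : Set G)) (hxT : x ∉ S.T0) : g⁻¹ * x ∈ S.T0 := by
  refine S.mem_T0_of_normalizes (mul_mem (inv_mem hg) hx) ?_
  have h := (S.L_moves_t hL hx hxT).trans (S.L_moves_t hL hg hgT).symm
  calc g⁻¹ * x * S.t = g⁻¹ * (x * S.t * x⁻¹) * x := by group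
    _ = g⁻¹ * (g * S.t * g⁻¹) * x := by rw [h]
    _ = S.t * (g⁻¹ * x) := by group

theorem card_inf_eq (hL : S.IsL) {s : G} (hs : S.D s) {X : Subgroup G} (hX : Nat.card X = 16)
    (hXle : X ≤ normalizer (S.T0 : Set G) ⊓ centralizer ({s} : Set G))
    (hex : ∃ y, y ∈ normalizer (S.T0 : Set G) ⊓ centralizer ({s} : Set G) ∧ y ∉ X) :
    Nat.card (normalizer (S.T0 : Set G) ⊓ centralizer ({s} : Set G) : Subgroup G) = 32 := by
  have hp : IsPGroup 2 (normalizer (S.T0 : Set G) : Subgroup G) :=
    IsPGroup.of_card (n := 6) (S.L_card_N hL)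
  have hle := S.card_centralizer_le_of_D hs hp
  obtain ⟨m, hm⟩ := Subgroup.card_dvd_of_le hXle
  rw [hX] at hm
  rcases (show m = 0 ∨ m = 1 ∨ m = 2 by omega) with rfl | rfl | rfl
  · have := Nat.card_pos (α := (normalizer (S.T0 : Set G) ⊓ centralizer ({s} : Set G) : Subgroup G))
    omega
  · exfalso
    obtain ⟨y, hy, hyX⟩ := hex
    exact hyX (Subgroup.eq_of_le_of_card_ge hXle (by rw [hm, hX]) ▸ hy)
  · exact hm

/-- The subgroup of elements of `T0` commuting with `t sw`. -/
def Z0sw : Subgroup G where
  carrier := {g | ∃ p x y j, g = S.e p x y false j}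
  one_mem' := ⟨_, _, _, _, S.e_one.symm⟩
  mul_mem' := by
    rintro _ _ ⟨p, x, y, j, rfl⟩ ⟨p', x', y', j', rfl⟩
    exact ⟨_, _, _, _, S.e_mul ..⟩
  inv_mem' := by
    rintro _ ⟨p, x, y, j, rfl⟩
    refine ⟨p, x, y, j, inv_eq_of_mul_eq_one_right ?_⟩
    exact (S.e_sq_eq_one_iff ..).2 rfl

theorem card_Z0sw : Nat.card S.Z0sw = 16 := by
  rw [← Nat.card_congr (Equiv.ofBijective (fun v : Bool × Bool × Bool × Bool =>
    (⟨S.e v.1 v.2.1 v.2.2.1 false v.2.2.2, _, _, _, _, rfl⟩ : S.Z0sw))
    ⟨fun v w h => by
      obtain ⟨h1, h2, h3, -, h5⟩ := S.e_inj (congrArg Subtype.val h)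
      exact Prod.ext h1 (Prod.ext h2 (Prod.ext h3 h5)),
    fun ⟨g, p, x, y, j, h⟩ => ⟨(p, x, y, j), Subtype.ext h.symm⟩⟩)]
  simp

theorem L_InP_flip {g : G} (hg : g ∈ normalizer (S.T0 : Set G))
    (h : S.InP (g * S.s0 * g⁻¹)) (x : Bool) : S.InP (g * S.e true x false false true * g⁻¹) := by
  obtain ⟨z, hz⟩ := h
  refine ⟨xor x z, ?_⟩
  rw [show S.e true x false false true = S.e false x false false false * S.s0 by
      rw [s0, S.e_a_mul]; cases x <;> rfl,
    conj_prod, S.conj_e_a hg, hz, S.e_a_mul]

theorem L_trivial (hL : S.IsL)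
    (htriv : ∀ g ∈ normalizer (S.T0 : Set G), S.InP (g * S.s0 * g⁻¹)) : False := by
  classical
  obtain ⟨u, hu, hut⟩ := S.exists_normalizer (x := S.el true S.F.a) ⟨⟨true, true, false, by rw [S.elP10]⟩, S.D_ta⟩
  have huT : u ∉ S.T0 := fun h => by
    rw [mem_centralizer_singleton_iff.1 (S.T0_le h), mul_assoc, mul_inv_cancel, mul_one, ← S.el_t] at hut
    exact absurd (S.F.elP_inj ((S.elP00).trans ((S.el_inj hut).2.trans (S.elP10).symm))).1 (by decide)
  have hcomm0 : ∃ g, g ∈ normalizer (S.T0 : Set G) ∧ g ∉ S.T0 ∧ g * S.s0 = S.s0 * g := by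
    obtain ⟨z, hz⟩ := htriv u hu
    refine ⟨u * S.e false false false z false, mul_mem hu (S.T0_le_N (S.e_mem ..)),
      fun h => huT (by simpa using mul_mem h (inv_mem (S.e_mem false false false z false))), ?_⟩
    refine mul_inv_eq_iff_eq_mul.1 ?_
    have h1 : S.e false false false z false * S.s0 * (S.e false false false z false)⁻¹
        = S.e true z false false true := by
      rw [mul_inv_eq_iff_eq_mul, s0, S.e_mul, S.e_mul]; cases z <;> rfl
    rw [show u * S.e false false false z false * S.s0 * (u * S.e false false false z false)⁻¹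
      = u * (S.e false false false z false * S.s0 * (S.e false false false z false)⁻¹) * u⁻¹ by group, h1,
      show S.e true z false false true = S.e false z false false false * S.s0 by
        rw [s0, S.e_a_mul]; cases z <;> rfl,
      conj_prod, S.conj_e_a hu, hz, S.e_a_mul, s0]
    cases z <;> rfl
  obtain ⟨g0, hg0, hg0T, hg0s⟩ := hcomm0
  have hle0 : S.Z0sw ≤ normalizer (S.T0 : Set G) ⊓ centralizer ({S.s0} : Set G) := by
    rintro _ ⟨p, x, y, j, rfl⟩
    refine ⟨S.T0_le_N (S.e_mem ..), mem_centralizer_singleton_iff.2 ?_⟩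
    rw [s0, S.e_commute_iff]; simp
  have h32 := S.card_inf_eq hL (S.D_s0 hL) S.card_Z0sw hle0
    ⟨g0, ⟨hg0, mem_centralizer_singleton_iff.2 hg0s⟩, fun ⟨p, x, y, j, e⟩ => hg0T (e ▸ S.e_mem ..)⟩
  obtain ⟨hsix, -⟩ := S.extremal (S.D_s0 hL) h32
  rw [S.card_D_T0_L hL] at hsix
  obtain ⟨y, hyN, hyD, hyT⟩ : ∃ y, y ∈ normalizer (S.T0 : Set G) ∧ S.D y ∧ y ∉ S.T0 := by
    by_contra hcon
    push Not at hcon
    have hsurj : Nat.card {x : G // (x ∈ normalizer (S.T0 : Set G) ∧ x * S.s0 = S.s0 * x) ∧ S.D x}
        ≤ Nat.card (Bool × Bool) := by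
      refine Nat.card_le_card_of_surjective
        (fun v : Bool × Bool => ⟨S.e true v.1 false false v.2,
          ⟨S.T0_le_N (S.e_mem ..), by rw [s0, S.e_commute_iff]; simp⟩,
          (S.D_e_iff_L hL ..).2 (by obtain ⟨x, j⟩ := v; cases x <;> cases j <;> decide)⟩) ?_
      rintro ⟨w, ⟨hwN, hwc⟩, hwD⟩
      obtain ⟨p, x, y, i, j, rfl⟩ := S.exists_e (hcon w hwN hwD)
      have hwc' := (S.e_commute_iff ..).1 hwc
      obtain ⟨rfl, hij, hs⟩ := (S.D_e_iff_L hL ..).1 hwD
      obtain rfl : i = false := by revert hwc'; cases i <;> cases j <;> simp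
      obtain rfl : y = false := by revert hs; cases x <;> cases y <;> cases j <;> simp [suppOf]
      exact ⟨(x, j), rfl⟩
    rw [hsix] at hsurj
    simp at hsurj
  have hyy := S.D_sq hyD
  have hyinv : y⁻¹ = y := inv_eq_of_mul_eq_one_right hyy
  have hrel : ∀ p x y' i j z, y * S.e p x y' i j * y⁻¹ = S.e p (xor z x) y' i j →
      y * S.e p x y' i j = cond z (S.e false true false false false) 1 * 1 * (S.e p x y' i j * y) := by
    intro p x y' i j z h
    rw [mul_inv_eq_iff_eq_mul.1 h, mul_one, ← mul_assoc]
    cases z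
    · rw [cond_false, one_mul]; cases x <;> rfl
    · rw [cond_true, S.e_a_mul]
  have hyt := S.L_moves_t hL hyN hyT
  obtain ⟨β, hβ⟩ := S.L_conj_b hL hyN
  obtain ⟨η₂', hη₂⟩ := htriv y hyN
  have hq : ∃ z, y * S.e true false true true false * y⁻¹ = S.e true z true true false := by
    rcases S.L_outer_mem hL hyN (S.D_q0 hL) (by decide) with ⟨z, hz⟩ | h
    · exfalso
      have h2 := S.L_InP_flip hyN (htriv y hyN) z
      obtain ⟨z', hz'⟩ := h2
      rw [← hz, show y * (y * S.e true false true true false * y⁻¹) * y⁻¹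
        = y * y * S.e true false true true false * (y * y)⁻¹ by group, hyy, one_mul, inv_one, mul_one] at hz'
      exact absurd (S.e_inj hz').2.2.2.1 (by decide)
    · exact h
  obtain ⟨η₁', hη₁⟩ := hq
  have hsw : y * S.e false false false false true * y⁻¹ = S.e false (xor (xor true η₂') false) false false true := by
    rw [show S.e false false false false true = S.t * S.s0 by rw [s0, ← S.e_t, S.e_mul]; rfl, conj_prod, hyt, hη₂,
      S.e_mul]
    cases η₂' <;> rfl
  have he1 : y * S.e false false false true false * y⁻¹ = S.e false (xor (xor true (xor β η₁')) false) false true false := by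
    rw [show S.e false false false true false = S.t * S.e false false true false false * S.e true false true true false by
        rw [← S.e_t, S.e_mul, S.e_mul]; rfl,
      conj_prod, conj_prod, hyt, hβ, hη₁, S.e_mul, S.e_mul]
    cases β <;> cases η₁' <;> rfl
  obtain ⟨η₂, hη₂e⟩ : ∃ z, z = xor true η₂' := ⟨_, rfl⟩
  obtain ⟨η₁, hη₁e⟩ : ∃ z, z = xor true (xor β η₁') := ⟨_, rfl⟩
  rw [← hη₂e] at hsw
  rw [← hη₁e] at he1
  let a := S.e false true false false false
  have haT : ∀ p x y' i j, a * S.e p x y' i j = S.e p x y' i j * a := fun p x y' i j =>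
    (S.e_commute_iff ..).2 (by simp)
  let R : Rel G :=
    { cocL β η₁ η₂ with
      za := a
      zb := 1
      g0 := S.e true false false false false
      g1 := S.e false false true false false
      g2 := S.e false false false true false
      g3 := S.e false false false false true
      g4 := y
      za_sq := (S.e_sq_eq_one_iff ..).2 rfl
      zb_sq := one_mul 1
      zab := by simp
      za_g := ⟨haT .., haT .., haT .., haT .., (mul_inv_eq_iff_eq_mul.1 (S.conj_e_a hyN true)).symm⟩
      zb_g := by simp
      r0 := ((S.e_sq_eq_one_iff ..).2 rfl).trans (by simp [cocL])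
      r1 := ((S.e_sq_eq_one_iff ..).2 rfl).trans (by simp [cocL])
      r2 := ((S.e_sq_eq_one_iff ..).2 rfl).trans (by simp [cocL])
      r3 := ((S.e_sq_eq_one_iff ..).2 rfl).trans (by simp [cocL])
      r4 := hyy.trans (by simp [cocL])
      r10 := by simp only [cocL, cond_false, one_mul, mul_one]; exact (S.e_commute_iff ..).2 rfl
      r20 := by simp only [cocL, cond_false, one_mul, mul_one]; exact (S.e_commute_iff ..).2 rfl
      r21 := by simp only [cocL, cond_false, one_mul, mul_one]; exact (S.e_commute_iff ..).2 rfl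
      r30 := by simp only [cocL, cond_false, one_mul, mul_one]; exact (S.e_commute_iff ..).2 rfl
      r31 := by simp only [cocL, cond_false, one_mul, mul_one]; exact (S.e_commute_iff ..).2 rfl
      r32 := by
        simp only [cocL, cond_false, cond_true, mul_one, a]
        rw [S.e_mul, S.e_mul, S.e_mul]; rfl
      r40 := hrel true false false false false true (by rw [S.e_t]; exact hyt)
      r41 := hrel false false true false false β (by rw [hβ, Bool.xor_false])
      r42 := hrel false false false true false η₁ he1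
      r43 := hrel false false false false true η₂ hsw }
  have hel : ∀ p y' i j v4 z w2, R.el (p, y', i, j, v4) (z, w2) = S.e p z y' i j * cond v4 y 1 := by
    intro p y' i j v4 z w2
    simp only [Rel.el, Rel.zeta, Rel.gen, R, a]
    cases p <;> cases y' <;> cases i <;> cases j <;> cases z <;> cases w2 <;>
      simp only [cond_true, cond_false, mul_one, one_mul, ← mul_assoc, S.e_mul, Bool.xor_false, Bool.false_xor,
        Bool.and_false, Bool.false_and, Bool.and_self, Bool.xor_self, S.e_one] <;> rfl
  have hT0 : ∀ p y' i j z, R.el (p, y', i, j, false) (z, false) = S.e p z y' i j := fun p y' i j z => by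
    rw [hel, cond_false, mul_one]
  have hinj : ∀ v u z w, R.el v (z, false) = R.el u (w, false) → v = u ∧ z = w := by
    rintro ⟨p, y', i, j, v4⟩ ⟨p2, y2, i2, j2, u4⟩ z w h
    rw [hel, hel] at h
    cases v4 <;> cases u4 <;> simp only [cond_true, cond_false, mul_one] at h
    · obtain ⟨rfl, rfl, rfl, rfl, rfl⟩ := S.e_inj h; exact ⟨rfl, rfl⟩
    · exact absurd (by rw [show y = (S.e p2 w y2 i2 j2)⁻¹ * S.e p z y' i j by rw [h]; group]
                       exact mul_mem (inv_mem (S.e_mem ..)) (S.e_mem ..)) hyT
    · exact absurd (by rw [show y = (S.e p z y' i j)⁻¹ * S.e p2 w y2 i2 j2 by rw [← h]; group]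
                       exact mul_mem (inv_mem (S.e_mem ..)) (S.e_mem ..)) hyT
    · obtain ⟨rfl, rfl, rfl, rfl, rfl⟩ := S.e_inj (mul_right_cancel h); exact ⟨rfl, rfl⟩
  have hmem : ∀ g, g ∈ normalizer (S.T0 : Set G) ↔ ∃ v z, g = R.el v (z, false) := by
    intro g
    constructor
    · intro hg
      by_cases hgT : g ∈ S.T0
      · obtain ⟨p, x, y', i, j, rfl⟩ := S.exists_e hgT
        exact ⟨(p, y', i, j, false), x, (hT0 ..).symm⟩
      · have h1 : g * y ∈ S.T0 := by
          have := S.L_coset hL (inv_mem hg) (fun h => hgT (inv_inv g ▸ inv_mem h)) hyN hyT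
          rwa [inv_inv] at this
        obtain ⟨p, x, y', i, j, e⟩ := S.exists_e h1
        refine ⟨(p, y', i, j, true), x, ?_⟩
        rw [hel, cond_true, ← e, mul_assoc, hyy, mul_one]
    · rintro ⟨⟨p, y', i, j, v4⟩, z, rfl⟩
      rw [hel]
      refine mul_mem (S.T0_le_N (S.e_mem ..)) ?_
      cases v4
      exacts [one_mem _, hyN]
  have hw2 : ∀ (β η₁ η₂ : Bool) (v u : V), ((cocL β η₁ η₂).om v u).2 = false ∧ ((cocL β η₁ η₂).q v).2 = false := by
    decide +kernel
  have hzeta : ∀ w : W, w.2 = false → (R.zeta w = 1 ↔ w = (false, false)) := by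
    rintro ⟨w1, w2⟩ h
    obtain rfl : w2 = false := h
    cases w1
    · simp [R.zeta_zero]
    · refine ⟨fun h => ?_, fun h => absurd h (by decide)⟩
      simp only [Rel.zeta, R, cond_true, cond_false, mul_one] at h
      exact absurd (S.e_eq_one h).2.1 (by decide)
  have hcomm : ∀ v u z w, R.el v (z, false) * R.el u (w, false) = R.el u (w, false) * R.el v (z, false)
      ↔ (cocL β η₁ η₂).om v u = (false, false) := by
    intro v u z w
    rw [R.el_comm, mul_eq_right]
    exact hzeta _ (hw2 β η₁ η₂ v u).1
  have hsqv : ∀ v z, R.el v (z, false) * R.el v (z, false) = 1 ↔ (cocL β η₁ η₂).q v = (false, false) := by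
    intro v z
    rw [R.el_sq]
    exact hzeta _ (hw2 β η₁ η₂ v v).2
  -- the configuration
  have hDflip : ∀ v z, S.D (R.el v (z, false)) ↔ S.D (R.el v (false, false)) := by
    intro v z
    obtain ⟨p, y', i, j, v4⟩ := v
    cases z
    · exact Iff.rfl
    · rw [hel, hel]
      cases v4
      · rw [cond_false, mul_one, mul_one, S.D_e_iff_L hL, S.D_e_iff_L hL]
        refine and_congr_right fun _ => and_congr_right fun h => ?_
        revert h
        cases y' <;> cases i <;> cases j <;> simp [suppOf]
      · have key : ∀ x : Bool, S.D (S.e p x y' i j * y) →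
            S.D (S.e false true false false false * (S.e p x y' i j * y)) := by
          intro x h
          have h2 : S.t * (S.e p x y' i j * y) * S.t⁻¹
              = S.e false true false false false * (S.e p x y' i j * y) := by
            refine mul_inv_eq_iff_eq_mul.2 ?_
            calc S.t * (S.e p x y' i j * y) = S.e p x y' i j * S.t * y := by
                  rw [← mul_assoc]
                  exact congrArg (· * y) (mem_centralizer_singleton_iff.1 (S.T0_le (S.e_mem ..))).symm
              _ = S.e p x y' i j * (S.e false true false false false * (y * S.t)) := by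
                  rw [mul_assoc, mul_inv_eq_iff_eq_mul.1 hyt, ← mul_assoc (S.e false true false false false),
                    S.e_a_mul, Bool.xor_self, S.e_t]
              _ = S.e false true false false false * (S.e p x y' i j * y) * S.t := by
                  rw [← mul_assoc (S.e p x y' i j), ← haT, mul_assoc, mul_assoc, mul_assoc]
          exact h2 ▸ S.D_conj S.t h
        simp only [cond_true]
        constructor
        · intro h
          have := key true h
          rwa [← mul_assoc, S.e_a_mul] at this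
        · intro h
          have := key false h
          rwa [← mul_assoc, S.e_a_mul] at this
  let f : V → Bool := fun v => decide (S.D (R.el v (false, false)))
  set Dl := build f (cocL β η₁ η₂).outerL innerL with hDl
  have hDmem : ∀ v, v ∈ Dl ↔ S.D (R.el v (false, false)) := by
    rintro ⟨p, y', i, j, v4⟩
    rw [hDl, mem_build]
    constructor
    · rintro (h | ⟨-, h⟩)
      · simp only [innerL, List.mem_cons, List.not_mem_nil, or_false, Prod.mk.injEq] at h
        rcases h with ⟨rfl, rfl, rfl, rfl, rfl⟩ | ⟨rfl, rfl, rfl, rfl, rfl⟩ | ⟨rfl, rfl, rfl, rfl, rfl⟩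
        all_goals rw [hT0, S.D_e_iff_L hL]; decide
      · exact of_decide_eq_true h
    · intro h
      cases v4
      · left
        rw [hT0, S.D_e_iff_L hL] at h
        obtain ⟨rfl, h1, h2⟩ := h
        revert h1 h2
        cases y' <;> cases i <;> cases j <;> simp [suppOf, innerL]
      · right
        refine ⟨List.mem_filter.2 ⟨mem_allV _, ?_⟩, decide_eq_true h⟩
        have := (hsqv (p, y', i, j, true) false).1 (S.D_sq h)
        simp [this]
  have hnd : Dl.Nodup := nodup_build f _ _ (nodup_allV.filter _) (by decide) (fun v hv h => by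
    have h1 := (List.mem_filter.1 hv).2
    simp only [innerL, List.mem_cons, List.not_mem_nil, or_false] at h
    rcases h with rfl | rfl | rfl <;> simp at h1)
  have hcount : ∀ P : V → Bool, Nat.card {g : G // (∃ v z, g = R.el v (z, false) ∧ P v = true) ∧ S.D g}
      = 2 * (Dl.filter P).length := by
    intro P
    have e : (Dl.filter P).length = Nat.card {v : V // v ∈ Dl.filter P} := by
      rw [Nat.card_eq_fintype_card, Fintype.card_of_subtype (Dl.filter P).toFinset (fun v => List.mem_toFinset),
        List.toFinset_card_of_nodup (hnd.filter _)]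
    rw [e, ← Fintype.card_bool, ← Nat.card_eq_fintype_card, ← Nat.card_prod]
    refine (Nat.card_congr (Equiv.ofBijective (fun x => ⟨R.el x.2.1 (x.1, false),
      ⟨x.2.1, x.1, rfl, (List.mem_filter.1 x.2.2).2⟩, (hDflip ..).2 ((hDmem _).1 (List.mem_filter.1 x.2.2).1)⟩)
      ⟨?_, ?_⟩)).symm
    · rintro ⟨z, v, hv⟩ ⟨z', v', hv'⟩ h
      obtain ⟨rfl, rfl⟩ := hinj _ _ _ _ (congrArg Subtype.val h)
      rfl
    · rintro ⟨_, ⟨v, z, rfl, hP⟩, hD⟩
      exact ⟨(z, ⟨v, List.mem_filter.2 ⟨(hDmem v).2 ((hDflip v z).1 hD), hP⟩⟩), rfl⟩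
  have hom_self : ∀ s : V, (cocL β η₁ η₂).om s s = (false, false) := fun s => wadd_self _
  have hker : ∀ (β η₁ η₂ : Bool) (v : V),
      16 ≤ (allV.filter fun w => (cocL β η₁ η₂).om v w == (false, false)).length := by decide +kernel
  have hfull : (cocL β η₁ η₂).full Dl = true := by
    refine List.all_eq_true.2 fun s hs => ?_
    have hsD := (hDmem s).1 hs
    have hp : IsPGroup 2 (normalizer (S.T0 : Set G) : Subgroup G) := IsPGroup.of_card (n := 6) (S.L_card_N hL)
    have hCl := S.card_centralizer_le_of_D hsD hp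
    have h32s : Nat.card (normalizer (S.T0 : Set G) ⊓ centralizer ({R.el s (false, false)} : Set G) : Subgroup G)
        = 32 := by
      refine le_antisymm hCl ?_
      let L := allV.filter fun w => (cocL β η₁ η₂).om s w == (false, false)
      have hL2 : Nat.card (Bool × {w : V // w ∈ L}) = 2 * L.length := by
        rw [Nat.card_prod, Nat.card_eq_fintype_card, Fintype.card_bool, Nat.card_eq_fintype_card,
          Fintype.card_of_subtype L.toFinset (fun v => List.mem_toFinset),
          List.toFinset_card_of_nodup (nodup_allV.filter _)]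
      have h16 : 32 ≤ 2 * L.length := by have := hker β η₁ η₂ s; simp only [L]; omega
      refine h16.trans (hL2 ▸ Nat.card_le_card_of_injective
        (fun x => ⟨R.el x.2.1 (x.1, false), (hmem _).2 ⟨_, _, rfl⟩, mem_centralizer_singleton_iff.2
          (((hcomm s x.2.1 false x.1).2 (by simpa using (List.mem_filter.1 x.2.2).2))).symm⟩) ?_)
      rintro ⟨z, v, hv⟩ ⟨z', v', hv'⟩ h
      obtain ⟨rfl, rfl⟩ := hinj _ _ _ _ (congrArg Subtype.val h)
      rfl
    obtain ⟨hsix', x, y2, hx, hy2, hxy⟩ := S.extremal hsD h32s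
    rw [S.card_D_T0_L hL] at hsix'
    refine full_step _ Dl hnd hom_self hs ?_ ?_
    · have h2 := hcount fun w => (cocL β η₁ η₂).om s w == (false, false)
      have he : Nat.card {g : G // (∃ v z, g = R.el v (z, false) ∧
            ((cocL β η₁ η₂).om s v == (false, false)) = true) ∧ S.D g} = 6 := by
        rw [← hsix']
        refine Nat.card_congr (Equiv.subtypeEquivRight fun g => and_congr_left fun _ => ?_)
        constructor
        · rintro ⟨v, z, rfl, h⟩
          exact ⟨(hmem _).2 ⟨v, z, rfl⟩, ((hcomm s v false z).2 (by simpa using h)).symm⟩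
        · rintro ⟨hg, hgs⟩
          obtain ⟨v, z, rfl⟩ := (hmem g).1 hg
          exact ⟨v, z, rfl, by simpa using (hcomm s v false z).1 hgs.symm⟩
      omega
    · obtain ⟨v, z, rfl⟩ := (hmem x).1 hx.1.1
      obtain ⟨v', z', rfl⟩ := (hmem y2).1 hy2.1.1
      exact ⟨v, (hDmem v).2 ((hDflip v z).1 hx.2), v', (hDmem v').2 ((hDflip v' z').1 hy2.2),
        (hcomm s v false z).1 hx.1.2.symm, (hcomm s v' false z').1 hy2.1.2.symm,
        fun h => hxy ((hcomm v v' z z').2 h)⟩
  have heven := Coc.search_sound _ _ f _ _ (searchL β η₁ η₂) hfull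
  rw [← hDl] at heven
  obtain ⟨fx, hfx, hmod⟩ := fixed_congr S.hno S.t_sq (normalizer (S.T0 : Set G) : Subgroup G)
  have hall := hcount fun _ => true
  rw [List.filter_eq_self.2 (by simp)] at hall
  have hN2 : Nat.card {g : G // g ∈ normalizer (S.T0 : Set G) ∧ IsConj S.t g} = 2 * Dl.length := by
    rw [← hall]
    refine Nat.card_congr (Equiv.subtypeEquivRight fun g => and_congr_left fun _ => ?_)
    simp [hmem]
  rw [S.card_C, S.L_card_N hL, hN2] at hfx
  have hodd := S.L_odd_index hL
  have he2 : Dl.length % 2 = 0 := by simpa using heven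
  obtain ⟨c, hc⟩ : 2 ∣ Dl.length := Nat.dvd_of_mod_eq_zero he2
  have h2 : fx = 2 * (S.geo.κ * c) := by rw [hc] at hfx; nlinarith
  omega

theorem L_swap (hL : S.IsL) {g0 : G} (hg0 : g0 ∈ normalizer (S.T0 : Set G))
    (hQ : S.InQ (g0 * S.s0 * g0⁻¹)) : False := by
  classical
  have hg0T : g0 ∉ S.T0 := by
    intro h
    obtain ⟨p, x, y, i, j, rfl⟩ := S.exists_e h
    obtain ⟨z, hz⟩ := hQ
    rw [mul_inv_eq_iff_eq_mul, s0, S.e_mul, S.e_mul] at hz
    have := (S.e_inj hz).2.2.2.1
    revert this
    cases i <;> simp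
  have hout : ∀ y ∈ normalizer (S.T0 : Set G), y ∉ S.T0 → S.InQ (y * S.s0 * y⁻¹) := by
    intro y hy hyT
    have hx := S.L_coset hL hg0 hg0T hy hyT
    obtain ⟨p, x, y', i, j, e⟩ := S.exists_e hx
    have e2 : y = g0 * S.e p x y' i j := by rw [← e]; group
    have h1 : S.e p x y' i j * S.s0 * (S.e p x y' i j)⁻¹ = S.e false i false false false * S.s0 := by
      rw [mul_inv_eq_iff_eq_mul, s0, S.e_mul, S.e_a_mul, S.e_mul]
      cases p <;> cases x <;> cases y' <;> cases i <;> cases j <;> rfl
    obtain ⟨z, hz⟩ := hQ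
    refine ⟨xor i z, ?_⟩
    rw [e2, show g0 * S.e p x y' i j * S.s0 * (g0 * S.e p x y' i j)⁻¹
      = g0 * (S.e p x y' i j * S.s0 * (S.e p x y' i j)⁻¹) * g0⁻¹ by group, h1, conj_prod, S.conj_e_a hg0, hz,
      S.e_a_mul]
  have hQflip : ∀ y ∈ normalizer (S.T0 : Set G), y ∉ S.T0 → S.InP (y * S.e true false true true false * y⁻¹) := by
    intro y hy hyT
    rcases S.L_outer_mem hL hy (S.D_q0 hL) (by decide) with h | ⟨z, hz⟩
    · exact h
    · exfalso
      obtain ⟨w, hw⟩ := hout y hy hyT
      have h : y * (S.e false (xor z w) false false false * S.s0) * y⁻¹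
          = y * S.e true false true true false * y⁻¹ := by
        rw [conj_prod, S.conj_e_a hy, hw, hz, S.e_a_mul]; cases z <;> cases w <;> rfl
      have := mul_left_cancel (mul_right_cancel h)
      rw [s0, S.e_a_mul] at this
      exact absurd (S.e_inj this).2.2.2.1 (by decide)
  have hp : IsPGroup 2 (normalizer (S.T0 : Set G) : Subgroup G) := IsPGroup.of_card (n := 6) (S.L_card_N hL)
  have hsmall : ∀ s ∈ normalizer (S.T0 : Set G), S.D s → s ≠ S.t → s ≠ S.e true true false false false →
      Nat.card (normalizer (S.T0 : Set G) ⊓ centralizer ({s} : Set G) : Subgroup G) ≤ 16 := by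
    intro s hsN hsD hst hsta
    set X := (normalizer (S.T0 : Set G) ⊓ centralizer ({s} : Set G) : Subgroup G) with hX
    by_contra hcon
    have hle := S.card_centralizer_le_of_D hsD hp
    have hd := Subgroup.card_dvd_of_le (inf_le_left : X ≤ normalizer (S.T0 : Set G))
    rw [S.L_card_N hL] at hd
    obtain ⟨n, hn, hXn⟩ := (Nat.dvd_prime_pow Nat.prime_two).1 (show Nat.card X ∣ 2 ^ 6 from hd)
    rw [← hX] at hle
    have h32 : Nat.card X = 32 := by
      interval_cases n <;> omega
    by_cases hsT : s ∈ S.T0
    · obtain ⟨p, x, y, i, j, rfl⟩ := S.exists_e hsT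
      obtain ⟨rfl, hij, hs⟩ := (S.D_e_iff_L hL ..).1 hsD
      have hne : (i || j) = true := by
        by_contra h
        obtain ⟨rfl, rfl⟩ : i = false ∧ j = false := by simpa using h
        cases x <;> cases y <;> simp [suppOf] at hs
        · exact hst S.e_t
        · exact hsta rfl
      have hsub : X ≤ S.T0 := by
        rintro w ⟨hwN, hwc⟩
        by_contra hwT
        have hc := mul_inv_eq_iff_eq_mul.2 (mem_centralizer_singleton_iff.1 hwc)
        have hforms : S.e true x y i j = S.e false x false false false * S.s0 ∨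
            S.e true x y i j = S.e false x false false false * S.e true false true true false := by
          rw [s0, S.e_a_mul, S.e_a_mul, Bool.xor_false]
          revert hij hne hs
          cases y <;> cases i <;> cases j <;> simp [suppOf]
        rcases hforms with h | h <;> rw [h, conj_prod, S.conj_e_a hwN] at hc
        · obtain ⟨z, hz⟩ := hout w hwN hwT
          rw [hz, s0, S.e_a_mul, S.e_a_mul] at hc
          exact absurd (S.e_inj hc).2.2.2.1 (by decide)
        · obtain ⟨z, hz⟩ := hQflip w hwN hwT
          rw [hz, S.e_a_mul, S.e_a_mul] at hc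
          exact absurd (S.e_inj hc).2.2.2.1 (by decide)
      have hXT := Subgroup.eq_of_le_of_card_ge hsub (by rw [S.card_T0, h32])
      have h1 : S.e false false false j i ∈ X := hXT ▸ S.e_mem ..
      have h2 := mem_centralizer_singleton_iff.1 h1.2
      rw [S.e_commute_iff] at h2
      revert h2 hne hij
      cases i <;> cases j <;> simp
    · have hsx : s ∈ X := ⟨hsN, mem_centralizer_singleton_iff.2 rfl⟩
      have hcard2 : 16 ≤ Nat.card (X ⊓ S.T0 : Subgroup G) := by
        let φ : X → (X ⊓ S.T0 : Subgroup G) × Bool := fun w =>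
          if h : (w : G) ∈ S.T0 then (⟨w, w.2, h⟩, false)
          else (⟨(s : G)⁻¹ * w, X.mul_mem (X.inv_mem hsx) w.2, S.L_coset hL hsN hsT w.2.1 h⟩, true)
        have hinj : Function.Injective φ := by
          intro v w h
          by_cases hv : (v : G) ∈ S.T0 <;> by_cases hw : (w : G) ∈ S.T0 <;>
            simp only [φ, dif_pos, dif_neg, hv, hw, not_false_iff, Prod.mk.injEq, Subtype.mk.injEq] at h
          · exact Subtype.ext (congrArg (fun z : (X ⊓ S.T0 : Subgroup G) => (z : G)) h.1)
          · exact absurd h.2 (by decide)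
          · exact absurd h.2 (by decide)
          · exact Subtype.ext (mul_left_cancel (congrArg Subtype.val h.1))
        have := Nat.card_le_card_of_injective φ hinj
        rw [Nat.card_prod, h32, Nat.card_eq_fintype_card (α := Bool), Fintype.card_bool] at this
        omega
      obtain ⟨β, hβ⟩ := S.L_conj_b hL hsN
      obtain ⟨z1, hz1⟩ := hout s hsN hsT
      obtain ⟨z2, hz2⟩ := hQflip s hsN hsT
      have hst' := S.L_moves_t hL hsN hsT
      have hsw : s * S.e false false false false true * s⁻¹ = S.e false (!z1) true true false := by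
        rw [show S.e false false false false true = S.t * S.s0 by rw [s0, ← S.e_t, S.e_mul]; rfl, conj_prod, hst',
          hz1, S.e_mul]
        cases z1 <;> rfl
      have he1 : s * S.e false false false true false * s⁻¹ = S.e false (!(xor β z2)) true false true := by
        rw [show S.e false false false true false
            = S.t * S.e false false true false false * S.e true false true true false by
            rw [← S.e_t, S.e_mul, S.e_mul]; rfl,
          conj_prod, conj_prod, hst', hβ, hz2, S.e_mul, S.e_mul]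
        cases β <;> cases z2 <;> rfl
      have himg : ∀ p x y i j, ∃ x', s * S.e p x y i j * s⁻¹ = S.e p x' (xor (xor y i) j) j i := by
        intro p x y i j
        have hd : S.e p x y i j = S.e p false false false false * S.e false x false false false *
            S.e false false y false false * S.e false false false i false * S.e false false false false j := by
          rw [S.e_mul, S.e_mul, S.e_mul, S.e_mul]; simp
        have h1 : s * S.e p false false false false * s⁻¹ = S.e p p false false false := by
          cases p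
          · rw [S.e_one]; group
          · rw [S.e_t]; exact hst'
        have h2 : s * S.e false false y false false * s⁻¹ = S.e false (y && β) y false false := by
          cases y
          · simp only [Bool.false_and]; rw [S.e_one]; group
          · rw [hβ]; rfl
        have h3 : s * S.e false false false i false * s⁻¹ = S.e false (i && !(xor β z2)) i false i := by
          cases i
          · simp only [Bool.false_and]; rw [S.e_one]; group
          · rw [he1]; rfl
        have h4 : s * S.e false false false false j * s⁻¹ = S.e false (j && !z1) j j false := by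
          cases j
          · simp only [Bool.false_and]; rw [S.e_one]; group
          · rw [hsw]; rfl
        rw [hd, conj_prod, conj_prod, conj_prod, conj_prod, h1, S.conj_e_a hsN, h2, h3, h4, S.e_mul, S.e_mul,
          S.e_mul, S.e_mul]
        cases p <;> cases y <;> cases i <;> cases j <;> exact ⟨_, rfl⟩
      have hsub : ∀ w ∈ (X ⊓ S.T0 : Subgroup G), ∃ p x y i, w = S.e p x y i i := by
        rintro w ⟨⟨hwN, hwc⟩, hwT⟩
        obtain ⟨p, x, y, i, j, rfl⟩ := S.exists_e hwT
        obtain ⟨x', hx'⟩ := himg p x y i j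
        rw [mul_inv_eq_iff_eq_mul.2 (mem_centralizer_singleton_iff.1 hwc).symm] at hx'
        obtain ⟨-, -, -, rfl, -⟩ := S.e_inj hx'
        exact ⟨p, x, y, _, rfl⟩
      let ψ : (X ⊓ S.T0 : Subgroup G) → Bool × Bool × Bool × Bool := fun w =>
        ((hsub w w.2).choose, (hsub w w.2).choose_spec.choose, (hsub w w.2).choose_spec.choose_spec.choose,
          (hsub w w.2).choose_spec.choose_spec.choose_spec.choose)
      have hψe : ∀ w : (X ⊓ S.T0 : Subgroup G), (w : G) = S.e (ψ w).1 (ψ w).2.1 (ψ w).2.2.1 (ψ w).2.2.2 (ψ w).2.2.2 :=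
        fun w => (hsub w w.2).choose_spec.choose_spec.choose_spec.choose_spec
      have hψ : Function.Injective ψ := fun v w h => Subtype.ext (by rw [hψe v, hψe w, h])
      have : Fintype (X ⊓ S.T0 : Subgroup G) := Fintype.ofFinite _
      obtain ⟨-, hsurj⟩ := (Fintype.bijective_iff_injective_and_card (f := ψ)).2
        ⟨hψ, by
          have h1 := Nat.card_le_card_of_injective ψ hψ
          simp only [Nat.card_prod, Nat.card_eq_fintype_card (α := Bool), Fintype.card_bool] at h1
          rw [← Nat.card_eq_fintype_card, ← Nat.card_eq_fintype_card]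
          simp only [Nat.card_prod, Nat.card_eq_fintype_card (α := Bool), Fintype.card_bool]
          omega⟩
      obtain ⟨w, hw⟩ := hsurj (true, false, false, false)
      have he := hψe w
      rw [hw, S.e_t] at he
      have hc := mem_centralizer_singleton_iff.1 w.2.1.2
      rw [he] at hc
      exact hsT (S.mem_T0_of_normalizes hsN hc.symm)
  -- the transfer into the largest abelian quotient
  set N := (normalizer (S.T0 : Set G) : Subgroup G)
  have : Fintype (Abelianization N) := Fintype.ofFinite _
  have hA : IsPGroup 2 (Abelianization N) := hp.to_quotient _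
  let isT : G → Bool := fun y => decide (y = S.t ∨ y = S.e true true false false false)
  let val : G → Option (Abelianization N) := fun y =>
    if isT y then none else if h : y ∈ N then some (Abelianization.of ⟨y, h⟩) else none
  have hTmem : ∀ y, isT y = true ↔ (y = S.t ∨ y = S.e true true false false false) := fun y => decide_eq_true_iff
  have hTconj : ∀ k ∈ N, ∀ y, isT (k⁻¹ * y * k) = true → isT y = true := by
    intro k hk y h
    rw [hTmem] at h ⊢
    obtain ⟨z, hz⟩ := S.L_conj_t hL hk
    rcases h with h | h <;> rw [show y = k * (k⁻¹ * y * k) * k⁻¹ by group, h]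
    · cases z
      exacts [Or.inl (hz.trans S.e_t), Or.inr hz]
    · rw [show S.e true true false false false = S.e false true false false false * S.t by
        rw [← S.e_t, S.e_a_mul]; rfl, conj_prod, S.conj_e_a hk, hz, S.e_a_mul, ← S.e_t, S.e_a_mul]
      cases z
      exacts [Or.inr rfl, Or.inl rfl]
  have hTinv : ∀ k ∈ N, ∀ y, isT (k⁻¹ * y * k) = isT y := by
    intro k hk y
    rw [Bool.eq_iff_iff]
    refine ⟨hTconj k hk y, fun h => ?_⟩
    refine hTconj k⁻¹ (inv_mem hk) _ ?_
    rwa [show k⁻¹⁻¹ * (k⁻¹ * y * k) * k⁻¹ = y by group]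
  have htN : S.t ∈ N := S.T0_le_N S.t_mem_T0
  have htaN : S.e true true false false false ∈ N := S.T0_le_N (S.e_mem ..)
  have hTval : Abelianization.of (⟨S.e true true false false false, htaN⟩ : N) = Abelianization.of ⟨S.t, htN⟩ := by
    have h := S.L_moves_t hL hg0 hg0T
    rw [show (⟨S.e true true false false false, htaN⟩ : N) = ⟨g0, hg0⟩ * ⟨S.t, htN⟩ * ⟨g0, hg0⟩⁻¹ from
      Subtype.ext h.symm, map_mul, map_mul, map_inv, mul_right_comm, mul_inv_cancel, one_mul]
  obtain ⟨m, hm, hprod⟩ := transfer_parts S.hno S.t_sq N hA Abelianization.of val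
    (by
      intro kk hk y hy _
      simp only [val]
      rw [hTinv kk hk y]
      split
      · rfl
      · have h' : kk⁻¹ * y * kk ∈ N := mul_mem (mul_mem (inv_mem hk) hy) hk
        rw [dif_pos h',
          show (⟨_, h'⟩ : N) = (⟨kk, hk⟩ : N)⁻¹ * ⟨y, hy⟩ * ⟨kk, hk⟩ from Subtype.ext rfl, map_mul, map_mul,
          map_inv, mul_right_comm, inv_mul_cancel, one_mul])
    (fun o => o.getD (Abelianization.of ⟨S.t, htN⟩))
    (by
      intro y hy _
      simp only [val]
      rcases hT : isT y with _ | _
      · simp [hT, dif_pos hy]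
      · simp only [if_true, Option.getD_none]
        rcases (hTmem y).1 hT with h | h <;> subst h
        exacts [rfl, hTval])
  have hnone : m none % 2 = 1 := by
    have h1 := hm none
    have hc : Nat.card {y : G // (y ∈ N ∧ val y = none) ∧ IsConj S.t y} = 2 := by
      have : Nat.card {y : G // (y ∈ N ∧ val y = none) ∧ IsConj S.t y} = Nat.card Bool := by
        have hv : ∀ z : Bool, val (S.e true z false false false) = none := fun z => by
          have : isT (S.e true z false false false) = true := by
            rw [hTmem]; cases z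
            exacts [Or.inl S.e_t, Or.inr rfl]
          simp [val, this]
        refine (Nat.card_congr (Equiv.ofBijective (fun z : Bool => ⟨S.e true z false false false,
          ⟨S.T0_le_N (S.e_mem ..), hv z⟩, (S.D_e_iff_L hL ..).2 (by cases z <;> decide)⟩) ⟨?_, ?_⟩)).symm
        · intro z z' h
          exact (S.e_inj (congrArg Subtype.val h)).2.1
        · rintro ⟨y, ⟨hy, hv⟩, hD⟩
          simp only [val, dif_pos hy] at hv
          rcases hT : isT y with _ | _
          · simp [hT] at hv
          · rcases (hTmem y).1 hT with rfl | rfl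
            exacts [⟨false, Subtype.ext S.e_t⟩, ⟨true, rfl⟩]
      rw [this]; simp
    rw [hc, S.card_C, S.L_card_N hL] at h1
    obtain ⟨d, hd⟩ := S.geo.κ_odd
    omega
  have hsome : ∀ v, 2 ∣ m (some v) := by
    intro v
    have h1 := hm (some v)
    have h4 : 2 ^ 2 ∣ Nat.card {y : G | (y ∈ N ∧ val y = some v) ∧ IsConj S.t y} := by
      refine two_pow_dvd_card (K := N) (e := 6) (S.L_card_N hL) _ ?_ ?_ (by omega)
      · intro kk hk y ⟨⟨hy, hv⟩, hD⟩
        refine ⟨⟨mul_mem (mul_mem hk hy) (inv_mem hk), ?_⟩, S.D_conj kk hD⟩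
        have h' : kk * y * kk⁻¹ ∈ N := mul_mem (mul_mem hk hy) (inv_mem hk)
        have e : isT (kk * y * kk⁻¹) = isT y := by
          have := hTinv kk⁻¹ (inv_mem hk) y
          rwa [inv_inv] at this
        rw [← hv]
        simp only [val, e, dif_pos h', dif_pos hy]
        split
        · rfl
        · rw [show (⟨_, h'⟩ : N) = (⟨kk, hk⟩ : N) * ⟨y, hy⟩ * ⟨kk, hk⟩⁻¹ from Subtype.ext rfl, map_mul, map_mul,
            map_inv, mul_right_comm, mul_inv_cancel, one_mul]
      · intro y ⟨⟨hy, hv⟩, hD⟩
        have hT : isT y = false := by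
          rcases hT : isT y with _ | _
          · rfl
          · simp [val, hT] at hv
        have hne : ¬ (y = S.t ∨ y = S.e true true false false false) := fun h => by
          rw [← hTmem, hT] at h; exact Bool.false_ne_true h
        exact hsmall y hy hD (fun h => hne (Or.inl h)) (fun h => hne (Or.inr h))
    rw [S.card_C, S.L_card_N hL] at h1
    obtain ⟨c, hc⟩ := h4
    have : Nat.card {y : G // (y ∈ N ∧ val y = some v) ∧ IsConj S.t y} = 2 ^ 2 * c := hc
    rw [this] at h1
    exact ⟨S.geo.κ * c, by nlinarith⟩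
  rw [Fintype.prod_option] at hprod
  rw [Finset.prod_eq_one (fun v _ => ?_), mul_one] at hprod
  swap
  · simp only [Option.getD_some]
    rcases Nat.eq_zero_or_pos (m (some v)) with h0 | h0
    · rw [h0, pow_zero]
    · obtain ⟨c, hc⟩ := hsome v
      have h1 := hm (some v)
      obtain ⟨y, ⟨hy, hv⟩, hD⟩ :
          ∃ y, (y ∈ N ∧ val y = some v) ∧ IsConj S.t y := by
        by_contra hne
        have : IsEmpty {y : G // (y ∈ N ∧ val y = some v) ∧ IsConj S.t y} := ⟨fun x => hne ⟨x, x.2⟩⟩
        rw [Nat.card_of_isEmpty (α := {y : G // (y ∈ N ∧ val y = some v) ∧ IsConj S.t y}), mul_zero] at h1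
        exact (Nat.mul_pos h0 Nat.card_pos).ne' h1
      have hT : isT y = false := by
        rcases hT : isT y with _ | _
        · rfl
        · simp [val, hT] at hv
      simp only [val, hT, dif_pos hy, Bool.false_eq_true, if_false, Option.some.injEq] at hv
      rw [hc, pow_mul, ← hv, pow_two, ← map_mul,
        show (⟨y, hy⟩ : N) * ⟨y, hy⟩ = 1 from Subtype.ext (S.D_sq hD), map_one, one_pow]
  have htval : Abelianization.of (⟨S.t, htN⟩ : N) = 1 := by
    have hsq : Abelianization.of (⟨S.t, htN⟩ : N) ^ 2 = 1 := by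
      rw [pow_two, ← map_mul, show (⟨S.t, htN⟩ : N) * ⟨S.t, htN⟩ = 1 from Subtype.ext S.t_sq, map_one]
    simp only [Option.getD_none] at hprod
    rw [← Nat.mod_add_div (m none) 2, pow_add, pow_mul, hsq, one_pow, mul_one, hnone, pow_one] at hprod
    exact hprod
  let M0 : Subgroup G := S.ι.range ⊓ S.T0
  have hMnormal : ∀ kk ∈ N, ∀ x ∈ M0, kk * x * kk⁻¹ ∈ M0 := by
    intro kk hk x hx
    refine ⟨?_, S.normalizer_normal hk hx.2⟩
    obtain ⟨p, a, b, i, j, rfl⟩ := S.exists_e hx.2
    obtain ⟨σ, hσ⟩ := hx.1
    have hp0 : p = false := by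
      have : S.el false σ = S.e p a b i j := by rw [← hσ]; simp [el]
      exact (S.el_inj this).1.symm
    subst hp0
    have hgen : ∀ a b i j, (∃ a' b' i' j', kk * S.e false a b i j * kk⁻¹ = S.e false a' b' i' j') := by
      intro a b i j
      obtain ⟨β, hβ⟩ := S.L_conj_b hL hk
      obtain ⟨z, hz⟩ := S.L_conj_t hL hk
      have hs : ∃ a' b' i' j', kk * S.e true false false false true * kk⁻¹ = S.e true a' b' i' j' := by
        rcases S.L_outer_mem hL hk (x := false) (y := false) (i := false) (j := true) (S.D_s0 hL) (by decide)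
          with ⟨w, hw⟩ | ⟨w, hw⟩ <;> exact ⟨_, _, _, _, hw⟩
      have hq : ∃ a' b' i' j', kk * S.e true false true true false * kk⁻¹ = S.e true a' b' i' j' := by
        rcases S.L_outer_mem hL hk (S.D_q0 hL) (by decide) with ⟨w, hw⟩ | ⟨w, hw⟩ <;> exact ⟨_, _, _, _, hw⟩
      obtain ⟨s1, s2, s3, s4, hs⟩ := hs
      obtain ⟨q1, q2, q3, q4, hq⟩ := hq
      have hd : S.e false a b i j = S.e false a false false false * S.e false false b false false *
          (cond i (S.t * S.e false false true false false * S.e true false true true false) 1) *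
          (cond j (S.t * S.e true false false false true) 1) := by
        cases a <;> cases b <;> cases i <;> cases j <;>
          simp only [cond_true, cond_false, ← S.e_t, S.e_mul, mul_one] <;> rfl
      rw [hd, conj_prod, conj_prod, conj_prod, S.conj_e_a hk]
      have hb2 : ∃ a', kk * S.e false false b false false * kk⁻¹ = S.e false a' b false false := by
        cases b
        · exact ⟨false, by rw [S.e_one]; group⟩
        · exact ⟨β, hβ⟩
      obtain ⟨a', hb2⟩ := hb2
      rw [hb2]
      cases i <;> cases j <;> simp only [cond_true, cond_false, conj_prod, hz, hβ, hs, hq, mul_one, mul_inv_cancel,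
        S.e_mul] <;> exact ⟨_, _, _, _, rfl⟩
    obtain ⟨a', b', i', j', e⟩ := hgen a b i j
    exact ⟨S.F.elP a' b' i' j', by rw [e]; simp [Setup.e, el]⟩
  have hcard16 : Nat.card M0 = 16 := by
    rw [← Nat.card_congr (Equiv.ofBijective (fun v : Bool × Bool × Bool × Bool =>
      (⟨S.e false v.1 v.2.1 v.2.2.1 v.2.2.2, ⟨_, (by simp [Setup.e, el] :
          S.ι (S.F.elP v.1 v.2.1 v.2.2.1 v.2.2.2) = _)⟩, S.e_mem ..⟩ : M0))
      ⟨fun v w h => by
        obtain ⟨-, h2, h3, h4, h5⟩ := S.e_inj (congrArg Subtype.val h)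
        exact Prod.ext h2 (Prod.ext h3 (Prod.ext h4 h5)),
      fun ⟨g, ⟨σ, hσ⟩, hg⟩ => by
        obtain ⟨p, a, b, i, j, rfl⟩ := S.exists_e hg
        have : S.el false σ = S.e p a b i j := by rw [← hσ]; simp [el]
        obtain rfl := (S.el_inj this).1
        exact ⟨(a, b, i, j), rfl⟩⟩)]
    simp
  have hM0N : M0 ≤ N := fun x hx => S.T0_le_N hx.2
  have : (M0.subgroupOf N).Normal := ⟨fun x hx g => hMnormal g g.2 x hx⟩
  have hq4 : Nat.card (N ⧸ M0.subgroupOf N) = 2 ^ 2 := by
    have h1 := (M0.subgroupOf N).card_mul_index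
    rw [Nat.card_congr (Subgroup.subgroupOfEquivOfLe hM0N).toEquiv, hcard16, S.L_card_N hL] at h1
    rw [← Subgroup.index_eq_card]
    omega
  have : Fact (Nat.Prime 2) := ⟨Nat.prime_two⟩
  have hcom : commutator N ≤ M0.subgroupOf N := Subgroup.Normal.quotient_commutative_iff_commutator_le.1
    (IsPGroup.isMulCommutative_of_card_eq_prime_sq hq4)
  have ht0 : (⟨S.t, htN⟩ : N) ∈ commutator N := by
    rw [← Abelianization.ker_of]; exact htval
  obtain ⟨σ, hσ⟩ := (hcom ht0).1
  exact S.t_notin σ hσ

/-- The first pattern does not occur. -/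
theorem not_isL : ¬ S.IsL := by
  intro hL
  by_cases h : ∀ g ∈ normalizer (S.T0 : Set G), S.InP (g * S.s0 * g⁻¹)
  · exact S.L_trivial hL h
  · push Not at h
    obtain ⟨g, hg, hgP⟩ := h
    rcases S.L_outer_mem hL hg (x := false) (y := false) (i := false) (j := true) (S.D_s0 hL) (by decide) with h | h
    exacts [hgP h, S.L_swap hL hg h]

end Setup

end Cfsg.Agent.H67.TwoSym
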