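import Cfsg.Agent.H67.TwoSym.Model
import Mathlib.GroupTheory.Perm.Cycle.Type
import Mathlib.GroupTheory.Sylow
import Mathlib.Data.Fintype.Perm

/-!
# Frames in the symmetric groups of degree six and seven

A frame consists of the generators `e1, sw, b` of a Sylow 2-subgroup `D₈ × 2`, a square root of `sw` commuting
with `b`, and an element of order three permuting `e1, sw e1 sw, b`. There are two frames on one Sylow subgroup,
exchanged by an outer automorphism of the symmetric group of degree six.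
-/

set_option autoImplicit false

namespace Cfsg.Agent.H67.TwoSym

open Equiv Equiv.Perm

/-- Generators of a Sylow 2-subgroup with their distinguishing properties. -/
structure Frame (k : ℕ) where
  e1 : Perm (Fin k)
  sw : Perm (Fin k)
  b : Perm (Fin k)
  qq : Perm (Fin k)
  ρ : Perm (Fin k)
  e1_sq : e1 * e1 = 1
  sw_sq : sw * sw = 1
  b_sq : b * b = 1
  a_sq : (sw * e1 * sw * e1) * (sw * e1 * sw * e1) = 1
  a_e1 : (sw * e1 * sw * e1) * e1 = e1 * (sw * e1 * sw * e1)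
  a_sw : (sw * e1 * sw * e1) * sw = sw * (sw * e1 * sw * e1)
  b_e1 : b * e1 = e1 * b
  b_sw : b * sw = sw * b
  sgn_e1 : sign e1 = -1
  sgn_b : sign b = -1
  sgn_sw : sign sw = 1
  qq_sq : qq * qq = sw
  qq_b : qq * b = b * qq
  faithful : ∀ x y i j : Bool, cond x (sw * e1 * sw * e1) 1 * cond y b 1 * (cond i e1 1 * cond j sw 1) = 1 →
    x = false ∧ y = false ∧ i = false ∧ j = false
  ρ_cube : ρ * ρ * ρ = 1
  ρ_e1 : ρ * e1 = sw * e1 * sw * ρ
  ρ_e2 : ρ * (sw * e1 * sw) = b * ρ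
  ρ_b : ρ * b = e1 * ρ
  sq_ne : ∀ σ : Perm (Fin k), σ * b = b * σ → σ * σ ≠ e1 * b
  centH : ∀ σ : Perm (Fin k), σ * e1 = e1 * σ → σ * b = b * σ → σ * (sw * e1 * sw) = sw * e1 * sw * σ →
    ∃ x y i : Bool, σ = cond x (sw * e1 * sw * e1) 1 * cond y b 1 * cond i e1 1
  noP : ∀ σ : Perm (Fin k), (σ ^ 5 = 1 ∨ σ ^ 7 = 1) → (∀ h ∈ [e1, b, sw * e1 * sw],
      ∃ x y i : Bool, σ * h * σ⁻¹ = cond x (sw * e1 * sw * e1) 1 * cond y b 1 * cond i e1 1) → σ = 1
  fixB : ∀ σ : Perm (Fin k), σ * b = b * σ → (∀ h ∈ [e1, b, sw * e1 * sw],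
      ∃ x y i : Bool, σ * h * σ⁻¹ = cond x (sw * e1 * sw * e1) 1 * cond y b 1 * cond i e1 1) →
    (σ * σ) * e1 = e1 * (σ * σ) ∧ (σ * σ) * (sw * e1 * sw) = sw * e1 * sw * (σ * σ)

theorem eq_of_xor {x y i j x' y' i' j' : Bool} (h2 : xor (xor x (xor x' (i' && j'))) (j && i') = false)
    (h3 : xor y y' = false) (h4 : xor i i' = false) (h5 : xor j j' = false) :
    x = x' ∧ y = y' ∧ i = i' ∧ j = j' := by
  revert x y i j x' y' i' j'
  decide

namespace Frame

variable {k : ℕ} (F : Frame k)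

/-- The commutator of the two reflections. -/
def a : Perm (Fin k) := F.sw * F.e1 * F.sw * F.e1

/-- The second transposition-like element. -/
def e2 : Perm (Fin k) := F.sw * F.e1 * F.sw

/-- The product of `a` and `b`. -/
def c : Perm (Fin k) := F.a * F.b

theorem a_comm_b : F.a * F.b = F.b * F.a := by
  have h1 : Commute F.b F.e1 := F.b_e1
  have h2 : Commute F.b F.sw := F.b_sw
  exact (((h2.mul_right h1).mul_right h2).mul_right h1).symm.eq

theorem a_mul_e1 : F.a * F.e1 = F.e2 := by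
  rw [a, e2, mul_assoc, F.e1_sq, mul_one]

theorem sgn_a : sign F.a = 1 := by
  simp [a, map_mul, F.sgn_e1, F.sgn_sw]

theorem sgn_e2 : sign F.e2 = -1 := by
  simp [e2, map_mul, F.sgn_e1, F.sgn_sw]

/-- The collection data of the Sylow subgroup, inside the symmetric group. -/
def rel : Rel (Perm (Fin k)) where
  w10 := (false, false)
  w20 := (false, false)
  w21 := (true, false)
  w30 := (false, false)
  w31 := (false, false)
  w32 := (false, false)
  w40 := (false, false)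
  w41 := (false, false)
  w42 := (false, false)
  w43 := (false, false)
  s0 := (false, false)
  s1 := (false, false)
  s2 := (false, false)
  s3 := (false, false)
  s4 := (false, false)
  za := F.a
  zb := F.b
  g0 := 1
  g1 := F.e1
  g2 := F.sw
  g3 := 1
  g4 := 1
  za_sq := F.a_sq
  zb_sq := F.b_sq
  zab := F.a_comm_b
  za_g := ⟨by simp, F.a_e1, F.a_sw, by simp, by simp⟩
  zb_g := ⟨by simp, F.b_e1, F.b_sw, by simp, by simp⟩
  r0 := by simp
  r1 := by simp [F.e1_sq]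
  r2 := by simp [F.sw_sq]
  r3 := by simp
  r4 := by simp
  r10 := by simp
  r20 := by simp
  r21 := by
    show F.sw * F.e1 = F.a * 1 * (F.e1 * F.sw)
    rw [a, mul_one, mul_assoc _ F.e1, ← mul_assoc F.e1 F.e1, F.e1_sq, one_mul, mul_assoc _ F.sw, F.sw_sq, mul_one]
  r30 := by simp
  r31 := by simp
  r32 := by simp
  r40 := by simp
  r41 := by simp
  r42 := by simp
  r43 := by simp

/-- An element of the Sylow subgroup. -/
def elP (x y i j : Bool) : Perm (Fin k) := cond x F.a 1 * cond y F.b 1 * (cond i F.e1 1 * cond j F.sw 1)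

theorem elP_eq (x y i j : Bool) : F.elP x y i j = F.rel.el (false, i, j, false, false) (x, y) := by
  simp [elP, Rel.el, Rel.zeta, Rel.gen, rel]

theorem elP_mul (x y i j x' y' i' j' : Bool) : F.elP x y i j * F.elP x' y' i' j' =
    F.elP (xor (xor x x') (j && i')) (xor y y') (xor i i') (xor j j') := by
  rw [elP_eq, elP_eq, Rel.el_mul, elP_eq]
  congr 1
  simp only [rel, Coc.beta, wadd, wsmul]
  revert x y i j x' y' i' j'
  decide

theorem elP_inj {x y i j x' y' i' j' : Bool} (h : F.elP x y i j = F.elP x' y' i' j') :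
    x = x' ∧ y = y' ∧ i = i' ∧ j = j' := by
  have h1 : F.elP x y i j * F.elP (xor x' (i' && j')) y' i' j' = 1 := by
    rw [h, elP_mul]
    cases x' <;> cases y' <;> cases i' <;> cases j' <;> simp [elP]
  rw [elP_mul] at h1
  obtain ⟨h2, h3, h4, h5⟩ := F.faithful _ _ _ _ h1
  exact eq_of_xor h2 h3 h4 h5

/-- The Sylow 2-subgroup. -/
def P : Subgroup (Perm (Fin k)) where
  carrier := {σ | ∃ x y i j, σ = F.elP x y i j}
  one_mem' := ⟨false, false, false, false, by simp [elP]⟩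
  mul_mem' := by
    rintro _ _ ⟨x, y, i, j, rfl⟩ ⟨x', y', i', j', rfl⟩
    exact ⟨_, _, _, _, F.elP_mul ..⟩
  inv_mem' := by
    rintro _ ⟨x, y, i, j, rfl⟩
    refine ⟨xor x (i && j), y, i, j, inv_eq_of_mul_eq_one_right ?_⟩
    rw [elP_mul]
    cases x <;> cases y <;> cases i <;> cases j <;> simp [elP]

/-- The elementary subgroup `⟨e1, e2, b⟩`. -/
def H : Subgroup (Perm (Fin k)) where
  carrier := {σ | ∃ x y i, σ = F.elP x y i false}
  one_mem' := ⟨false, false, false, by simp [elP]⟩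
  mul_mem' := by
    rintro _ _ ⟨x, y, i, rfl⟩ ⟨x', y', i', rfl⟩
    exact ⟨_, _, _, F.elP_mul ..⟩
  inv_mem' := by
    rintro _ ⟨x, y, i, rfl⟩
    refine ⟨x, y, i, inv_eq_of_mul_eq_one_right ?_⟩
    rw [elP_mul]
    cases x <;> cases y <;> cases i <;> simp [elP]

theorem mem_P {σ : Perm (Fin k)} : σ ∈ F.P ↔ ∃ x y i j, σ = F.elP x y i j := Iff.rfl

theorem mem_H {σ : Perm (Fin k)} : σ ∈ F.H ↔ ∃ x y i, σ = F.elP x y i false := Iff.rfl

theorem mem_H' {σ : Perm (Fin k)} :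
    σ ∈ F.H ↔ ∃ x y i, σ = cond x F.a 1 * cond y F.b 1 * cond i F.e1 1 := by
  simp [mem_H, elP]

theorem card_P : Nat.card F.P = 16 := by
  rw [← Nat.card_congr (Equiv.ofBijective
    (fun p : Bool × Bool × Bool × Bool => (⟨F.elP p.1 p.2.1 p.2.2.1 p.2.2.2, _, _, _, _, rfl⟩ : F.P))
    ⟨fun p q h => by
      obtain ⟨h1, h2, h3, h4⟩ := F.elP_inj (congrArg Subtype.val h)
      exact Prod.ext h1 (Prod.ext h2 (Prod.ext h3 h4)),
     fun ⟨σ, x, y, i, j, h⟩ => ⟨(x, y, i, j), Subtype.ext h.symm⟩⟩)]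
  simp

theorem card_H : Nat.card F.H = 8 := by
  rw [← Nat.card_congr (Equiv.ofBijective
    (fun p : Bool × Bool × Bool => (⟨F.elP p.1 p.2.1 p.2.2 false, _, _, _, rfl⟩ : F.H))
    ⟨fun p q h => by
      obtain ⟨h1, h2, h3, -⟩ := F.elP_inj (congrArg Subtype.val h)
      exact Prod.ext h1 (Prod.ext h2 h3),
     fun ⟨σ, x, y, i, h⟩ => ⟨(x, y, i), Subtype.ext h.symm⟩⟩)]
  simp

theorem e1_mem_H : F.e1 ∈ F.H := ⟨false, false, true, by simp [elP]⟩

theorem b_mem_H : F.b ∈ F.H := ⟨false, true, false, by simp [elP]⟩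

theorem e2_mem_H : F.e2 ∈ F.H := ⟨true, false, true, by simp [elP, F.a_mul_e1]⟩

theorem H_sq {σ : Perm (Fin k)} (h : σ ∈ F.H) : σ * σ = 1 := by
  obtain ⟨x, y, i, rfl⟩ := h
  rw [elP_mul]
  cases x <;> cases y <;> cases i <;> simp [elP]

theorem H_comm {σ τ : Perm (Fin k)} (h : σ ∈ F.H) (h' : τ ∈ F.H) : σ * τ = τ * σ := by
  obtain ⟨x, y, i, rfl⟩ := h
  obtain ⟨x', y', i', rfl⟩ := h'
  rw [elP_mul, elP_mul]
  cases x <;> cases y <;> cases i <;> cases x' <;> cases y' <;> cases i' <;> rfl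

/-- The elementary subgroup is self-centralising. -/
theorem mem_H_of_commute {σ : Perm (Fin k)} (h : ∀ τ ∈ F.H, σ * τ = τ * σ) : σ ∈ F.H :=
  F.mem_H'.2 (F.centH σ (h _ F.e1_mem_H) (h _ F.b_mem_H) (h _ F.e2_mem_H))

/-- No elements of order five or seven normalise the elementary subgroup. -/
theorem eq_one_of_normalises {σ : Perm (Fin k)} (h : ∀ τ ∈ F.H, σ * τ * σ⁻¹ ∈ F.H)
    (hσ : σ ^ 5 = 1 ∨ σ ^ 7 = 1) : σ = 1 := by
  refine F.noP σ hσ (fun τ hτ => F.mem_H'.1 (h τ ?_))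
  simp only [List.mem_cons, List.not_mem_nil, or_false] at hτ
  rcases hτ with rfl | rfl | rfl
  exacts [F.e1_mem_H, F.b_mem_H, F.e2_mem_H]

theorem sq_fixes_of_fixB {σ : Perm (Fin k)} (h : ∀ τ ∈ F.H, σ * τ * σ⁻¹ ∈ F.H) (hb : σ * F.b = F.b * σ) :
    ∀ τ ∈ F.H, (σ * σ) * τ = τ * (σ * σ) := by
  have h1 := F.fixB σ hb (fun τ hτ => F.mem_H'.1 (h τ (by
    simp only [List.mem_cons, List.not_mem_nil, or_false] at hτ
    rcases hτ with rfl | rfl | rfl
    exacts [F.e1_mem_H, F.b_mem_H, F.e2_mem_H])))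
  have hc1 : Commute (σ * σ) F.e1 := h1.1
  have hc2 : Commute (σ * σ) F.e2 := h1.2
  have hcb : Commute (σ * σ) F.b := (show Commute σ F.b from hb).mul_left hb
  have hca : Commute (σ * σ) F.a := by
    rw [show F.a = F.e2 * F.e1 from rfl]; exact hc2.mul_right hc1
  intro τ hτ
  obtain ⟨x, y, i, rfl⟩ := F.mem_H'.1 hτ
  cases x <;> cases y <;> cases i <;> simp only [cond_true, cond_false, one_mul, mul_one]
  all_goals first
    | exact (Commute.one_right _).eq
    | exact hc1.eq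
    | exact hcb.eq
    | exact hca.eq
    | exact (hcb.mul_right hc1).eq
    | exact (hca.mul_right hc1).eq
    | exact (hca.mul_right hcb).eq
    | exact ((hca.mul_right hcb).mul_right hc1).eq

end Frame

end Cfsg.Agent.H67.TwoSym
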