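import Cfsg.Agent.H67.TwoSym.FrameSix
import Mathlib.GroupTheory.Perm.ViaEmbedding

/-!
# The two frames in degree seven

Both are lifted from degree six along the permutations fixing the last point.
-/

set_option autoImplicit false

namespace Cfsg.Agent.H67.TwoSym

open Equiv Equiv.Perm

/-- Permutations of six points inside those of seven points. -/
noncomputable def liftSix : Perm (Fin 6) →* Perm (Fin 7) := viaEmbeddingHom (Fin.castSuccEmb (n := 6))

theorem liftSix_apply (σ : Perm (Fin 6)) (x : Fin 6) : liftSix σ x.castSucc = (σ x).castSucc :=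
  σ.viaEmbedding_apply Fin.castSuccEmb x

theorem liftSix_last (σ : Perm (Fin 6)) : liftSix σ (Fin.last 6) = Fin.last 6 :=
  σ.viaEmbedding_apply_of_notMem Fin.castSuccEmb _
    (fun ⟨y, hy⟩ => (Fin.castSucc_lt_last y).ne hy)

theorem liftSix_injective : Function.Injective liftSix := viaEmbeddingHom_injective _

theorem exists_liftSix {σ : Perm (Fin 7)} (h : σ (Fin.last 6) = Fin.last 6) : ∃ τ, σ = liftSix τ := by
  have hne : ∀ x : Fin 6, σ x.castSucc ≠ Fin.last 6 := fun x e =>
    (Fin.castSucc_lt_last x).ne (σ.injective (e.trans h.symm))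
  have hne' : ∀ x : Fin 6, σ⁻¹ x.castSucc ≠ Fin.last 6 := fun x e => by
    have := congrArg σ e
    rw [← Perm.mul_apply, mul_inv_cancel, one_apply, h] at this
    exact (Fin.castSucc_lt_last x).ne this
  refine ⟨⟨fun x => (σ x.castSucc).castPred (hne x), fun x => (σ⁻¹ x.castSucc).castPred (hne' x),
    fun x => ?_, fun x => ?_⟩, ?_⟩
  · apply Fin.castSucc_injective
    simp
  · apply Fin.castSucc_injective
    simp
  · ext x : 1
    induction x using Fin.lastCases with
    | last => rw [h, liftSix_last]
    | cast x => rw [liftSix_apply]; simp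

theorem sign_liftSix (σ : Perm (Fin 6)) : sign (liftSix σ) = sign σ := by
  simp only [liftSix, viaEmbeddingHom_apply, viaEmbedding, sign_extendDomain]

/-- The lift of a frame whose three involutions have no common fixed point. -/
noncomputable def Frame.lift (F : Frame 6) (hfix : ∀ x, ¬ (F.e1 x = x ∧ F.b x = x ∧ F.e2 x = x))
    (hsq : ∀ σ : Perm (Fin 7), σ * liftSix F.b = liftSix F.b * σ → σ * σ ≠ liftSix (F.e1 * F.b)) : Frame 7 :=
  have hlast : ∀ y : Fin 7, liftSix F.e1 y = y → liftSix F.b y = y → liftSix F.e2 y = y → y = Fin.last 6 := by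
    intro y
    induction y using Fin.lastCases with
    | last => exact fun _ _ _ => rfl
    | cast x =>
      simp only [liftSix_apply, Fin.castSucc_inj]
      exact fun h1 h2 h3 => absurd ⟨h1, h2, h3⟩ (hfix x)
  have hcond : ∀ (p : Bool) (σ : Perm (Fin 6)), liftSix (cond p σ 1) = cond p (liftSix σ) 1 := by
    intro p σ; cases p <;> simp
  have hnorm : ∀ σ : Perm (Fin 7), (∀ h ∈ [liftSix F.e1, liftSix F.b, liftSix F.sw * liftSix F.e1 * liftSix F.sw],
      ∃ x y i : Bool, σ * h * σ⁻¹ = cond x (liftSix F.sw * liftSix F.e1 * liftSix F.sw * liftSix F.e1) 1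
        * cond y (liftSix F.b) 1 * cond i (liftSix F.e1) 1) →
      ∃ τ, σ = liftSix τ ∧ ∀ h ∈ [F.e1, F.b, F.sw * F.e1 * F.sw], ∃ x y i : Bool,
        τ * h * τ⁻¹ = cond x (F.sw * F.e1 * F.sw * F.e1) 1 * cond y F.b 1 * cond i F.e1 1 := by
    intro σ hσ
    have hcomm : ∀ h : Perm (Fin 6), liftSix h ∈ [liftSix F.e1, liftSix F.b,
        liftSix F.sw * liftSix F.e1 * liftSix F.sw] → liftSix h (σ⁻¹ (Fin.last 6)) = σ⁻¹ (Fin.last 6) := by
      intro h hh
      obtain ⟨x, y, i, e⟩ := hσ _ hh
      have e' : σ * liftSix h * σ⁻¹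
          = liftSix (cond x (F.sw * F.e1 * F.sw * F.e1) 1 * cond y F.b 1 * cond i F.e1 1) := by
        rw [e]; simp only [map_mul, hcond]
      have := congrArg (fun π : Perm (Fin 7) => π (Fin.last 6)) e'
      simp only [liftSix_last, Perm.mul_apply] at this
      have h2 := congrArg (σ⁻¹ : Perm (Fin 7)) this
      simpa using h2
    have h6 := hlast _ (hcomm F.e1 (by simp)) (hcomm F.b (by simp))
      (by rw [Frame.e2]; exact hcomm _ (by simp))
    obtain ⟨τ, rfl⟩ := exists_liftSix (σ := σ) (by
      conv_lhs => rw [← h6]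
      rw [← Perm.mul_apply, mul_inv_cancel, one_apply])
    refine ⟨τ, rfl, fun h hh => ?_⟩
    obtain ⟨x, y, i, e⟩ := hσ (liftSix h) (by
      simp only [List.mem_cons, List.not_mem_nil, or_false] at hh ⊢
      rcases hh with rfl | rfl | rfl <;> simp [map_mul])
    refine ⟨x, y, i, liftSix_injective ?_⟩
    simp only [map_mul, map_inv, hcond]
    exact e
  { e1 := liftSix F.e1
    sw := liftSix F.sw
    b := liftSix F.b
    qq := liftSix F.qq
    ρ := liftSix F.ρ
    e1_sq := by rw [← map_mul, F.e1_sq, map_one]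
    sw_sq := by rw [← map_mul, F.sw_sq, map_one]
    b_sq := by rw [← map_mul, F.b_sq, map_one]
    a_sq := by simp only [← map_mul]; rw [F.a_sq, map_one]
    a_e1 := by simp only [← map_mul]; rw [F.a_e1]
    a_sw := by simp only [← map_mul]; rw [F.a_sw]
    b_e1 := by simp only [← map_mul]; rw [F.b_e1]
    b_sw := by simp only [← map_mul]; rw [F.b_sw]
    sgn_e1 := by rw [sign_liftSix, F.sgn_e1]
    sgn_b := by rw [sign_liftSix, F.sgn_b]
    sgn_sw := by rw [sign_liftSix, F.sgn_sw]
    qq_sq := by rw [← map_mul, F.qq_sq]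
    qq_b := by simp only [← map_mul]; rw [F.qq_b]
    faithful := fun x y i j h => F.faithful x y i j (liftSix_injective (by
      rw [map_one, map_mul, map_mul, map_mul, hcond, hcond, hcond, hcond]
      simpa only [map_mul] using h))
    ρ_cube := by simp only [← map_mul]; rw [F.ρ_cube, map_one]
    ρ_e1 := by simp only [← map_mul]; rw [F.ρ_e1]
    ρ_e2 := by simp only [← map_mul]; rw [F.ρ_e2]
    ρ_b := by simp only [← map_mul]; rw [F.ρ_b]
    sq_ne := fun σ h => by rw [← map_mul]; exact hsq σ h
    centH := fun σ h1 h2 h3 => by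
      have fx : ∀ h : Perm (Fin 6), σ * liftSix h = liftSix h * σ →
          liftSix h (σ (Fin.last 6)) = σ (Fin.last 6) := fun h e => by
        rw [← Perm.mul_apply, ← e, Perm.mul_apply, liftSix_last]
      have h6 := hlast _ (fx _ h1) (fx _ h2)
        (fx _ (by simp only [Frame.e2, map_mul]; exact h3))
      obtain ⟨τ, rfl⟩ := exists_liftSix h6
      obtain ⟨x, y, i, e⟩ := F.centH τ (liftSix_injective (by simp only [map_mul]; exact h1))
        (liftSix_injective (by simp only [map_mul]; exact h2))
        (liftSix_injective (by simp only [map_mul]; exact h3))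
      exact ⟨x, y, i, by rw [e, map_mul, map_mul, hcond, hcond, hcond]; simp only [map_mul]⟩
    noP := fun σ hp hσ => by
      obtain ⟨τ, rfl, hτ⟩ := hnorm σ hσ
      rw [F.noP τ (hp.imp (fun h => liftSix_injective (by rw [map_pow, map_one]; exact h))
        (fun h => liftSix_injective (by rw [map_pow, map_one]; exact h))) hτ, map_one]
    fixB := fun σ hb hσ => by
      obtain ⟨τ, rfl, hτ⟩ := hnorm σ hσ
      have := F.fixB τ (liftSix_injective (by simp only [map_mul]; exact hb)) hτ
      simp only [← map_mul]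
      exact ⟨congrArg _ this.1, congrArg _ this.2⟩ }

theorem frameSix_sq_ne_seven (σ : Perm (Fin 7)) (h : σ * liftSix frameSix.b = liftSix frameSix.b * σ) :
    σ * σ ≠ liftSix (frameSix.e1 * frameSix.b) := by
  intro e
  have hb : ∀ y : Fin 7, liftSix frameSix.b y = swap 4 5 y := by
    intro y
    induction y using Fin.lastCases with
    | last => rw [liftSix_last]; decide
    | cast x => rw [liftSix_apply]; revert x; decide
  have h4 : (σ * σ) 4 = 5 := by
    rw [e, show (4 : Fin 7) = (4 : Fin 6).castSucc from rfl, liftSix_apply]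
    decide
  have hσ4 : σ 5 = swap 4 5 (σ 4) := by
    have := congrArg (fun π : Perm (Fin 7) => π 4) h
    simpa [hb] using this
  rcases eq_or_ne (σ 4) 4 with h1 | h1
  · rw [Perm.mul_apply, h1, h1] at h4; exact absurd h4 (by decide)
  rcases eq_or_ne (σ 4) 5 with h2 | h2
  · rw [Perm.mul_apply, h2, hσ4, h2, swap_apply_right] at h4; exact absurd h4 (by decide)
  · rw [swap_apply_of_ne_of_ne h1 h2] at hσ4
    exact absurd (σ.injective hσ4) (by decide)

theorem frameSixFlip_sq_ne_seven (σ : Perm (Fin 7))
    (h : σ * liftSix frameSixFlip.b = liftSix frameSixFlip.b * σ) :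
    σ * σ ≠ liftSix (frameSixFlip.e1 * frameSixFlip.b) := by
  have h6 : σ (Fin.last 6) = Fin.last 6 := by
    have e : liftSix frameSixFlip.b (σ (Fin.last 6)) = σ (Fin.last 6) := by
      rw [← Perm.mul_apply, ← h, Perm.mul_apply, liftSix_last]
    revert e
    generalize σ (Fin.last 6) = y
    induction y using Fin.lastCases with
    | last => exact fun _ => rfl
    | cast x =>
      rw [liftSix_apply, Fin.castSucc_inj]
      revert x; decide
  obtain ⟨τ, rfl⟩ := exists_liftSix h6
  rw [← map_mul, liftSix_injective.ne_iff]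
  exact frameSixFlip.sq_ne τ (liftSix_injective (by simp only [map_mul]; exact h))

/-- The standard frame in degree seven. -/
noncomputable def frameSeven : Frame 7 := frameSix.lift (by decide +kernel) frameSix_sq_ne_seven

/-- The second frame in degree seven. -/
noncomputable def frameSevenFlip : Frame 7 := frameSixFlip.lift (by decide +kernel) frameSixFlip_sq_ne_seven

end Cfsg.Agent.H67.TwoSym
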