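import Cfsg.Agent.H67.TwoSym.Frame

/-!
# The two frames in degree six
-/

set_option autoImplicit false
set_option maxRecDepth 100000
set_option maxHeartbeats 2000000
set_option synthInstance.maxHeartbeats 400000
set_option synthInstance.maxSize 4096

namespace Cfsg.Agent.H67.TwoSym

open Equiv Equiv.Perm

theorem frameSix_sqNe : ∀ σ : Perm (Fin 6), σ * (swap 4 5) = (swap 4 5) * σ → σ * σ ≠ (swap 0 1) * (swap 4 5) := by
  decide +kernel

theorem frameSix_centH : ∀ σ : Perm (Fin 6), σ * (swap 0 1) = (swap 0 1) * σ → σ * (swap 4 5) = (swap 4 5) * σ →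
    σ * ((swap 0 2 * swap 1 3) * (swap 0 1) * (swap 0 2 * swap 1 3)) = (swap 0 2 * swap 1 3) * (swap 0 1) * (swap 0 2 * swap 1 3) * σ →
    ∃ x y i : Bool, σ = cond x ((swap 0 2 * swap 1 3) * (swap 0 1) * (swap 0 2 * swap 1 3) * (swap 0 1)) 1 * cond y (swap 4 5) 1 * cond i (swap 0 1) 1 := by
  decide +kernel

theorem frameSix_noP : ∀ σ : Perm (Fin 6), (σ ^ 5 = 1 ∨ σ ^ 7 = 1) →
    (∀ h ∈ [(swap 0 1), (swap 4 5), (swap 0 2 * swap 1 3) * (swap 0 1) * (swap 0 2 * swap 1 3)], ∃ x y i : Bool, σ * h * σ⁻¹ =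
      cond x ((swap 0 2 * swap 1 3) * (swap 0 1) * (swap 0 2 * swap 1 3) * (swap 0 1)) 1 * cond y (swap 4 5) 1 * cond i (swap 0 1) 1) → σ = 1 := by
  decide +kernel

theorem frameSix_fixB : ∀ σ : Perm (Fin 6), σ * (swap 4 5) = (swap 4 5) * σ →
    (∀ h ∈ [(swap 0 1), (swap 4 5), (swap 0 2 * swap 1 3) * (swap 0 1) * (swap 0 2 * swap 1 3)], ∃ x y i : Bool, σ * h * σ⁻¹ =
      cond x ((swap 0 2 * swap 1 3) * (swap 0 1) * (swap 0 2 * swap 1 3) * (swap 0 1)) 1 * cond y (swap 4 5) 1 * cond i (swap 0 1) 1) →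
    (σ * σ) * (swap 0 1) = (swap 0 1) * (σ * σ) ∧
      (σ * σ) * ((swap 0 2 * swap 1 3) * (swap 0 1) * (swap 0 2 * swap 1 3)) = (swap 0 2 * swap 1 3) * (swap 0 1) * (swap 0 2 * swap 1 3) * (σ * σ) := by
  decide +kernel

/-- The standard frame in degree six. -/
def frameSix : Frame 6 where
  e1 := swap 0 1
  sw := swap 0 2 * swap 1 3
  b := swap 4 5
  qq := swap 0 1 * swap 1 2 * swap 2 3
  ρ := swap 0 2 * swap 2 4 * (swap 1 3 * swap 3 5)
  e1_sq := by decide +kernel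
  sw_sq := by decide +kernel
  b_sq := by decide +kernel
  a_sq := by decide +kernel
  a_e1 := by decide +kernel
  a_sw := by decide +kernel
  b_e1 := by decide +kernel
  b_sw := by decide +kernel
  sgn_e1 := by decide +kernel
  sgn_b := by decide +kernel
  sgn_sw := by decide +kernel
  qq_sq := by decide +kernel
  qq_b := by decide +kernel
  faithful := by decide +kernel
  ρ_cube := by decide +kernel
  ρ_e1 := by decide +kernel
  ρ_e2 := by decide +kernel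
  ρ_b := by decide +kernel
  sq_ne := frameSix_sqNe
  centH := frameSix_centH
  noP := frameSix_noP
  fixB := frameSix_fixB

theorem frameSixFlip_sqNe : ∀ σ : Perm (Fin 6), σ * (swap 0 1 * swap 2 3 * swap 4 5) = (swap 0 1 * swap 2 3 * swap 4 5) * σ → σ * σ ≠ (swap 0 2 * swap 1 3 * swap 4 5) * (swap 0 1 * swap 2 3 * swap 4 5) := by
  decide +kernel

theorem frameSixFlip_centH : ∀ σ : Perm (Fin 6), σ * (swap 0 2 * swap 1 3 * swap 4 5) = (swap 0 2 * swap 1 3 * swap 4 5) * σ → σ * (swap 0 1 * swap 2 3 * swap 4 5) = (swap 0 1 * swap 2 3 * swap 4 5) * σ →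
    σ * ((swap 0 1 * swap 4 5) * (swap 0 2 * swap 1 3 * swap 4 5) * (swap 0 1 * swap 4 5)) = (swap 0 1 * swap 4 5) * (swap 0 2 * swap 1 3 * swap 4 5) * (swap 0 1 * swap 4 5) * σ →
    ∃ x y i : Bool, σ = cond x ((swap 0 1 * swap 4 5) * (swap 0 2 * swap 1 3 * swap 4 5) * (swap 0 1 * swap 4 5) * (swap 0 2 * swap 1 3 * swap 4 5)) 1 * cond y (swap 0 1 * swap 2 3 * swap 4 5) 1 * cond i (swap 0 2 * swap 1 3 * swap 4 5) 1 := by
  decide +kernel

theorem frameSixFlip_noP : ∀ σ : Perm (Fin 6), (σ ^ 5 = 1 ∨ σ ^ 7 = 1) →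
    (∀ h ∈ [(swap 0 2 * swap 1 3 * swap 4 5), (swap 0 1 * swap 2 3 * swap 4 5), (swap 0 1 * swap 4 5) * (swap 0 2 * swap 1 3 * swap 4 5) * (swap 0 1 * swap 4 5)], ∃ x y i : Bool, σ * h * σ⁻¹ =
      cond x ((swap 0 1 * swap 4 5) * (swap 0 2 * swap 1 3 * swap 4 5) * (swap 0 1 * swap 4 5) * (swap 0 2 * swap 1 3 * swap 4 5)) 1 * cond y (swap 0 1 * swap 2 3 * swap 4 5) 1 * cond i (swap 0 2 * swap 1 3 * swap 4 5) 1) → σ = 1 := by
  decide +kernel

theorem frameSixFlip_fixB : ∀ σ : Perm (Fin 6), σ * (swap 0 1 * swap 2 3 * swap 4 5) = (swap 0 1 * swap 2 3 * swap 4 5) * σ →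
    (∀ h ∈ [(swap 0 2 * swap 1 3 * swap 4 5), (swap 0 1 * swap 2 3 * swap 4 5), (swap 0 1 * swap 4 5) * (swap 0 2 * swap 1 3 * swap 4 5) * (swap 0 1 * swap 4 5)], ∃ x y i : Bool, σ * h * σ⁻¹ =
      cond x ((swap 0 1 * swap 4 5) * (swap 0 2 * swap 1 3 * swap 4 5) * (swap 0 1 * swap 4 5) * (swap 0 2 * swap 1 3 * swap 4 5)) 1 * cond y (swap 0 1 * swap 2 3 * swap 4 5) 1 * cond i (swap 0 2 * swap 1 3 * swap 4 5) 1) →
    (σ * σ) * (swap 0 2 * swap 1 3 * swap 4 5) = (swap 0 2 * swap 1 3 * swap 4 5) * (σ * σ) ∧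
      (σ * σ) * ((swap 0 1 * swap 4 5) * (swap 0 2 * swap 1 3 * swap 4 5) * (swap 0 1 * swap 4 5)) = (swap 0 1 * swap 4 5) * (swap 0 2 * swap 1 3 * swap 4 5) * (swap 0 1 * swap 4 5) * (σ * σ) := by
  decide +kernel

/-- The second frame in degree six. -/
def frameSixFlip : Frame 6 where
  e1 := swap 0 2 * swap 1 3 * swap 4 5
  sw := swap 0 1 * swap 4 5
  b := swap 0 1 * swap 2 3 * swap 4 5
  qq := swap 0 4 * swap 4 1 * swap 1 5
  ρ := swap 1 2 * swap 2 3
  e1_sq := by decide +kernel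
  sw_sq := by decide +kernel
  b_sq := by decide +kernel
  a_sq := by decide +kernel
  a_e1 := by decide +kernel
  a_sw := by decide +kernel
  b_e1 := by decide +kernel
  b_sw := by decide +kernel
  sgn_e1 := by decide +kernel
  sgn_b := by decide +kernel
  sgn_sw := by decide +kernel
  qq_sq := by decide +kernel
  qq_b := by decide +kernel
  faithful := by decide +kernel
  ρ_cube := by decide +kernel
  ρ_e1 := by decide +kernel
  ρ_e2 := by decide +kernel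
  ρ_b := by decide +kernel
  sq_ne := frameSixFlip_sqNe
  centH := frameSixFlip_centH
  noP := frameSixFlip_noP
  fixB := frameSixFlip_fixB

end Cfsg.Agent.H67.TwoSym
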