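import Cfsg.Agent.H67.TwoSym.Mp

/-!
# The normaliser of `T0` centralises `⟨a, b⟩`

Otherwise it induces a cyclic group of order four on the conjugates of `t` in the centre of `T0`.
-/

set_option autoImplicit false
set_option linter.unusedSectionVars false
set_option linter.unusedSimpArgs false
set_option linter.unusedTactic false
set_option linter.unreachableTactic false
set_option maxHeartbeats 2000000

namespace Cfsg.Agent.H67.TwoSym

open Subgroup Equiv

namespace Setup

variable {G : Type*} [Group G] [Finite G] {k : ℕ} (S : Setup G k)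

theorem e_split (p x y i j : Bool) : S.e p x y i j =
    S.e p x y false false * S.e false false false i false * S.e false false false false j := by
  rw [S.e_mul, S.e_mul]; simp

/-- Conjugation by the normaliser on the coordinates modulo the four group. -/
theorem Mp_image (hM : S.IsMp) {g : G} (hg : g ∈ normalizer (S.T0 : Set G)) :
    ∃ i₁ i₂ : Bool, (i₁ ^^ i₂) = true ∧ ∀ p x y i j, ∃ x' y',
      g * S.e p x y i j * g⁻¹ = S.e p x' y' ((i && i₁) ^^ (j && i₂)) ((i && !i₁) ^^ (j && !i₂)) := by
  have himg : ∀ i j, (i ^^ j) = true → ∃ x' y' i', g * S.e false false false i j * g⁻¹ = S.e false x' y' i' (!i') := by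
    intro i j hij
    obtain ⟨p, x', y', i', j', e⟩ := S.exists_e (S.normalizer_normal hg (S.e_mem false false false i j))
    have hnD : ¬ S.D (S.e p x' y' i' j') := by
      rw [← e, S.D_conj_iff, S.D_e_iff_Mp hM]; simp
    have hsq : (i' && j') = false := by
      have h1 : S.e p x' y' i' j' * S.e p x' y' i' j' = 1 := by
        rw [← e, show g * S.e false false false i j * g⁻¹ * (g * S.e false false false i j * g⁻¹)
          = g * (S.e false false false i j * S.e false false false i j) * g⁻¹ by group,
          (S.e_sq_eq_one_iff ..).2 (by revert hij; cases i <;> cases j <;> simp)]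
        group
      exact (S.e_sq_eq_one_iff ..).1 h1
    obtain rfl : p = false := by
      cases p
      · rfl
      · exact absurd ((S.D_e_iff_Mp hM ..).2 ⟨rfl, hsq⟩) hnD
    have hij' : (i' || j') = true := by
      by_contra h
      obtain ⟨rfl, rfl⟩ : i' = false ∧ j' = false := by simpa using h
      obtain ⟨x2, y2, e2⟩ := S.Mp_conj_Z hM (inv_mem hg) false x' y'
      rw [← e, show g⁻¹ * (g * S.e false false false i j * g⁻¹) * g⁻¹⁻¹ = S.e false false false i j by group] at e2
      have := S.e_inj e2
      revert hij; rw [this.2.2.2.1, this.2.2.2.2]; simp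
    refine ⟨x', y', i', e.trans ?_⟩
    revert hsq hij'
    cases i' <;> cases j' <;> simp
  obtain ⟨a₁, b₁, i₁, h₁⟩ := himg true false rfl
  obtain ⟨a₂, b₂, i₂, h₂⟩ := himg false true rfl
  refine ⟨i₁, i₂, ?_, fun p x y i j => ?_⟩
  · by_contra h
    obtain rfl : i₁ = i₂ := by revert h; cases i₁ <;> cases i₂ <;> simp
    have h3 : g * S.e false false false true true * g⁻¹
        = S.e false a₁ b₁ i₁ (!i₁) * S.e false a₂ b₂ i₁ (!i₁) := by
      rw [show S.e false false false true true = S.e false false false true false * S.e false false false false true by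
        rw [S.e_mul]; rfl, conj_prod, h₁, h₂]
    rw [S.e_mul] at h3
    have h4 : g * (S.e false false false true true * S.e false false false true true) * g⁻¹ = 1 := by
      rw [conj_prod, h3, (S.e_sq_eq_one_iff ..).2 (by cases i₁ <;> rfl)]
    rw [mul_inv_eq_one, mul_eq_left, S.e_sq_eq_one_iff] at h4
    exact absurd h4 (by decide)
  · obtain ⟨x', y', hz⟩ := S.Mp_conj_Z hM hg p x y
    rw [S.e_split p x y i j, conj_prod, conj_prod, hz]
    cases i <;> cases j
    · refine ⟨x', y', ?_⟩
      rw [S.e_one, mul_one, mul_inv_cancel, mul_one, mul_one]; rfl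
    · rw [S.e_one, mul_one, mul_inv_cancel, mul_one, h₂, S.e_mul]
      cases p <;> cases i₁ <;> cases i₂ <;> exact ⟨_, _, rfl⟩
    · rw [h₁, S.e_one, mul_one, mul_inv_cancel, mul_one, S.e_mul]
      cases p <;> cases i₁ <;> cases i₂ <;> exact ⟨_, _, rfl⟩
    · rw [h₁, h₂, S.e_mul, S.e_mul]
      cases p <;> cases i₁ <;> cases i₂ <;> exact ⟨_, _, rfl⟩

theorem Mp_conj_comm_Z {y : G} (p x b : Bool) (hy : y ∈ S.T0) :
    y * S.e p x b false false * y⁻¹ = S.e p x b false false := by
  obtain ⟨q, c, d, i, j, rfl⟩ := S.exists_e hy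
  exact mul_inv_eq_iff_eq_mul.2 ((S.e_commute_iff ..).2 (by simp))

/-- The kernel of the quotient used in the transfer. -/
def N0 : Subgroup G where
  carrier := {g | ∃ x y i, g = S.e false x y i i}
  one_mem' := ⟨false, false, false, S.e_one.symm⟩
  mul_mem' := by
    rintro _ _ ⟨x, y, i, rfl⟩ ⟨x', y', i', rfl⟩
    exact ⟨_, _, _, S.e_mul ..⟩
  inv_mem' := by
    rintro _ ⟨x, y, i, rfl⟩
    refine ⟨x ^^ i, y, i, inv_eq_of_mul_eq_one_right ?_⟩
    rw [S.e_mul, ← S.e_one]
    cases x <;> cases y <;> cases i <;> rfl

theorem N0_normal (hM : S.IsMp) {g : G} (hg : g ∈ normalizer (S.T0 : Set G)) {x : G} (hx : x ∈ S.N0) :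
    g * x * g⁻¹ ∈ S.N0 := by
  obtain ⟨a, b, i, rfl⟩ := hx
  obtain ⟨i₁, i₂, h12, h⟩ := S.Mp_image hM hg
  obtain ⟨x', y', e⟩ := h false a b i i
  refine ⟨x', y', (i && i₁) ^^ (i && i₂), e.trans ?_⟩
  congr 1
  revert h12
  cases i <;> cases i₁ <;> cases i₂ <;> simp

theorem N0_comm (hM : S.IsMp) {g τ : G} (hg : g ∈ normalizer (S.T0 : Set G)) (hτ : τ ∈ S.T0) :
    g * τ * g⁻¹ * τ⁻¹ ∈ S.N0 := by
  obtain ⟨p, x, y, i, j, rfl⟩ := S.exists_e hτ
  obtain ⟨i₁, i₂, h12, h⟩ := S.Mp_image hM hg
  obtain ⟨x', y', e⟩ := h p x y i j
  have hinv : (S.e p x y i j)⁻¹ = S.e p (x ^^ (i && j)) y i j := by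
    refine inv_eq_of_mul_eq_one_right ?_
    rw [S.e_mul, ← S.e_one]
    cases p <;> cases x <;> cases y <;> cases i <;> cases j <;> rfl
  rw [e, hinv, S.e_mul]
  refine ⟨(x' ^^ (x ^^ (i && j))) ^^ (((i && !i₁) ^^ (j && !i₂)) && i), y' ^^ y,
    ((i && i₁) ^^ (j && i₂)) ^^ i, ?_⟩
  congr 1
  · cases p <;> rfl
  · revert h12
    cases i <;> cases j <;> cases i₁ <;> cases i₂ <;> simp

/-- The normaliser fixes `b`. -/
theorem gamma_absurd (hM : S.IsMp) {u : G} (hu : u ∈ normalizer (S.T0 : Set G))
    (hut : u * S.t * u⁻¹ = S.e true false true false false)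
    (hub : u * S.e false false true false false * u⁻¹ = S.e false true true false false) : False := by
  classical
  set N := (normalizer (S.T0 : Set G) : Subgroup G) with hN
  have hua := S.conj_e_a hu
  have hconjc : u * S.e false true true false false * u⁻¹ = S.e false false true false false := by
    rw [show S.e false true true false false = S.e false true false false false * S.e false false true false false by
      rw [S.e_a_mul]; rfl, conj_prod, hua, hub, S.e_a_mul]; rfl
  have hu2t : u * u * S.t * (u * u)⁻¹ = S.e true true false false false := by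
    rw [show u * u * S.t * (u * u)⁻¹ = u * (u * S.t * u⁻¹) * u⁻¹ by group, hut,
      show S.e true false true false false = S.t * S.e false false true false false by rw [← S.e_t, S.e_mul]; rfl,
      conj_prod, hut, hub, S.e_mul]
    rfl
  have hu3t : u * u * u * S.t * (u * u * u)⁻¹ = S.e true true true false false := by
    rw [show u * u * u * S.t * (u * u * u)⁻¹ = u * (u * u * S.t * (u * u)⁻¹) * u⁻¹ by group, hu2t,
      show S.e true true false false false = S.t * S.e false true false false false by rw [← S.e_t, S.e_mul]; rfl,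
      conj_prod, hut, hua, S.e_mul]
    rfl
  have hu2b : u * u * S.e false false true false false * (u * u)⁻¹ = S.e false false true false false := by
    rw [show u * u * S.e false false true false false * (u * u)⁻¹
      = u * (u * S.e false false true false false * u⁻¹) * u⁻¹ by group, hub, hconjc]
  -- every element is a power of `u` times an element of `T0`
  have hdec : ∀ g ∈ N, ∃ n : ℕ, n < 4 ∧ (u ^ n)⁻¹ * g ∈ S.T0 := by
    intro g hg
    obtain ⟨x, y, e⟩ := S.Mp_moves hM hg
    cases x <;> cases y
    · exact ⟨0, by omega, S.same_coset (pow_mem hu 0) hg (by rw [e, S.e_t]; simp)⟩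
    · exact ⟨1, by omega, S.same_coset (pow_mem hu 1) hg (by rw [e, pow_one, hut])⟩
    · exact ⟨2, by omega, S.same_coset (pow_mem hu 2) hg (by rw [e, pow_two, hu2t])⟩
    · exact ⟨3, by omega, S.same_coset (pow_mem hu 3) hg (by rw [e, pow_succ, pow_two, hu3t])⟩
  -- the conjugates outside `T0` translate by `a` and centralise the four group
  have houter : ∀ y ∈ N, S.D y → y ∉ S.T0 → y * S.t * y⁻¹ = S.e true true false false false ∧
      y * S.e false false true false false * y⁻¹ = S.e false false true false false := by
    intro y hy hD hyT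
    obtain ⟨x, z, e⟩ := S.Mp_moves hM hy
    have hfix : y * S.e false x z false false * y⁻¹ = S.e false x z false false := by
      have h1 : y * (y * S.t * y⁻¹) * y⁻¹ = S.t := by
        rw [show y * (y * S.t * y⁻¹) * y⁻¹ = y * y * S.t * (y * y)⁻¹ by group, S.D_sq hD]; group
      rw [e, show S.e true x z false false = S.t * S.e false x z false false by rw [← S.e_t, S.e_mul]; simp,
        conj_prod, e, ← S.e_t] at h1
      obtain ⟨x', z', e'⟩ := S.Mp_conj_Z hM hy false x z
      rw [e', S.e_mul] at h1
      have h2 := S.e_inj h1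
      rw [e']
      congr 1
      · have := h2.2.1; revert this; cases x <;> cases x' <;> simp
      · have := h2.2.2.1; revert this; cases z <;> cases z' <;> simp
    cases z
    · cases x
      · exact absurd (S.mem_T0_of_normalizes hy (mul_inv_eq_iff_eq_mul.1 (e.trans S.e_t))) hyT
      · refine ⟨e, ?_⟩
        have hx := S.same_coset (mul_mem hu hu) hy (by rw [hu2t, e])
        rw [show y * S.e false false true false false * y⁻¹ = u * u *
          ((u * u)⁻¹ * y * S.e false false true false false * ((u * u)⁻¹ * y)⁻¹) * (u * u)⁻¹ by group,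
          S.Mp_conj_comm_Z _ _ _ hx, hu2b]
    · exfalso
      obtain ⟨w, hw, hwt, hwb⟩ : ∃ w, w ∈ N ∧ w * S.t * w⁻¹ = S.e true x true false false ∧
          w * S.e false x true false false * w⁻¹ = S.e false (!x) true false false := by
        cases x
        · exact ⟨u, hu, hut, hub⟩
        · refine ⟨u * u * u, mul_mem (mul_mem hu hu) hu, hu3t, ?_⟩
          rw [show u * u * u * S.e false true true false false * (u * u * u)⁻¹
            = u * u * (u * S.e false true true false false * u⁻¹) * (u * u)⁻¹ by group, hconjc, hu2b]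
          rfl
      have hx := S.same_coset hw hy (hwt.trans e.symm)
      rw [show y * S.e false x true false false * y⁻¹ = w *
        (w⁻¹ * y * S.e false x true false false * (w⁻¹ * y)⁻¹) * w⁻¹ by group,
        S.Mp_conj_comm_Z _ _ _ hx, hwb] at hfix
      have := (S.e_inj hfix).2.1
      cases x <;> simp at this
  -- the quotient by `N0`
  have hN0N : S.N0 ≤ N := fun g ⟨x, y, i, e⟩ => e ▸ S.T0_le_N (S.e_mem ..)
  have : (S.N0.subgroupOf N).Normal := ⟨fun x hx g => S.N0_normal hM g.2 hx⟩
  set π := QuotientGroup.mk' (S.N0.subgroupOf N) with hπ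
  have hcen : ∀ (g : N) (τ : N), (τ : G) ∈ S.T0 → π g * π τ = π τ * π g := by
    intro g τ hτ
    rw [← map_mul, ← map_mul, hπ, QuotientGroup.mk'_apply, QuotientGroup.mk'_apply, QuotientGroup.eq]
    have h1 := S.N0_comm hM (inv_mem g.2) (inv_mem hτ)
    show ((g * τ)⁻¹ * (τ * g) : N).1 ∈ S.N0
    simp only [Subgroup.coe_mul, InvMemClass.coe_inv]
    have h2 := S.N0_normal hM (inv_mem (S.T0_le_N hτ)) (inv_mem h1)
    have e : ((g : G) * τ)⁻¹ * (τ * g)
        = (τ : G)⁻¹ * ((g : G)⁻¹ * τ * g) := by group
    have h3 := S.N0_comm hM (inv_mem g.2) hτ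
    have h4 := S.N0_normal hM (inv_mem (S.T0_le_N hτ)) h3
    rw [e]
    convert h4 using 1
    group
  have hQcomm : ∀ g h : N, π g * π h = π h * π g := by
    intro g h
    obtain ⟨n, -, hn⟩ := hdec g g.2
    obtain ⟨m, -, hm⟩ := hdec h h.2
    let uN : N := ⟨u, hu⟩
    have hg : g = uN ^ n * ⟨_, S.T0_le_N hn⟩ := Subtype.ext (by simp [uN])
    have hh : h = uN ^ m * ⟨_, S.T0_le_N hm⟩ := Subtype.ext (by simp [uN])
    rw [hg, hh, map_mul, map_mul, map_pow, map_pow]
    have c1 : Commute (π uN) (π ⟨_, S.T0_le_N hn⟩) := hcen _ _ hn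
    have c2 : Commute (π uN) (π ⟨_, S.T0_le_N hm⟩) := hcen _ _ hm
    have c3 : Commute (π ⟨_, S.T0_le_N hn⟩) (π ⟨_, S.T0_le_N hm⟩) := hcen _ _ hm
    exact ((((Commute.refl (π uN)).pow_pow n m).mul_right (c2.pow_left n)).mul_left
      ((c1.symm.pow_right m).mul_right c3)).eq
  let Q := Abelianization (N ⧸ S.N0.subgroupOf N)
  let φ : N →* Q := Abelianization.of.comp π
  have hφker : ∀ g : N, φ g = 1 → (g : G) ∈ S.N0 := by
    intro g hg
    have hbot : _root_.commutator (N ⧸ S.N0.subgroupOf N) = ⊥ := by
      rw [commutator_eq_bot_iff_center_eq_top, eq_top_iff]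
      intro x _
      rw [Subgroup.mem_center_iff]
      intro y
      obtain ⟨x, rfl⟩ := QuotientGroup.mk'_surjective _ x
      obtain ⟨y, rfl⟩ := QuotientGroup.mk'_surjective _ y
      exact hQcomm y x
    have h1 : π g ∈ _root_.commutator (N ⧸ S.N0.subgroupOf N) := by
      rw [← Abelianization.ker_of]; exact hg
    rw [hbot, Subgroup.mem_bot, hπ, QuotientGroup.mk'_apply, QuotientGroup.eq_one_iff] at h1
    exact h1
  have hp : IsPGroup 2 N := IsPGroup.of_card (n := 7) (S.Mp_card_N hM)
  have hA : IsPGroup 2 Q := (hp.to_quotient _).to_quotient _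
  -- counting the conjugates outside `T0` modulo eight
  have hsets : ∀ y ∈ N, S.D y → y ∉ S.T0 → ∀ x z, S.D (y * S.e false x z false false) := by
    intro y hy hD hyT x z
    refine S.D_mul_Z0 hM hD x z (mul_inv_eq_iff_eq_mul.1 ?_).symm
    rw [show S.e false x z false false = S.e false x false false false * S.e false false z false false by
      rw [S.e_mul]; simp, conj_prod, S.conj_e_a hy]
    cases z
    · rw [S.e_one]; group
    · rw [(houter y hy hD hyT).2]
  have hcl : (∀ y ∈ N, S.D y → y ∉ S.T0 →
      Nat.card (N ⊓ centralizer ({y} : Set G) : Subgroup G) ≤ 16) ∨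
      ∃ o, o % 2 = 1 ∧ Nat.card {y : G // (y ∈ N ∧ y ∉ S.T0) ∧ S.D y} = 4 * o := by
    by_cases hnone : ∀ y ∈ N, S.D y → y ∈ S.T0
    · exact Or.inl fun y hy hD hyT => absurd (hnone y hy hD) hyT
    push Not at hnone
    obtain ⟨y₀, hy₀, hD₀, hy₀T⟩ := hnone
    obtain ⟨iu₁, iu₂, hu12, himu⟩ := S.Mp_image hM hu
    have hside : ∀ y ∈ N, S.D y → y ∉ S.T0 → ∀ i j, (i && j) = false → ∃ x' y',
        y * S.e false false false i j * y⁻¹ = S.e false x' y' i j := by
      intro y hy hD hyT i j hij
      have hx := S.same_coset (mul_mem hu hu) hy (by rw [hu2t, (houter y hy hD hyT).1])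
      obtain ⟨p, a, b, i', j', e⟩ := S.exists_e hx
      have h1 : S.e p a b i' j' * S.e false false false i j * (S.e p a b i' j')⁻¹
          = S.e false ((j' && i) ^^ (j && i')) false i j := by
        rw [mul_inv_eq_iff_eq_mul, S.e_mul, S.e_mul]
        cases p <;> cases a <;> cases b <;> cases i' <;> cases j' <;> cases i <;> cases j <;> rfl
      obtain ⟨x1, y1, e1⟩ := himu false ((j' && i) ^^ (j && i')) false i j
      obtain ⟨x2, y2, e2⟩ := himu false x1 y1 ((i && iu₁) ^^ (j && iu₂)) ((i && !iu₁) ^^ (j && !iu₂))
      refine ⟨x2, y2, ?_⟩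
      rw [show y = u * u * ((u * u)⁻¹ * y) by group, e,
        show u * u * S.e p a b i' j' * S.e false false false i j * (u * u * S.e p a b i' j')⁻¹
          = u * (u * (S.e p a b i' j' * S.e false false false i j * (S.e p a b i' j')⁻¹) * u⁻¹) * u⁻¹ by group,
        h1, e1, e2]
      congr 1 <;> revert hu12 hij <;> cases i <;> cases j <;> cases iu₁ <;> cases iu₂ <;> simp
    obtain ⟨x₁, y₁, he1⟩ := hside y₀ hy₀ hD₀ hy₀T true false rfl
    obtain ⟨x₂, y₂, he2⟩ := hside y₀ hy₀ hD₀ hy₀T false true rfl
    -- the action of a conjugate outside `T0` on coordinates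
    have hact : ∀ y ∈ N, S.D y → y ∉ S.T0 → ∃ z₁ z₂, ∀ p x b i j, y * S.e p x b i j * y⁻¹ =
        S.e p (((x ^^ p) ^^ (i && z₁)) ^^ (j && z₂)) ((b ^^ (i && y₁)) ^^ (j && y₂)) i j := by
      intro y hy hD hyT
      have hx := S.same_coset hy₀ hy (by rw [(houter y₀ hy₀ hD₀ hy₀T).1, (houter y hy hD hyT).1])
      obtain ⟨q, a, c, i', j', e⟩ := S.exists_e hx
      refine ⟨x₁ ^^ j', x₂ ^^ i', fun p x b i j => ?_⟩
      have h1 : S.e q a c i' j' * S.e p x b i j * (S.e q a c i' j')⁻¹
          = S.e p (x ^^ ((j' && i) ^^ (j && i'))) b i j := by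
        rw [mul_inv_eq_iff_eq_mul, S.e_mul, S.e_mul]
        cases p <;> cases x <;> cases q <;> cases a <;> cases c <;> cases b <;> cases i' <;> cases j' <;> cases i <;>
          cases j <;> rfl
      rw [show y = y₀ * (y₀⁻¹ * y) by group, e,
        show y₀ * S.e q a c i' j' * S.e p x b i j * (y₀ * S.e q a c i' j')⁻¹
          = y₀ * (S.e q a c i' j' * S.e p x b i j * (S.e q a c i' j')⁻¹) * y₀⁻¹ by group, h1,
        S.e_split p _ b i j, conj_prod, conj_prod]
      have hz : ∀ x' : Bool, y₀ * S.e p x' b false false * y₀⁻¹ = S.e p (x' ^^ p) b false false := by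
        intro x'
        rw [show S.e p x' b false false = S.e p false false false false * S.e false x' false false false *
          S.e false false b false false by rw [S.e_mul, S.e_mul]; simp, conj_prod, conj_prod, S.conj_e_a hy₀]
        have hb : y₀ * S.e false false b false false * y₀⁻¹ = S.e false false b false false := by
          cases b
          · rw [S.e_one]; group
          · exact (houter y₀ hy₀ hD₀ hy₀T).2
        have hpp : y₀ * S.e p false false false false * y₀⁻¹ = S.e p p false false false := by
          cases p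
          · rw [S.e_one]; group
          · rw [S.e_t]; exact (houter y₀ hy₀ hD₀ hy₀T).1
        rw [hb, hpp, S.e_mul, S.e_mul]
        cases p <;> cases x' <;> cases b <;> rfl
      have hi : y₀ * S.e false false false i false * y₀⁻¹ = S.e false (i && x₁) (i && y₁) i false := by
        cases i
        · simp only [Bool.false_and]; rw [S.e_one]; group
        · rw [he1]; rfl
      have hj : y₀ * S.e false false false false j * y₀⁻¹ = S.e false (j && x₂) (j && y₂) false j := by
        cases j
        · simp only [Bool.false_and]; rw [S.e_one]; group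
        · rw [he2]; rfl
      rw [hz, hi, hj, S.e_mul, S.e_mul]
      cases p <;> cases x <;> cases b <;> cases i <;> cases j <;> cases i' <;> cases j' <;> cases x₁ <;> cases x₂ <;>
        simp
    by_cases hB : (y₁ || y₂) = true
    · -- all these conjugates have small centralisers
      left
      intro y hy hD hyT
      obtain ⟨z₁, z₂, hz⟩ := hact y hy hD hyT
      set X := (N ⊓ centralizer ({y} : Set G) : Subgroup G) with hX
      by_contra hcon
      have hle := S.card_centralizer_le_of_D hD hp
      rw [← hX] at hle
      have hXd := Subgroup.card_dvd_of_le (inf_le_left : X ≤ N)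
      rw [S.Mp_card_N hM] at hXd
      obtain ⟨n, hn, hXn⟩ := (Nat.dvd_prime_pow Nat.prime_two).1 (show Nat.card X ∣ 2 ^ 7 from hXd)
      have h32 : Nat.card X = 32 := by
        interval_cases n <;> omega
      -- an element of `X` translating by `b` or `c`
      obtain ⟨w, hw, hwt⟩ : ∃ w ∈ X, ∃ x, w * S.t * w⁻¹ = S.e true x true false false := by
        by_contra hno
        push Not at hno
        have hmem : ∀ w ∈ X, ∃ v x b i' j', (i' && y₁) = (j' && y₂) ∧
            w = S.e ((i' && z₁) ^^ (j' && z₂)) x b i' j' * cond v y 1 := by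
          intro w hw
          obtain ⟨x, z, e⟩ := S.Mp_moves hM hw.1
          obtain rfl : z = false := by
            cases z
            · rfl
            · exact absurd e (hno w hw x)
          have hcy := mem_centralizer_singleton_iff.1 hw.2
          obtain ⟨v, hv⟩ : ∃ v, w * (cond v y 1)⁻¹ ∈ S.T0 := by
            cases x
            · exact ⟨false, by
                rw [cond_false, inv_one, mul_one]
                exact S.mem_T0_of_normalizes hw.1 (mul_inv_eq_iff_eq_mul.1 (e.trans S.e_t))⟩
            · refine ⟨true, ?_⟩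
              have h1 := S.same_coset hy hw.1 ((houter y hy hD hyT).1.trans e.symm)
              rw [cond_true, show w * y⁻¹ = y * (y⁻¹ * w) * y⁻¹ by group]
              exact S.normalizer_normal hy h1
          obtain ⟨p, x', b, i', j', e'⟩ := S.exists_e hv
          have hc : y * S.e p x' b i' j' * y⁻¹ = S.e p x' b i' j' := by
            rw [← e', mul_inv_eq_iff_eq_mul]
            have hv' : cond v y 1 * y = y * cond v y 1 := by cases v <;> simp
            calc y * (w * (cond v y 1)⁻¹) = w * y * (cond v y 1)⁻¹ := by rw [← mul_assoc, hcy]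
              _ = w * (y * (cond v y 1)⁻¹) := by group
              _ = w * ((cond v y 1)⁻¹ * y) := by
                congr 1
                rw [eq_inv_mul_iff_mul_eq, ← mul_assoc, hv', mul_assoc, mul_inv_cancel, mul_one]
              _ = w * (cond v y 1)⁻¹ * y := by group
          rw [hz] at hc
          have h1 := (S.e_inj hc).2.1
          have h2 := (S.e_inj hc).2.2.1
          have hp' : p = ((i' && z₁) ^^ (j' && z₂)) := by
            revert h1; cases p <;> cases x' <;> cases i' <;> cases j' <;> cases z₁ <;> cases z₂ <;> simp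
          refine ⟨v, x', b, i', j', ?_, ?_⟩
          · revert h2; cases b <;> cases i' <;> cases j' <;> cases y₁ <;> cases y₂ <;> simp
          · rw [← hp', ← e']; group
        choose fv fx fb fi fj hrel hfe using hmem
        let ψ : X → Bool × Bool × Bool × {ij : Bool × Bool // (ij.1 && y₁) = (ij.2 && y₂)} := fun w =>
          (fv w w.2, fx w w.2, fb w w.2, ⟨(fi w w.2, fj w w.2), hrel w w.2⟩)
        have hψ : Function.Injective ψ := by
          intro v w h
          simp only [ψ, Prod.mk.injEq, Subtype.mk.injEq] at h
          obtain ⟨h1, h2, h3, h4, h5⟩ := h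
          exact Subtype.ext (by rw [hfe v v.2, hfe w w.2, h1, h2, h3, h4, h5])
        have h2 : Nat.card {ij : Bool × Bool // (ij.1 && y₁) = (ij.2 && y₂)} = 2 := by
          revert hB
          rw [Nat.card_eq_fintype_card]
          cases y₁ <;> cases y₂ <;> decide
        have := Nat.card_le_card_of_injective ψ hψ
        rw [h32, Nat.card_prod, Nat.card_prod, Nat.card_prod, h2, Nat.card_eq_fintype_card,
          Fintype.card_bool] at this
        omega
      obtain ⟨x, hwt⟩ := hwt
      obtain ⟨g₀, -, hT⟩ := S.transport hD inf_le_right h32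
      -- the square of `w` lies in `T0`
      obtain ⟨ξ, hξ, hξe⟩ : ∃ ξ ∈ S.T0, g₀ * ξ * g₀⁻¹ = w :=
        ⟨g₀⁻¹ * w * g₀, (hT _).2 (by rwa [show g₀ * (g₀⁻¹ * w * g₀) * g₀⁻¹ = w by group]), by group⟩
      have hsqT : w * w ∈ S.T0 := by
        rw [← hξe, show g₀ * ξ * g₀⁻¹ * (g₀ * ξ * g₀⁻¹) = g₀ * (ξ * ξ) * g₀⁻¹ by group]
        obtain ⟨p, x', b, i', j', rfl⟩ := S.exists_e hξ
        rw [S.e_mul]
        cases hij : (i' && j')
        · have : S.e (p ^^ p) ((x' ^^ x') ^^ (j' && i')) (b ^^ b) (i' ^^ i') (j' ^^ j') = 1 := by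
            rw [← S.e_one, Bool.and_comm, hij]; simp
          rw [this, mul_one, mul_inv_cancel]; exact one_mem _
        · have : S.e (p ^^ p) ((x' ^^ x') ^^ (j' && i')) (b ^^ b) (i' ^^ i') (j' ^^ j')
              = S.e false false false false true * S.e false false false true false *
                (S.e false false false false true)⁻¹ * (S.e false false false true false)⁻¹ := by
            rw [eq_mul_inv_iff_mul_eq, eq_mul_inv_iff_mul_eq, Bool.and_comm, hij, S.e_mul, S.e_mul, S.e_mul]; simp
          rw [this, show g₀ * (S.e false false false false true * S.e false false false true false *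
              (S.e false false false false true)⁻¹ * (S.e false false false true false)⁻¹) * g₀⁻¹
            = g₀ * S.e false false false false true * g₀⁻¹ * (g₀ * S.e false false false true false * g₀⁻¹) *
              (g₀ * S.e false false false false true * g₀⁻¹)⁻¹ * (g₀ * S.e false false false true false * g₀⁻¹)⁻¹
            by group]
          exact S.Mp_commutator_mem hM (((hT _).1 (S.e_mem ..)).1) (((hT _).1 (S.e_mem ..)).1)
      -- but it moves `t`
      have hfix2 : w * w * S.t * (w * w)⁻¹ = S.t := by
        rw [← S.e_t]; exact S.Mp_conj_comm_Z _ _ _ hsqT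
      rw [show w * w * S.t * (w * w)⁻¹ = w * (w * S.t * w⁻¹) * w⁻¹ by group, hwt,
        show S.e true x true false false = S.t * S.e false x true false false by rw [← S.e_t, S.e_mul]; simp,
        conj_prod, hwt] at hfix2
      have hwz : w * S.e false x true false false * w⁻¹ = S.e false (!x) true false false := by
        cases x
        · have h1 := S.same_coset hu hw.1 (hut.trans hwt.symm)
          rw [show w * S.e false false true false false * w⁻¹ = u *
            (u⁻¹ * w * S.e false false true false false * (u⁻¹ * w)⁻¹) * u⁻¹ by group,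
            S.Mp_conj_comm_Z _ _ _ h1, hub]
          rfl
        · have h1 := S.same_coset (mul_mem (mul_mem hu hu) hu) hw.1 (hu3t.trans hwt.symm)
          rw [show w * S.e false true true false false * w⁻¹ = (u * u * u) *
            ((u * u * u)⁻¹ * w * S.e false true true false false * ((u * u * u)⁻¹ * w)⁻¹) * (u * u * u)⁻¹ by group,
            S.Mp_conj_comm_Z _ _ _ h1,
            show u * u * u * S.e false true true false false * (u * u * u)⁻¹
            = u * u * (u * S.e false true true false false * u⁻¹) * (u * u)⁻¹ by group, hconjc, hu2b]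
          rfl
      rw [hwz, S.e_mul, ← S.e_t] at hfix2
      have := (S.e_inj hfix2).2.1
      cases x <;> simp at this
    · -- the configuration: an odd number of sets
      right
      obtain ⟨rfl, rfl⟩ : y₁ = false ∧ y₂ = false := by simpa using hB
      have hyy := S.D_sq hD₀
      obtain ⟨-, -, -⟩ := (⟨trivial, trivial, trivial⟩ : True ∧ True ∧ True)
      have hrel : ∀ p x b i j z, y₀ * S.e p x b i j * y₀⁻¹ = S.e p (z ^^ x) b i j →
          y₀ * S.e p x b i j = cond z (S.e false true false false false) 1 * 1 * (S.e p x b i j * y₀) := by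
        intro p x b i j z h
        rw [mul_inv_eq_iff_eq_mul.1 h, mul_one, ← mul_assoc]
        cases z
        · rw [cond_false, one_mul]; cases x <;> rfl
        · rw [cond_true, S.e_a_mul]
      obtain ⟨hy₀t, hy₀b⟩ := houter y₀ hy₀ hD₀ hy₀T
      let R : Rel G :=
        { cocG x₁ x₂ with
          za := S.e false true false false false
          zb := S.e false false true false false
          g0 := S.e true false false false false
          g1 := S.e false false false true false
          g2 := S.e false false false false true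
          g3 := y₀
          g4 := 1
          za_sq := (S.e_sq_eq_one_iff ..).2 rfl
          zb_sq := (S.e_sq_eq_one_iff ..).2 rfl
          zab := (S.e_commute_iff ..).2 rfl
          za_g := ⟨(S.e_commute_iff ..).2 rfl, (S.e_commute_iff ..).2 rfl, (S.e_commute_iff ..).2 rfl,
            (mul_inv_eq_iff_eq_mul.1 (S.conj_e_a hy₀ true)).symm, by simp⟩
          zb_g := ⟨(S.e_commute_iff ..).2 rfl, (S.e_commute_iff ..).2 rfl, (S.e_commute_iff ..).2 rfl,
            (mul_inv_eq_iff_eq_mul.1 hy₀b).symm, by simp⟩
          r0 := ((S.e_sq_eq_one_iff ..).2 rfl).trans (by simp [cocG])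
          r1 := ((S.e_sq_eq_one_iff ..).2 rfl).trans (by simp [cocG])
          r2 := ((S.e_sq_eq_one_iff ..).2 rfl).trans (by simp [cocG])
          r3 := hyy.trans (by simp [cocG])
          r4 := by simp [cocG]
          r10 := by simp only [cocG, cond_false, one_mul, mul_one]; exact (S.e_commute_iff ..).2 rfl
          r20 := by simp only [cocG, cond_false, one_mul, mul_one]; exact (S.e_commute_iff ..).2 rfl
          r21 := by
            simp only [cocG, cond_false, cond_true, mul_one]
            rw [S.e_mul, S.e_mul, S.e_mul]; rfl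
          r30 := by
            simp only [cocG, cond_true, cond_false]
            exact (hrel true false false false false true (by rw [S.e_t]; exact hy₀t)).trans (by simp)
          r31 := by
            simp only [cocG, cond_false]
            exact (hrel false false false true false x₁ (by rw [he1, Bool.xor_false])).trans (by simp)
          r32 := by
            simp only [cocG, cond_false]
            exact (hrel false false false false true x₂ (by rw [he2, Bool.xor_false])).trans (by simp)
          r40 := by simp [cocG]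
          r41 := by simp [cocG]
          r42 := by simp [cocG]
          r43 := by simp [cocG] }
      have hel : ∀ p i j v w1 w2, R.el (p, i, j, v, false) (w1, w2) = S.e p w1 w2 i j * cond v y₀ 1 := by
        intro p i j v w1 w2
        simp only [Rel.el, Rel.zeta, Rel.gen, R]
        cases p <;> cases i <;> cases j <;> cases w1 <;> cases w2 <;>
          simp only [cond_true, cond_false, mul_one, one_mul, ← mul_assoc, S.e_mul, Bool.xor_false, Bool.false_xor,
            Bool.and_false, Bool.false_and, Bool.and_self, Bool.xor_self, S.e_one] <;> rfl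
      have hinj : ∀ v u' : V, v.2.2.2.2 = false → u'.2.2.2.2 = false → ∀ z w, R.el v z = R.el u' w → v = u' ∧ z = w := by
        rintro ⟨p, i, j, v, v4⟩ ⟨p2, i2, j2, v2, u4⟩ h4 h4' ⟨z1, z2⟩ ⟨w1, w2⟩ h
        obtain rfl : v4 = false := h4
        obtain rfl : u4 = false := h4'
        rw [hel, hel] at h
        cases v <;> cases v2 <;> simp only [cond_true, cond_false, mul_one] at h
        · obtain ⟨rfl, rfl, rfl, rfl, rfl⟩ := S.e_inj h; exact ⟨rfl, rfl⟩
        · exact absurd (by rw [show y₀ = (S.e p2 w1 w2 i2 j2)⁻¹ * S.e p z1 z2 i j by rw [h]; group]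
                           exact mul_mem (inv_mem (S.e_mem ..)) (S.e_mem ..)) hy₀T
        · exact absurd (by rw [show y₀ = (S.e p z1 z2 i j)⁻¹ * S.e p2 w1 w2 i2 j2 by rw [← h]; group]
                           exact mul_mem (inv_mem (S.e_mem ..)) (S.e_mem ..)) hy₀T
        · obtain ⟨rfl, rfl, rfl, rfl, rfl⟩ := S.e_inj (mul_right_cancel h); exact ⟨rfl, rfl⟩
      have hzeta : ∀ w : W, R.zeta w = 1 ↔ w = (false, false) := by
        rintro ⟨w1, w2⟩
        have e : R.zeta (w1, w2) = S.e false w1 w2 false false := by
          simp only [Rel.zeta, R]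
          cases w1 <;> cases w2 <;> simp [S.e_one, S.e_mul]
        rw [e]
        exact ⟨fun h => by obtain ⟨-, rfl, rfl, -, -⟩ := S.e_eq_one h; rfl,
          fun h => by cases h; exact S.e_one⟩
      have hcomm : ∀ v u' z w, R.el v z * R.el u' w = R.el u' w * R.el v z
          ↔ (cocG x₁ x₂).om v u' = (false, false) := by
        intro v u' z w
        rw [R.el_comm, mul_eq_right]
        exact hzeta _
      have hinH : ∀ g ∈ N, (∃ x, g * S.t * g⁻¹ = S.e true x false false false) →
          ∃ v z, v.2.2.2.2 = false ∧ g = R.el v z := by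
        intro g hg ⟨x, e⟩
        cases x
        · obtain ⟨p, a, b, i, j, rfl⟩ := S.exists_e (S.mem_T0_of_normalizes hg (mul_inv_eq_iff_eq_mul.1 (e.trans S.e_t)))
          exact ⟨(p, i, j, false, false), (a, b), rfl, by rw [hel, cond_false, mul_one]⟩
        · have h1 := S.same_coset hy₀ hg (hy₀t.trans e.symm)
          have h2 : g * y₀⁻¹ ∈ S.T0 := by
            rw [show g * y₀⁻¹ = y₀ * (y₀⁻¹ * g) * y₀⁻¹ by group]; exact S.normalizer_normal hy₀ h1
          obtain ⟨p, a, b, i, j, e'⟩ := S.exists_e h2
          exact ⟨(p, i, j, true, false), (a, b), rfl, by rw [hel, cond_true, ← e']; group⟩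
      have helN : ∀ v z, v.2.2.2.2 = false → R.el v z ∈ N := by
        rintro ⟨p, i, j, v, v4⟩ ⟨a, b⟩ h
        obtain rfl : v4 = false := h
        rw [hel]
        refine mul_mem (S.T0_le_N (S.e_mem ..)) ?_
        cases v
        exacts [one_mem _, hy₀]
      have hDinH : ∀ g ∈ N, S.D g → ∃ x, g * S.t * g⁻¹ = S.e true x false false false := fun g hg hD => by
        by_cases hgT : g ∈ S.T0
        · exact ⟨false, by rw [← S.e_t, S.Mp_conj_comm_Z _ _ _ hgT]⟩
        · exact ⟨true, (houter g hg hD hgT).1⟩
      have hDflip : ∀ v z, v.2.2.2.2 = false → (S.D (R.el v z) ↔ S.D (R.el v (false, false))) := by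
        rintro ⟨p, i, j, v, v4⟩ ⟨a, b⟩ h
        obtain rfl : v4 = false := h
        rw [hel, hel]
        cases v
        · simp only [cond_false, mul_one]
          rw [S.D_e_iff_Mp hM, S.D_e_iff_Mp hM]
        · simp only [cond_true]
          have hout : ∀ c d, S.e p c d i j * y₀ ∈ N ∧ S.e p c d i j * y₀ ∉ S.T0 := fun c d =>
            ⟨mul_mem (S.T0_le_N (S.e_mem ..)) hy₀, fun h => hy₀T (by
              have := mul_mem (inv_mem (S.e_mem p c d i j)) h
              rwa [← mul_assoc, inv_mul_cancel, one_mul] at this)⟩
          have key : ∀ c d, S.D (S.e p c d i j * y₀) → ∀ c' d', S.D (S.e p c' d' i j * y₀) := by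
            intro c d hDc c' d'
            have h1 := hsets _ (hout c d).1 hDc (hout c d).2 (c ^^ c') (d ^^ d')
            have hcy : y₀ * S.e false (c ^^ c') (d ^^ d') false false
                = S.e false (c ^^ c') (d ^^ d') false false * y₀ := by
              refine mul_inv_eq_iff_eq_mul.1 ?_
              rw [show S.e false (c ^^ c') (d ^^ d') false false
                = S.e false (c ^^ c') false false false * S.e false false (d ^^ d') false false by
                rw [S.e_mul]; simp, conj_prod, S.conj_e_a hy₀]
              cases hdd : (d ^^ d')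
              · rw [S.e_one]; group
              · rw [hy₀b]
            rw [mul_assoc, hcy, ← mul_assoc, S.e_mul] at h1
            revert h1
            cases c <;> cases c' <;> cases d <;> cases d' <;> cases p <;> cases i <;> cases j <;> exact id
          exact ⟨fun h => key _ _ h _ _, fun h => key _ _ h _ _⟩
      let f : V → Bool := fun v => decide (S.D (R.el v (false, false)))
      set l := (cocG x₁ x₂).outerG.filter f with hl
      have hDmem : ∀ v : V, v.2.2.2.2 = false → (v ∈ innerM ++ l ↔ S.D (R.el v (false, false))) := by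
        rintro ⟨p, i, j, v, v4⟩ h
        obtain rfl : v4 = false := h
        rw [List.mem_append]
        constructor
        · rintro (h | h)
          · simp only [innerM, List.mem_cons, List.not_mem_nil, or_false, Prod.mk.injEq] at h
            rcases h with ⟨rfl, rfl, rfl, rfl, -⟩ | ⟨rfl, rfl, rfl, rfl, -⟩ | ⟨rfl, rfl, rfl, rfl, -⟩
            all_goals rw [hel, cond_false, mul_one, S.D_e_iff_Mp hM]; decide
          · exact of_decide_eq_true (List.mem_filter.1 h).2
        · intro h
          cases v
          · left
            rw [hel, cond_false, mul_one, S.D_e_iff_Mp hM] at h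
            obtain ⟨rfl, h1⟩ := h
            revert h1
            cases i <;> cases j <;> simp [innerM]
          · right
            refine List.mem_filter.2 ⟨List.mem_filter.2 ⟨mem_allV _, ?_⟩, decide_eq_true h⟩
            have hq : (cocG x₁ x₂).q (p, i, j, true, false) = (false, false) := by
              have h1 := S.D_sq h
              rw [R.el_sq] at h1
              exact (hzeta _).1 h1
            simp [hq]
      have hl4 : ∀ v ∈ innerM ++ l, v.2.2.2.2 = false := by
        intro v hv
        rcases List.mem_append.1 hv with h | h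
        · simp only [innerM, List.mem_cons, List.not_mem_nil, or_false] at h
          rcases h with rfl | rfl | rfl <;> rfl
        · have := (List.mem_filter.1 (List.mem_filter.1 h).1).2
          revert this; obtain ⟨p, i, j, v, v4⟩ := v; cases v <;> cases v4 <;> simp
      have hnd : (innerM ++ l).Nodup := by
        rw [List.nodup_append]
        refine ⟨by decide, ((nodup_allV.filter _).filter _), fun a ha b hb hab => ?_⟩
        subst hab
        have h1 := (List.mem_filter.1 (List.mem_filter.1 hb).1).2
        simp only [innerM, List.mem_cons, List.not_mem_nil, or_false] at ha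
        rcases ha with rfl | rfl | rfl <;> simp at h1
      have hcount : ∀ P : V → Bool, Nat.card {g : G // (∃ v z, v.2.2.2.2 = false ∧ g = R.el v z ∧ P v = true) ∧ S.D g}
          = 4 * ((innerM ++ l).filter P).length := by
        intro P
        have e : ((innerM ++ l).filter P).length = Nat.card {v : V // v ∈ (innerM ++ l).filter P} := by
          rw [Nat.card_eq_fintype_card,
            Fintype.card_of_subtype ((innerM ++ l).filter P).toFinset (fun v => List.mem_toFinset),
            List.toFinset_card_of_nodup (hnd.filter _)]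
        have e4 : (4 : ℕ) = Nat.card W := by rw [Nat.card_eq_fintype_card]; rfl
        rw [e, e4, ← Nat.card_prod]
        refine (Nat.card_congr (Equiv.ofBijective (fun x => ⟨R.el x.2.1 x.1,
          ⟨x.2.1, x.1, hl4 _ (List.mem_filter.1 x.2.2).1, rfl, (List.mem_filter.1 x.2.2).2⟩,
          (hDflip _ _ (hl4 _ (List.mem_filter.1 x.2.2).1)).2
            ((hDmem _ (hl4 _ (List.mem_filter.1 x.2.2).1)).1 (List.mem_filter.1 x.2.2).1)⟩) ⟨?_, ?_⟩)).symm
        · rintro ⟨z, v, hv⟩ ⟨z', v', hv'⟩ h
          obtain ⟨rfl, rfl⟩ := hinj _ _ (hl4 _ (List.mem_filter.1 hv).1) (hl4 _ (List.mem_filter.1 hv').1) _ _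
            (congrArg Subtype.val h)
          rfl
        · rintro ⟨_, ⟨v, z, h4, rfl, hP⟩, hD⟩
          exact ⟨(z, ⟨v, List.mem_filter.2 ⟨(hDmem v h4).2 ((hDflip v z h4).1 hD), hP⟩⟩), rfl⟩
      have hok : (cocG x₁ x₂).okG l = true := by
        refine List.all_eq_true.2 fun s hs => ?_
        have hsm : s ∈ innerM ++ l := List.mem_append.2 (Or.inr hs)
        have hs4 := hl4 _ hsm
        have hsD := (hDmem s hs4).1 hsm
        have hsN := helN s (false, false) hs4
        have hsT : R.el s (false, false) ∉ S.T0 := by
          obtain ⟨p, i, j, v, v4⟩ := s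
          obtain rfl : v4 = false := hs4
          have h1 := (List.mem_filter.1 (List.mem_filter.1 hs).1).2
          obtain rfl : v = true := by revert h1; cases v <;> simp
          rw [hel, cond_true]
          intro h
          exact hy₀T (by
            have := mul_mem (inv_mem (S.e_mem p false false i j)) h
            rwa [← mul_assoc, inv_mul_cancel, one_mul] at this)
        obtain ⟨z₁, z₂, hz⟩ := hact _ hsN hsD hsT
        set y := R.el s (false, false) with hydef
        have h32 : Nat.card (N ⊓ centralizer ({y} : Set G) : Subgroup G) = 32 := by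
          refine le_antisymm (S.card_centralizer_le_of_D hsD hp) ?_
          have hcom : ∀ x b i j, S.e ((i && z₁) ^^ (j && z₂)) x b i j * y
              = y * S.e ((i && z₁) ^^ (j && z₂)) x b i j := by
            intro x b i j
            refine (mul_inv_eq_iff_eq_mul.1 ((hz _ _ _ _ _).trans ?_)).symm
            congr 1
            · cases x <;> cases i <;> cases j <;> cases z₁ <;> cases z₂ <;> rfl
            · cases b <;> cases i <;> cases j <;> rfl
          let ψ : Bool × Bool × Bool × Bool × Bool → (N ⊓ centralizer ({y} : Set G) : Subgroup G) := fun q =>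
            ⟨S.e ((q.2.2.2.1 && z₁) ^^ (q.2.2.2.2 && z₂)) q.2.1 q.2.2.1 q.2.2.2.1 q.2.2.2.2 * cond q.1 y 1,
              mul_mem (S.T0_le_N (S.e_mem ..)) (by cases q.1; exacts [one_mem _, hsN]),
              mem_centralizer_singleton_iff.2 (by
                cases q.1
                · simp only [cond_false, mul_one]; exact hcom ..
                · simp only [cond_true]; rw [← mul_assoc, ← hcom])⟩
          have hψ : Function.Injective ψ := by
            rintro ⟨v, x, b, i, j⟩ ⟨v', x', b', i', j'⟩ h
            have h := congrArg Subtype.val h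
            simp only [ψ] at h
            cases v <;> cases v' <;> simp only [cond_true, cond_false, mul_one] at h
            · obtain ⟨-, rfl, rfl, rfl, rfl⟩ := S.e_inj h; rfl
            · exact absurd ((eq_inv_mul_of_mul_eq h.symm) ▸ mul_mem (inv_mem (S.e_mem ..)) (S.e_mem ..)) hsT
            · exact absurd ((eq_inv_mul_of_mul_eq h) ▸ mul_mem (inv_mem (S.e_mem ..)) (S.e_mem ..)) hsT
            · obtain ⟨-, rfl, rfl, rfl, rfl⟩ := S.e_inj (mul_right_cancel h); rfl
          have := Nat.card_le_card_of_injective ψ hψ
          simpa [Nat.card_prod] using this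
        obtain ⟨h12, xx, yy, hxx, hyy2, hxy⟩ := S.extremal hsD h32
        rw [S.card_D_T0_Mp hM] at h12
        refine full_step _ _ hnd (fun v => wadd_self _) hsm ?_ ?_
        · have h2 := hcount fun w => (cocG x₁ x₂).om s w == (false, false)
          have he : Nat.card {g : G // (∃ v z, v.2.2.2.2 = false ∧ g = R.el v z ∧
              ((cocG x₁ x₂).om s v == (false, false)) = true) ∧ S.D g} = 12 := by
            rw [← h12]
            refine Nat.card_congr (Equiv.subtypeEquivRight fun g => and_congr_left fun hgD => ?_)
            constructor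
            · rintro ⟨v, z, h4, rfl, h⟩
              exact ⟨helN v z h4, ((hcomm s v _ z).2 (by simpa using h)).symm⟩
            · rintro ⟨hg, hgs⟩
              obtain ⟨v, z, h4, rfl⟩ := hinH g hg (hDinH g hg hgD)
              exact ⟨v, z, h4, rfl, by simpa using (hcomm s v _ z).1 hgs.symm⟩
          omega
        · obtain ⟨v, z, h4, rfl⟩ := hinH xx hxx.1.1 (hDinH xx hxx.1.1 hxx.2)
          obtain ⟨v', z', h4', rfl⟩ := hinH yy hyy2.1.1 (hDinH yy hyy2.1.1 hyy2.2)
          exact ⟨v, (hDmem v h4).2 ((hDflip v z h4).1 hxx.2), v', (hDmem v' h4').2 ((hDflip v' z' h4').1 hyy2.2),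
            (hcomm s v _ z).1 hxx.1.2.symm, (hcomm s v' _ z').1 hyy2.1.2.symm,
            fun h => hxy ((hcomm v v' z z').2 h)⟩
      have hodd : l.length % 2 = 1 := by
        have h1 := List.all_eq_true.1 (oddG x₁ x₂) l (List.mem_sublists.2 List.filter_sublist)
        have hne : (false, false, false, true, false) ∈ l := by
          have hD' : S.D (R.el (false, false, false, true, false) (false, false)) := by
            rw [hel, S.e_one, one_mul, cond_true]; exact hD₀
          have := (hDmem _ rfl).2 hD'
          rcases List.mem_append.1 this with h | h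
          · simp [innerM] at h
          · exact h
        have : l.isEmpty = false := by
          cases hE : l
          · rw [hE] at hne; simp at hne
          · rfl
        simpa [this, hok] using h1
      refine ⟨l.length, hodd, ?_⟩
      have h2 := hcount fun v => v.2.2.2.1
      have hfl : (innerM ++ l).filter (fun v => v.2.2.2.1) = l := by
        rw [List.filter_append, show innerM.filter (fun v => v.2.2.2.1) = [] from rfl, List.nil_append]
        refine List.filter_eq_self.2 fun v hv => ?_
        have := (List.mem_filter.1 (List.mem_filter.1 hv).1).2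
        revert this; cases v.2.2.2.1 <;> simp
      rw [hfl] at h2
      rw [← h2]
      refine Nat.card_congr (Equiv.subtypeEquivRight fun g => and_congr_left fun hgD => ?_)
      constructor
      · rintro ⟨hg, hgT⟩
        obtain ⟨⟨p, i, j, v, v4⟩, ⟨a, b⟩, h4, rfl⟩ := hinH g hg (hDinH g hg hgD)
        obtain rfl : v4 = false := h4
        refine ⟨_, _, rfl, rfl, ?_⟩
        cases v
        · exact absurd (by rw [hel, cond_false, mul_one]; exact S.e_mem ..) hgT
        · rfl
      · rintro ⟨⟨p, i, j, v, v4⟩, ⟨a, b⟩, h4, rfl, hv⟩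
        obtain rfl : v4 = false := h4
        obtain rfl : v = true := hv
        refine ⟨helN _ _ rfl, fun h => hy₀T ?_⟩
        rw [hel, cond_true] at h
        have := mul_mem (inv_mem (S.e_mem p a b i j)) h
        rwa [← mul_assoc, inv_mul_cancel, one_mul] at this
  -- the transfer
  obtain ⟨d, hd⟩ := S.geo.κ_odd
  have htN : S.t ∈ N := S.T0_le_N S.t_mem_T0
  rcases hcl with hsmall | ⟨o, ho, hocard⟩
  · have : Fintype Q := Fintype.ofFinite _
    let isO : G → Bool := fun y => decide (y ∈ S.orbit0)
    let isT : G → Bool := fun y => decide (y ∈ S.T0)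
    let val : G → Option (Option Q) := fun y =>
      if isO y then none else if isT y then some none else if h : y ∈ N then some (some (φ ⟨y, h⟩)) else none
    have hT0conj : ∀ kk ∈ N, ∀ y, isT (kk⁻¹ * y * kk) = isT y := fun kk hk y => by
      simp only [isT]
      rw [decide_eq_decide]
      exact ⟨fun h => by simpa [mul_assoc] using S.normalizer_normal hk h,
        fun h => by simpa using S.normalizer_normal (inv_mem hk) h⟩
    have hOconj1 : ∀ kk ∈ N, ∀ y, y ∈ S.orbit0 → kk * y * kk⁻¹ ∈ S.orbit0 := by
      intro kk hk y hy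
      obtain ⟨h', hh', rfl⟩ := S.exists_normalizer hy
      have := S.mem_orbit0_of_normalizes (mul_mem hk hh')
      rwa [show kk * h' * S.t * (kk * h')⁻¹ = kk * (h' * S.t * h'⁻¹) * kk⁻¹ by group] at this
    have hOconj : ∀ kk ∈ N, ∀ y, isO (kk⁻¹ * y * kk) = isO y := fun kk hk y => by
      simp only [isO]
      rw [decide_eq_decide]
      exact ⟨fun h => by simpa [mul_assoc] using hOconj1 kk hk _ h,
        fun h => by simpa using hOconj1 kk⁻¹ (inv_mem hk) _ h⟩
    have hφconj : ∀ (kk y : G) (hk : kk ∈ N) (hy : y ∈ N) (h' : kk⁻¹ * y * kk ∈ N), φ ⟨_, h'⟩ = φ ⟨y, hy⟩ := by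
      intro kk y hk hy h'
      rw [show (⟨_, h'⟩ : N) = (⟨kk, hk⟩ : N)⁻¹ * ⟨y, hy⟩ * ⟨kk, hk⟩ from Subtype.ext rfl, map_mul, map_mul, map_inv,
        mul_right_comm, inv_mul_cancel, one_mul]
    have he1N : S.e true false false true false ∈ N := S.T0_le_N (S.e_mem ..)
    obtain ⟨m, hm, hprod⟩ := transfer_parts S.hno S.t_sq N hA φ val
      (by
        intro kk hk y hy _
        have h' : kk⁻¹ * y * kk ∈ N := mul_mem (mul_mem (inv_mem hk) hy) hk
        simp only [val, hOconj kk hk y, hT0conj kk hk y, dif_pos h', dif_pos hy, hφconj kk y hk hy h'])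
      (fun o => o.elim (φ ⟨S.t, htN⟩) fun o => o.getD (φ ⟨_, he1N⟩))
      (by
        intro y hy hD
        have hmk : ∀ a b : N, (a : G)⁻¹ * b ∈ S.N0 → φ a = φ b := fun a b h => by
          show Abelianization.of (π a) = Abelianization.of (π b)
          rw [show π a = π b from QuotientGroup.eq.2 (Subgroup.mem_subgroupOf.2 (by simpa using h))]
        simp only [val]
        rcases hO : isO y with _ | _
        · rcases hT : isT y with _ | _
          · simp [dif_pos hy]
          · simp only [if_true, Bool.false_eq_true, if_false, Option.elim_some, Option.getD_none]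
            obtain ⟨p, x, b, i, j, rfl⟩ := S.exists_e (of_decide_eq_true hT)
            obtain ⟨rfl, hij⟩ := (S.D_e_iff_Mp hM ..).1 hD
            have hne : ¬ (i = false ∧ j = false) := fun h => by
              obtain ⟨rfl, rfl⟩ := h
              exact Bool.false_ne_true (hO.symm.trans (decide_eq_true ((S.Mp_orbit0_iff hM _).2 ⟨x, b, rfl⟩)))
            refine hmk _ _ ?_
            show (S.e true x b i j)⁻¹ * S.e true false false true false ∈ S.N0
            rw [show (S.e true x b i j)⁻¹ = S.e true x b i j from
              inv_eq_of_mul_eq_one_right ((S.e_sq_eq_one_iff ..).2 hij), S.e_mul]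
            revert hij hne
            cases i <;> cases j <;> simp
            · exact ⟨_, _, true, rfl⟩
            · exact ⟨_, _, false, rfl⟩
        · simp only [if_true, Option.elim_none]
          obtain ⟨x, z, rfl⟩ := (S.Mp_orbit0_iff hM _).1 (of_decide_eq_true hO)
          refine hmk _ _ ?_
          show (S.e true x z false false)⁻¹ * S.t ∈ S.N0
          rw [show (S.e true x z false false)⁻¹ = S.e true x z false false from
            inv_eq_of_mul_eq_one_right ((S.e_sq_eq_one_iff ..).2 rfl), ← S.e_t, S.e_mul]
          exact ⟨_, _, false, rfl⟩)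
    have hcO : Nat.card {y : G // (y ∈ N ∧ val y = none) ∧ IsConj S.t y} = 4 := by
      have hv : ∀ x z, val (S.e true x z false false) = none := fun x z => by
        simp only [val, isO, decide_eq_true ((S.Mp_orbit0_iff hM _).2 ⟨x, z, rfl⟩), if_true]
      have : Nat.card {y : G // (y ∈ N ∧ val y = none) ∧ IsConj S.t y} = Nat.card W := by
        refine (Nat.card_congr (Equiv.ofBijective (fun z : W => ⟨S.e true z.1 z.2 false false,
          ⟨S.T0_le_N (S.e_mem ..), hv z.1 z.2⟩, (S.D_e_iff_Mp hM ..).2 ⟨rfl, rfl⟩⟩) ⟨?_, ?_⟩)).symm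
        · intro z z' h
          have := S.e_inj (congrArg Subtype.val h)
          exact Prod.ext this.2.1 this.2.2.1
        · rintro ⟨y, ⟨hy, hv⟩, hD⟩
          rcases hO : isO y with _ | _
          · simp only [val, hO, Bool.false_eq_true, if_false, dif_pos hy] at hv
            split at hv <;> simp at hv
          · obtain ⟨x, z, rfl⟩ := (S.Mp_orbit0_iff hM _).1 (of_decide_eq_true hO)
            exact ⟨(x, z), rfl⟩
      rw [this, Nat.card_eq_fintype_card]; rfl
    have hcI : Nat.card {y : G // (y ∈ N ∧ val y = some none) ∧ IsConj S.t y} = 8 := by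
      have hv : ∀ x z i, val (S.e true x z i (!i)) = some none := fun x z i => by
        have h1 : isO (S.e true x z i (!i)) = false := by
          refine decide_eq_false fun h => ?_
          obtain ⟨x', z', e⟩ := (S.Mp_orbit0_iff hM _).1 h
          have := S.e_inj e
          cases i <;> simp at this
        simp only [val, h1, Bool.false_eq_true, if_false, isT, decide_eq_true (S.e_mem true x z i (!i)), if_true]
      have : Nat.card {y : G // (y ∈ N ∧ val y = some none) ∧ IsConj S.t y} = Nat.card (W × Bool) := by
        refine (Nat.card_congr (Equiv.ofBijective (fun z : W × Bool => ⟨S.e true z.1.1 z.1.2 z.2 (!z.2),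
          ⟨S.T0_le_N (S.e_mem ..), hv ..⟩, (S.D_e_iff_Mp hM ..).2 ⟨rfl, by cases z.2 <;> rfl⟩⟩) ⟨?_, ?_⟩)).symm
        · intro z z' h
          have := S.e_inj (congrArg Subtype.val h)
          exact Prod.ext (Prod.ext this.2.1 this.2.2.1) this.2.2.2.1
        · rintro ⟨y, ⟨hy, hv⟩, hD⟩
          rcases hO : isO y with _ | _
          · rcases hT : isT y with _ | _
            · simp [val, hO, hT, dif_pos hy] at hv
            · obtain ⟨p, x, b, i, j, rfl⟩ := S.exists_e (of_decide_eq_true hT)
              obtain ⟨rfl, hij⟩ := (S.D_e_iff_Mp hM ..).1 hD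
              obtain rfl : j = !i := by
                cases i <;> cases j <;> simp at hij ⊢
                exact Bool.false_ne_true (hO.symm.trans (decide_eq_true ((S.Mp_orbit0_iff hM _).2 ⟨x, b, rfl⟩)))
              exact ⟨((x, b), i), rfl⟩
          · simp [val, hO] at hv
      rw [this, Nat.card_prod, Nat.card_eq_fintype_card, Nat.card_eq_fintype_card]; rfl
    have hsome : ∀ v, 2 ∣ m (some (some v)) := by
      intro v
      have h1 := hm (some (some v))
      have h8 : 2 ^ 3 ∣ Nat.card {y : G | (y ∈ N ∧ val y = some (some v)) ∧ IsConj S.t y} := by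
        refine two_pow_dvd_card (K := N) (e := 7) (S.Mp_card_N hM) _ ?_ ?_ (by omega)
        · intro kk hk y ⟨⟨hy, hv⟩, hD⟩
          refine ⟨⟨mul_mem (mul_mem hk hy) (inv_mem hk), ?_⟩, S.D_conj kk hD⟩
          have h' : kk * y * kk⁻¹ ∈ N := mul_mem (mul_mem hk hy) (inv_mem hk)
          have hyy' : kk⁻¹ * (kk * y * kk⁻¹) * kk = y := by group
          rw [← hv]
          simp only [val, dif_pos h', dif_pos hy]
          rw [← hOconj kk hk (kk * y * kk⁻¹), ← hT0conj kk hk (kk * y * kk⁻¹), hyy']
          split
          · rfl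
          · split
            · rfl
            · have h'' : kk⁻¹ * (kk * y * kk⁻¹) * kk ∈ N := hyy'.symm ▸ hy
              rw [← hφconj kk (kk * y * kk⁻¹) hk h' h'']
              simp only [hyy']
        · intro y ⟨⟨hy, hv⟩, hD⟩
          refine hsmall y hy hD fun hT => ?_
          simp only [val, isT, decide_eq_true hT, if_true] at hv
          split at hv <;> simp at hv
      rw [S.card_C, S.Mp_card_N hM] at h1
      obtain ⟨c, hc⟩ := h8
      have : Nat.card {y : G // (y ∈ N ∧ val y = some (some v)) ∧ IsConj S.t y} = 2 ^ 3 * c := hc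
      rw [this] at h1
      exact ⟨S.geo.κ * c, by nlinarith⟩
    have hsqφ : ∀ {y} (hy : y ∈ N), S.D y → φ ⟨y, hy⟩ ^ 2 = 1 := fun hy hD => by
      rw [pow_two, ← map_mul, show (⟨_, hy⟩ : N) * ⟨_, hy⟩ = 1 from Subtype.ext (S.D_sq hD), map_one]
    rw [Fintype.prod_option, Fintype.prod_option] at hprod
    rw [Finset.prod_eq_one (fun v _ => ?_), mul_one] at hprod
    swap
    · simp only [Option.elim_some, Option.getD_some]
      rcases Nat.eq_zero_or_pos (m (some (some v))) with h0 | h0
      · rw [h0, pow_zero]
      · obtain ⟨c, hc⟩ := hsome v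
        have h1 := hm (some (some v))
        obtain ⟨y, ⟨hy, hv⟩, hD⟩ : ∃ y, (y ∈ N ∧ val y = some (some v)) ∧ IsConj S.t y := by
          by_contra hne
          have : IsEmpty {y : G // (y ∈ N ∧ val y = some (some v)) ∧ IsConj S.t y} := ⟨fun x => hne ⟨x, x.2⟩⟩
          rw [Nat.card_of_isEmpty (α := {y : G // (y ∈ N ∧ val y = some (some v)) ∧ IsConj S.t y}), mul_zero] at h1
          exact (Nat.mul_pos h0 Nat.card_pos).ne' h1
        simp only [val, dif_pos hy] at hv
        split at hv
        · simp at hv
        · split at hv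
          · simp at hv
          · simp only [Option.some.injEq] at hv
            rw [hc, pow_mul, ← hv, hsqφ hy hD, one_pow]
    simp only [Option.elim_none, Option.elim_some, Option.getD_none] at hprod
    have hI2 : m (some none) % 2 = 0 := by
      have h1 := hm (some none)
      rw [hcI, S.card_C, S.Mp_card_N hM] at h1
      omega
    have hO2 : m none % 2 = 1 := by
      have h1 := hm none
      rw [hcO, S.card_C, S.Mp_card_N hM] at h1
      omega
    rw [← Nat.mod_add_div (m none) 2, ← Nat.mod_add_div (m (some none)) 2, pow_add, pow_add, pow_mul, pow_mul,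
      hsqφ htN S.D_t, hsqφ he1N ((S.D_e_iff_Mp hM ..).2 ⟨rfl, rfl⟩), one_pow, one_pow, mul_one, mul_one, hO2,
      hI2, pow_one, pow_zero, mul_one] at hprod
    obtain ⟨x, z, i, e⟩ := hφker _ hprod
    rw [show ((⟨S.t, htN⟩ : N) : G) = S.e true false false false false from S.e_t.symm] at e
    exact absurd (S.e_inj e).1 (by decide)
  · -- transfer into the quotient by `T0`
    have := S.T0_subgroupOf_normal
    let π₂ := QuotientGroup.mk' (S.T0.subgroupOf N)
    let Q₂ := Abelianization (N ⧸ S.T0.subgroupOf N)
    let φ₂ : N →* Q₂ := Abelianization.of.comp π₂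
    have hA₂ : IsPGroup 2 Q₂ := (hp.to_quotient _).to_quotient _
    have : Fact (Nat.Prime 2) := ⟨Nat.prime_two⟩
    have hker₂ : ∀ g : N, φ₂ g = 1 → (g : G) ∈ S.T0 := by
      intro g hg
      have hc : Nat.card (N ⧸ S.T0.subgroupOf N) = 2 ^ 2 := by
        rw [← Subgroup.index_eq_card]; exact S.Mp_index_T0 hM
      have hbot : _root_.commutator (N ⧸ S.T0.subgroupOf N) = ⊥ := by
        rw [commutator_eq_bot_iff_center_eq_top, eq_top_iff]
        intro x _
        rw [Subgroup.mem_center_iff]
        intro y
        exact (IsPGroup.isMulCommutative_of_card_eq_prime_sq hc).is_comm.comm y x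
      have h1 : π₂ g ∈ _root_.commutator (N ⧸ S.T0.subgroupOf N) := by
        rw [← Abelianization.ker_of]; exact hg
      rw [hbot, Subgroup.mem_bot] at h1
      exact (QuotientGroup.eq_one_iff g).1 h1
    have hu2N : u * u ∈ N := mul_mem hu hu
    let val : G → Bool := fun y => decide (y ∉ S.T0)
    obtain ⟨m, hm, hprod⟩ := transfer_parts S.hno S.t_sq N hA₂ φ₂ val
      (by
        intro kk hk y hy _
        simp only [val]
        rw [decide_eq_decide, not_iff_not]
        exact ⟨fun h => by simpa [mul_assoc] using S.normalizer_normal hk h,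
          fun h => by simpa using S.normalizer_normal (inv_mem hk) h⟩)
      (fun o => cond o (φ₂ ⟨u * u, hu2N⟩) 1)
      (by
        intro y hy hD
        simp only [val]
        by_cases hyT : y ∈ S.T0
        · rw [decide_eq_false (not_not.2 hyT), cond_false]
          show Abelianization.of (π₂ ⟨y, hy⟩) = 1
          rw [show π₂ ⟨y, hy⟩ = 1 from (QuotientGroup.eq_one_iff _).2 (Subgroup.mem_subgroupOf.2 hyT), map_one]
        · rw [decide_eq_true hyT, cond_true]
          show Abelianization.of (π₂ ⟨y, hy⟩) = Abelianization.of (π₂ ⟨u * u, hu2N⟩)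
          rw [show π₂ ⟨y, hy⟩ = π₂ ⟨u * u, hu2N⟩ from QuotientGroup.eq.2 (Subgroup.mem_subgroupOf.2
            (S.same_coset hy hu2N ((houter y hy hD hyT).1.trans hu2t.symm)))])
    have hmt : m true % 2 = 1 := by
      have h1 := hm true
      have : Nat.card {y : G // (y ∈ N ∧ val y = true) ∧ IsConj S.t y} = 4 * o := by
        rw [← hocard]
        refine Nat.card_congr (Equiv.subtypeEquivRight fun y => and_congr_left fun _ => and_congr_right fun _ => ?_)
        simp [val]
      rw [this, S.card_C, S.Mp_card_N hM] at h1
      obtain ⟨d', hd'⟩ : Odd (S.geo.κ * o) := S.geo.κ_odd.mul (Nat.odd_iff.2 ho)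
      have : m true = S.geo.κ * o := by nlinarith
      omega
    have hsq2 : φ₂ ⟨u * u, hu2N⟩ ^ 2 = 1 := by
      rw [← map_pow]
      show Abelianization.of (π₂ (⟨u * u, hu2N⟩ ^ 2)) = 1
      rw [show π₂ (⟨u * u, hu2N⟩ ^ 2) = 1 from (QuotientGroup.eq_one_iff _).2 (Subgroup.mem_subgroupOf.2 (by
        refine S.mem_T0_of_normalizes (pow_mem hu2N 2) (mul_inv_eq_iff_eq_mul.1 ?_)
        rw [pow_two, Subgroup.coe_mul, show u * u * (u * u) * S.t * (u * u * (u * u))⁻¹
          = u * u * (u * u * S.t * (u * u)⁻¹) * (u * u)⁻¹ by group, hu2t,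
          show S.e true true false false false = S.e false true false false false * S.t by
            rw [← S.e_t, S.e_a_mul]; rfl,
          conj_prod, S.conj_e_a hu2N, hu2t, S.e_a_mul, ← S.e_t]
        rfl)), map_one]
    rw [Fintype.prod_bool] at hprod
    simp only [cond_true, cond_false, one_pow, mul_one] at hprod
    rw [← Nat.mod_add_div (m true) 2, pow_add, pow_mul, hsq2, one_pow, mul_one, hmt, pow_one] at hprod
    have hT := hker₂ _ hprod
    have h1 : u * u * S.t * (u * u)⁻¹ = S.t := by
      rw [← S.e_t]; exact S.Mp_conj_comm_Z _ _ _ hT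
    rw [hu2t, ← S.e_t] at h1
    exact absurd (S.e_inj h1).2.1 (by decide)

end Setup

end Cfsg.Agent.H67.TwoSym
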