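import Cfsg.Agent.H67.TwoSym.FrameSeven

/-!
# The geometry of the two frames
-/

set_option autoImplicit false

namespace Cfsg.Agent.H67.TwoSym

open Equiv Equiv.Perm

/-- A pair of frames on one Sylow subgroup, with the sizes of supports. -/
structure Geo (k : ℕ) where
  F : Frame k
  F' : Frame k
  κ : ℕ
  κ_odd : Odd κ
  card_perm : Nat.card (Perm (Fin k)) = 16 * κ
  k_le : k ≤ 7
  e1' : F'.e1 = F.sw * F.b
  sw' : F'.sw = F.e1 * F.b
  b' : F'.b = F.c
  supp_b : F.b.support.card = 2
  supp_a : F.a.support.card = 4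
  supp_c : F.c.support.card = 6

/-- Degree six. -/
def geoSix : Geo 6 where
  F := frameSix
  F' := frameSixFlip
  κ := 45
  κ_odd := by decide
  card_perm := by simp [Nat.card_eq_fintype_card, Fintype.card_perm, Nat.factorial]
  k_le := by omega
  e1' := by decide +kernel
  sw' := by decide +kernel
  b' := by decide +kernel
  supp_b := by decide +kernel
  supp_a := by decide +kernel
  supp_c := by decide +kernel

theorem support_liftSix (σ : Perm (Fin 6)) : (liftSix σ).support.card = σ.support.card := by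
  simp only [liftSix, viaEmbeddingHom_apply, viaEmbedding, card_support_extend_domain]

/-- Degree seven. -/
noncomputable def geoSeven : Geo 7 where
  F := frameSeven
  F' := frameSevenFlip
  κ := 315
  κ_odd := by decide
  card_perm := by simp [Nat.card_eq_fintype_card, Fintype.card_perm, Nat.factorial]
  k_le := le_rfl
  e1' := by
    show liftSix frameSixFlip.e1 = liftSix frameSix.sw * liftSix frameSix.b
    rw [← map_mul]; exact congrArg _ geoSix.e1'
  sw' := by
    show liftSix frameSixFlip.sw = liftSix frameSix.e1 * liftSix frameSix.b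
    rw [← map_mul]; exact congrArg _ geoSix.sw'
  b' := by
    show liftSix frameSixFlip.b
      = liftSix frameSix.sw * liftSix frameSix.e1 * liftSix frameSix.sw * liftSix frameSix.e1 * liftSix frameSix.b
    simp only [← map_mul]; exact congrArg _ geoSix.b'
  supp_b := (support_liftSix _).trans geoSix.supp_b
  supp_a := by
    show (liftSix frameSix.sw * liftSix frameSix.e1 * liftSix frameSix.sw * liftSix frameSix.e1).support.card = 4
    simp only [← map_mul]; exact (support_liftSix _).trans geoSix.supp_a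
  supp_c := by
    show (liftSix frameSix.sw * liftSix frameSix.e1 * liftSix frameSix.sw * liftSix frameSix.e1
      * liftSix frameSix.b).support.card = 6
    simp only [← map_mul]; exact (support_liftSix _).trans geoSix.supp_c

namespace Frame

variable {k : ℕ} (F : Frame k)

theorem conj_e1_b : IsConj F.b F.e1 := isConj_iff.2 ⟨F.ρ, by rw [F.ρ_b, mul_assoc, mul_inv_cancel, mul_one]⟩

theorem conj_e2_b : IsConj F.b F.e2 := by
  refine F.conj_e1_b.trans (isConj_iff.2 ⟨F.ρ, ?_⟩)
  rw [F.ρ_e1, mul_assoc, mul_inv_cancel, mul_one, e2]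

theorem a_eq : F.a = F.e2 * F.e1 := rfl

theorem ρ_a : F.ρ * F.a = F.e2 * F.b * F.ρ := by
  rw [a_eq, e2, ← mul_assoc, F.ρ_e2, mul_assoc, F.ρ_e1, ← mul_assoc]
  rw [show F.b * (F.sw * F.e1 * F.sw) = F.sw * F.e1 * F.sw * F.b from
    ((((show Commute F.b F.sw from F.b_sw).mul_right F.b_e1).mul_right F.b_sw)).eq]

theorem conj_a_e2b : IsConj F.a (F.e2 * F.b) :=
  isConj_iff.2 ⟨F.ρ, by rw [F.ρ_a, mul_assoc, mul_inv_cancel, mul_one]⟩

end Frame

namespace Geo

variable {k : ℕ} (g : Geo k)

theorem a' : g.F'.a = g.F.a := by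
  have h1 : Commute g.F.b g.F.e1 := g.F.b_e1
  have h2 : Commute g.F.b g.F.sw := g.F.b_sw
  have hb := g.F.b_sq
  have e : g.F'.a = g.F.e1 * g.F.sw * g.F.e1 * g.F.sw := by
    simp only [Frame.a, g.e1', g.sw']
    calc g.F.e1 * g.F.b * (g.F.sw * g.F.b) * (g.F.e1 * g.F.b) * (g.F.sw * g.F.b)
        = g.F.e1 * (g.F.b * g.F.sw) * g.F.b * g.F.e1 * (g.F.b * g.F.sw) * g.F.b := by group
      _ = g.F.e1 * (g.F.sw * g.F.b) * g.F.b * g.F.e1 * (g.F.sw * g.F.b) * g.F.b := by rw [h2.eq]
      _ = g.F.e1 * g.F.sw * (g.F.b * g.F.b) * g.F.e1 * g.F.sw * (g.F.b * g.F.b) := by group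
      _ = g.F.e1 * g.F.sw * g.F.e1 * g.F.sw := by rw [hb, mul_one, mul_one]
  rw [e]
  refine mul_right_cancel (b := g.F.sw * g.F.e1 * g.F.sw * g.F.e1) ?_
  show _ = g.F.a * g.F.a
  rw [show g.F.a * g.F.a = 1 from g.F.a_sq]
  have he := g.F.e1_sq
  have hs := g.F.sw_sq
  calc g.F.e1 * g.F.sw * g.F.e1 * g.F.sw * (g.F.sw * g.F.e1 * g.F.sw * g.F.e1)
      = g.F.e1 * g.F.sw * g.F.e1 * (g.F.sw * g.F.sw) * (g.F.e1 * g.F.sw * g.F.e1) := by group
    _ = g.F.e1 * g.F.sw * (g.F.e1 * g.F.e1) * (g.F.sw * g.F.e1) := by rw [hs, mul_one]; group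
    _ = g.F.e1 * (g.F.sw * g.F.sw) * g.F.e1 := by rw [he, mul_one]; group
    _ = 1 := by rw [hs, mul_one, he]

theorem conj_a_sw : IsConj g.F.a g.F.sw := by
  have h := g.F'.conj_a_e2b
  rw [g.a', ← g.F'.a_mul_e1, g.a', g.e1', g.b', Frame.c] at h
  have e : g.F.a * (g.F.sw * g.F.b) * (g.F.a * g.F.b) = g.F.sw := by
    have h1 : Commute g.F.a g.F.sw := g.F.a_sw
    have h2 : Commute g.F.a g.F.b := g.F.a_comm_b
    calc g.F.a * (g.F.sw * g.F.b) * (g.F.a * g.F.b)
        = g.F.a * g.F.sw * (g.F.b * g.F.a) * g.F.b := by group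
      _ = g.F.sw * g.F.a * (g.F.a * g.F.b) * g.F.b := by rw [h1.eq, ← h2.eq]
      _ = g.F.sw * (g.F.a * g.F.a) * (g.F.b * g.F.b) := by group
      _ = g.F.sw := by rw [show g.F.a * g.F.a = 1 from g.F.a_sq, g.F.b_sq, mul_one, mul_one]
  rwa [e] at h

theorem supp_eq_of_isConj {σ τ : Perm (Fin k)} (h : IsConj σ τ) : σ.support.card = τ.support.card := by
  rw [← sum_cycleType, ← sum_cycleType, (isConj_iff_cycleType_eq.1 h)]

theorem isConj_of_supp {σ τ : Perm (Fin k)} (hσ : σ * σ = 1) (hτ : τ * τ = 1)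
    (h : σ.support.card = τ.support.card) : IsConj σ τ := by
  have hrep : ∀ π : Perm (Fin k), π * π = 1 → π.cycleType = Multiset.replicate (Multiset.card π.cycleType) 2
      ∧ π.support.card = 2 * Multiset.card π.cycleType := by
    intro π hπ
    have h1 : ∀ c ∈ π.cycleType, c = 2 := fun c hc => by
      have h2 := (dvd_of_mem_cycleType hc).trans (orderOf_dvd_of_pow_eq_one (n := 2) (by rw [pow_two, hπ]))
      exact ((Nat.dvd_prime Nat.prime_two).1 h2).resolve_left (one_lt_of_mem_cycleType hc).ne'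
    have h2 := Multiset.eq_replicate_card.2 h1
    refine ⟨h2, ?_⟩
    conv_lhs => rw [← sum_cycleType, h2, Multiset.sum_replicate, smul_eq_mul, mul_comm]
  obtain ⟨a1, a2⟩ := hrep σ hσ
  obtain ⟨b1, b2⟩ := hrep τ hτ
  rw [isConj_iff_cycleType_eq, a1, b1, show Multiset.card σ.cycleType = Multiset.card τ.cycleType by omega]

/-- Every involution is conjugate to one of `b, a, c`. -/
theorem cases_invol {σ : Perm (Fin k)} (hσ : σ * σ = 1) :
    σ = 1 ∨ IsConj g.F.b σ ∨ IsConj g.F.a σ ∨ IsConj g.F.c σ := by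
  have hle : σ.support.card ≤ 7 :=
    (Finset.card_le_univ _).trans (by rw [Fintype.card_fin]; exact g.k_le)
  have hev : 2 ∣ σ.support.card := two_dvd_card_support (by rw [pow_two, hσ])
  have hc : g.F.c * g.F.c = 1 := by
    have h2 : Commute g.F.a g.F.b := g.F.a_comm_b
    show g.F.a * g.F.b * (g.F.a * g.F.b) = 1
    rw [mul_assoc, ← mul_assoc g.F.b, ← h2.eq, mul_assoc, g.F.b_sq, mul_one]
    exact g.F.a_sq
  rcases Nat.eq_zero_or_pos σ.support.card with h0 | h0
  · exact Or.inl (support_eq_empty_iff.1 (Finset.card_eq_zero.1 h0))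
  have : σ.support.card = 2 ∨ σ.support.card = 4 ∨ σ.support.card = 6 := by omega
  rcases this with h | h | h
  · exact Or.inr (Or.inl (isConj_of_supp g.F.b_sq hσ (by rw [g.supp_b, h])))
  · exact Or.inr (Or.inr (Or.inl (isConj_of_supp g.F.a_sq hσ (by rw [g.supp_a, h]))))
  · exact Or.inr (Or.inr (Or.inr (isConj_of_supp hc hσ (by rw [g.supp_c, h]))))

/-- An element centralised by the Sylow subgroup has an odd class. -/
theorem odd_class {σ : Perm (Fin k)} (h : ∀ τ ∈ g.F.P, τ * σ = σ * τ) :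
    Odd (Nat.card {π : Perm (Fin k) // IsConj σ π}) := by
  have hle : g.F.P ≤ (MulAction.stabilizer (ConjAct (Perm (Fin k))) σ).comap
      (ConjAct.toConjAct : Perm (Fin k) ≃* ConjAct (Perm (Fin k))).toMonoidHom := by
    intro τ hτ
    show ConjAct.toConjAct τ • σ = σ
    rw [ConjAct.toConjAct_smul, h τ hτ, mul_assoc, mul_inv_cancel, mul_one]
  have h1 := Subgroup.index_dvd_of_le hle
  rw [Subgroup.index_comap_of_surjective _ (MulEquiv.surjective _), MulAction.index_stabilizer] at h1
  have h2 := g.F.P.card_mul_index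
  rw [g.F.card_P, g.card_perm] at h2
  have h3 : g.F.P.index = g.κ := Nat.eq_of_mul_eq_mul_left (by norm_num) h2
  rw [h3] at h1
  have h4 : Nat.card {π : Perm (Fin k) // IsConj σ π}
      = (MulAction.orbit (ConjAct (Perm (Fin k))) σ).ncard := by
    rw [← Nat.card_coe_set_eq]
    refine Nat.card_congr (Equiv.subtypeEquivRight fun π => ?_)
    rw [ConjAct.orbit_eq_carrier_conjClasses, ConjClasses.mem_carrier_iff_mk_eq,
      ConjClasses.mk_eq_mk_iff_isConj, isConj_comm]
  rw [h4]
  exact Odd.of_dvd_nat g.κ_odd h1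

end Geo

end Cfsg.Agent.H67.TwoSym

namespace Cfsg.Agent.H67.TwoSym

open Equiv Equiv.Perm

namespace Frame

variable {k : ℕ} (F : Frame k)

theorem elP_mem (x y i j : Bool) : F.elP x y i j ∈ F.P := ⟨x, y, i, j, rfl⟩

theorem a_mem_P : F.a ∈ F.P := ⟨true, false, false, false, by simp [elP]⟩
theorem b_mem_P : F.b ∈ F.P := ⟨false, true, false, false, by simp [elP]⟩
theorem c_mem_P : F.c ∈ F.P := ⟨true, true, false, false, by simp [elP, c]⟩
theorem e1_mem_P : F.e1 ∈ F.P := ⟨false, false, true, false, by simp [elP]⟩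
theorem sw_mem_P : F.sw ∈ F.P := ⟨false, false, false, true, by simp [elP]⟩

theorem H_le_P : F.H ≤ F.P := fun _ ⟨x, y, i, h⟩ => ⟨x, y, i, false, h⟩

theorem sq_elP (x y i j : Bool) : F.elP x y i j * F.elP x y i j = F.elP (i && j) false false false := by
  rw [elP_mul]
  cases x <;> cases y <;> cases i <;> cases j <;> rfl

/-- The centre of the Sylow subgroup. -/
theorem central_iff {σ : Perm (Fin k)} (hσ : σ ∈ F.P) :
    (∀ τ ∈ F.P, τ * σ = σ * τ) ↔ ∃ x y, σ = F.elP x y false false := by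
  obtain ⟨x, y, i, j, rfl⟩ := hσ
  constructor
  · intro h
    have h1 := h _ (F.elP_mem false false true false)
    have h2 := h _ (F.elP_mem false false false true)
    rw [elP_mul, elP_mul] at h1 h2
    have h3 := (F.elP_inj h1).1
    have h4 := (F.elP_inj h2).1
    refine ⟨x, y, ?_⟩
    cases x <;> cases i <;> cases j <;> simp_all
  · rintro ⟨x', y', e⟩ τ ⟨p, q, r, s, rfl⟩
    rw [e, elP_mul, elP_mul]
    cases x' <;> cases y' <;> cases p <;> cases q <;> cases r <;> cases s <;> rfl

theorem a_central : ∀ τ ∈ F.P, τ * F.a = F.a * τ :=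
  (F.central_iff F.a_mem_P).2 ⟨true, false, by simp [elP]⟩

theorem b_central : ∀ τ ∈ F.P, τ * F.b = F.b * τ :=
  (F.central_iff F.b_mem_P).2 ⟨false, true, by simp [elP]⟩

theorem c_central : ∀ τ ∈ F.P, τ * F.c = F.c * τ :=
  (F.central_iff F.c_mem_P).2 ⟨true, true, by simp [elP, c]⟩

end Frame

namespace Geo

variable {k : ℕ} (g : Geo k)

theorem e1'_eq : g.F'.e1 = g.F.elP false true false true := by
  rw [g.e1', ← g.F.b_sw]
  simp [Frame.elP]

theorem sw'_eq : g.F'.sw = g.F.elP false true true false := by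
  rw [g.sw', ← g.F.b_e1]
  simp [Frame.elP]

theorem b'_eq : g.F'.b = g.F.elP true true false false := by
  rw [g.b']; simp [Frame.elP, Frame.c]

theorem elP'_eq (x y i j : Bool) :
    g.F'.elP x y i j = g.F.elP (xor (xor x y) (i && j)) (xor (xor y i) j) j i := by
  have ha : g.F'.a = g.F.elP true false false false := by rw [g.a']; simp [Frame.elP]
  have h1 : (g.F.elP false false false false) = 1 := by simp [Frame.elP]
  rw [Frame.elP, ha, g.e1'_eq, g.sw'_eq, g.b'_eq]
  cases x <;> cases y <;> cases i <;> cases j <;>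
    simp only [cond_true, cond_false, ← h1, Frame.elP_mul] <;> rfl

theorem P' : g.F'.P = g.F.P := by
  ext σ
  constructor
  · rintro ⟨x, y, i, j, rfl⟩
    exact ⟨_, _, _, _, g.elP'_eq ..⟩
  · rintro ⟨x, y, i, j, rfl⟩
    refine ⟨xor (xor x (xor (xor y i) j)) (i && j), xor (xor y i) j, j, i, ?_⟩
    rw [g.elP'_eq]
    cases x <;> cases y <;> cases i <;> cases j <;> rfl

/-- The supports of the involutions in the Sylow subgroup outside its centre. -/
theorem supp_e1 : g.F.e1.support.card = 2 := by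
  rw [← supp_eq_of_isConj g.F.conj_e1_b, g.supp_b]

theorem supp_noncentral (x y i j : Bool) (h : (i && j) = false) (hij : (i || j) = true) :
    (g.F.elP x y i j).support.card = cond i (cond y 4 2) (cond y 6 4) := by
  have conj : ∀ σ, σ ∈ g.F.P → ∀ τ, IsConj τ (σ * τ * σ⁻¹) := fun σ _ τ => isConj_iff.2 ⟨σ, rfl⟩
  have flip : ∀ x y i j, IsConj (g.F.elP x y i j) (g.F.elP (xor x (xor i j)) y i j) := by
    intro x y i j
    refine isConj_iff.2 ⟨g.F.elP false false j i, ?_⟩
    rw [mul_inv_eq_iff_eq_mul, Frame.elP_mul, Frame.elP_mul]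
    cases x <;> cases y <;> cases i <;> cases j <;> rfl
  have base : ∀ y i j, (i && j) = false → (i || j) = true →
      (g.F.elP false y i j).support.card = cond i (cond y 4 2) (cond y 6 4) := by
    intro y i j h hij
    obtain ⟨rfl, rfl⟩ | ⟨rfl, rfl⟩ : (i = true ∧ j = false) ∨ (i = false ∧ j = true) := by
      cases i <;> cases j <;> simp_all
    · cases y
      · rw [show g.F.elP false false true false = g.F.e1 by simp [Frame.elP]]
        exact g.supp_e1
      · rw [supp_eq_of_isConj (flip false true true false)]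
        show (g.F.elP true true true false).support.card = 4
        rw [← g.supp_a, supp_eq_of_isConj g.F.conj_a_e2b]
        congr 2
        rw [← g.F.a_mul_e1, Frame.elP, cond_true, cond_true, cond_true, cond_false, mul_one, mul_assoc g.F.a,
          g.F.b_e1, ← mul_assoc]
    · cases y
      · rw [show g.F.elP false false false true = g.F.sw by simp [Frame.elP]]
        show g.F.sw.support.card = 4
        rw [← supp_eq_of_isConj g.conj_a_sw, g.supp_a]
      · rw [← g.e1'_eq]
        show g.F'.e1.support.card = 6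
        rw [← supp_eq_of_isConj g.F'.conj_e1_b, g.b', g.supp_c]
  cases x
  · exact base y i j h hij
  · rw [supp_eq_of_isConj (flip true y i j)]
    have e : xor true (xor i j) = false := by cases i <;> cases j <;> simp_all
    rw [e]
    exact base y i j h hij

theorem supp_central (x y : Bool) :
    (g.F.elP x y false false).support.card = cond x (cond y 6 4) (cond y 2 0) := by
  cases x <;> cases y <;> simp [Frame.elP, g.supp_a, g.supp_b]
  exact g.supp_c

/-- The Sylow subgroup is self-normalising. -/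
theorem self_normalising {σ : Perm (Fin k)} (h : ∀ τ, τ ∈ g.F.P ↔ σ * τ * σ⁻¹ ∈ g.F.P) : σ ∈ g.F.P := by
  have hcen : ∀ z ∈ g.F.P, (∀ τ ∈ g.F.P, τ * z = z * τ) → ∀ x y, σ * z * σ⁻¹ ≠ z →
      σ * z * σ⁻¹ = g.F.elP x y false false → cond x (cond y 6 4) (cond y 2 0) = z.support.card := by
    intro z _ _ x y _ e
    rw [← g.supp_central, ← e, support_conj, Finset.card_map]
  have key : ∀ z ∈ g.F.P, (∀ τ ∈ g.F.P, τ * z = z * τ) →
      ∀ x' y', z = g.F.elP x' y' false false → σ * z * σ⁻¹ = z := by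
    intro z hz hc x' y' hz'
    by_contra hne
    have hc' : ∀ τ ∈ g.F.P, τ * (σ * z * σ⁻¹) = σ * z * σ⁻¹ * τ := fun τ hτ => by
      have hm : σ⁻¹ * τ * σ ∈ g.F.P := (h _).2 (by simpa [mul_assoc] using hτ)
      have := hc _ hm
      calc τ * (σ * z * σ⁻¹) = σ * (σ⁻¹ * τ * σ * z) * σ⁻¹ := by group
        _ = σ * (z * (σ⁻¹ * τ * σ)) * σ⁻¹ := by rw [this]
        _ = σ * z * σ⁻¹ * τ := by group
    obtain ⟨x, y, e⟩ := (g.F.central_iff ((h z).1 hz)).1 hc'
    have hs := hcen z hz hc x y hne e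
    rw [hz', g.supp_central] at hs
    refine hne (e.trans (hz'.trans ?_).symm)
    cases x <;> cases y <;> cases x' <;> cases y' <;> simp at hs <;> rfl
  have hb : σ * g.F.b = g.F.b * σ :=
    mul_inv_eq_iff_eq_mul.1 (key _ g.F.b_mem_P g.F.b_central false true (by simp [Frame.elP]))
  have ha : σ * g.F.a = g.F.a * σ :=
    mul_inv_eq_iff_eq_mul.1 (key _ g.F.a_mem_P g.F.a_central true false (by simp [Frame.elP]))
  have he : σ * g.F.e1 * σ⁻¹ = g.F.e1 ∨ σ * g.F.e1 * σ⁻¹ = g.F.e2 := by
    obtain ⟨x, y, i, j, e⟩ := g.F.mem_P.1 ((h _).1 g.F.e1_mem_P)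
    have hs : (g.F.elP x y i j).support.card = 2 := by
      rw [← e, support_conj, Finset.card_map, g.supp_e1]
    have hsq : g.F.elP (i && j) false false false = g.F.elP false false false false := by
      rw [← g.F.sq_elP x y i j, ← e,
        show σ * g.F.e1 * σ⁻¹ * (σ * g.F.e1 * σ⁻¹) = σ * (g.F.e1 * g.F.e1) * σ⁻¹ by group, g.F.e1_sq]
      simp [Frame.elP]
    have hij := (g.F.elP_inj hsq).1
    rcases Bool.eq_false_or_eq_true (i || j) with ht | ht
    · rw [g.supp_noncentral x y i j hij ht] at hs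
      obtain ⟨rfl, rfl⟩ : y = false ∧ i = true := by revert hs; cases y <;> cases i <;> simp
      obtain rfl : j = false := by simpa using hij
      cases x
      · exact Or.inl (by rw [e]; simp [Frame.elP])
      · exact Or.inr (by rw [e, ← g.F.a_mul_e1]; simp [Frame.elP])
    · obtain ⟨rfl, rfl⟩ : i = false ∧ j = false := by simpa using ht
      exfalso
      rw [g.supp_central] at hs
      obtain ⟨rfl, rfl⟩ : x = false ∧ y = true := by revert hs; cases x <;> cases y <;> simp
      rw [show g.F.elP false true false false = g.F.b by simp [Frame.elP], mul_inv_eq_iff_eq_mul, ← hb] at e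
      have := mul_left_cancel e
      rw [show g.F.e1 = g.F.elP false false true false by simp [Frame.elP],
        show g.F.b = g.F.elP false true false false by simp [Frame.elP]] at this
      exact absurd (g.F.elP_inj this).2.1 (by decide)
  obtain ⟨s, hs, hs1⟩ : ∃ s ∈ g.F.P, (s * σ) * g.F.e1 = g.F.e1 * (s * σ) := by
    rcases he with e | e
    · exact ⟨1, one_mem _, by rw [one_mul]; exact mul_inv_eq_iff_eq_mul.1 e⟩
    · refine ⟨g.F.sw, g.F.sw_mem_P, ?_⟩
      rw [mul_assoc, mul_inv_eq_iff_eq_mul.1 e, Frame.e2, ← mul_assoc, ← mul_assoc, ← mul_assoc, g.F.sw_sq,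
        one_mul, mul_assoc]
  have hsb : (s * σ) * g.F.b = g.F.b * (s * σ) := by
    rw [mul_assoc, hb, ← mul_assoc, g.F.b_central s hs, mul_assoc]
  have hsa : (s * σ) * g.F.a = g.F.a * (s * σ) := by
    rw [mul_assoc, ha, ← mul_assoc, g.F.a_central s hs, mul_assoc]
  have hH : s * σ ∈ g.F.H := by
    refine g.F.mem_H'.2 (g.F.centH _ hs1 hsb ?_)
    show s * σ * g.F.e2 = g.F.e2 * (s * σ)
    rw [← g.F.a_mul_e1, ← mul_assoc, hsa, mul_assoc, hs1, ← mul_assoc]
  have := mul_mem (inv_mem hs) (g.F.H_le_P hH)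
  simpa using this

end Geo

end Cfsg.Agent.H67.TwoSym
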