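import Cfsg.Agent.H67.TwoSym.Check
import Mathlib.Tactic.FinCases

/-!
# The finite check for the configuration of six vectors

A linear map permuting the six vectors without fixed points and respecting the commutator form has few singular
fixed vectors, and some invariant functional is one on two or six of them.
-/

set_option autoImplicit false

namespace Cfsg.Agent.H67.TwoSym

/-- The form of the exceptional configuration. -/
abbrev hexC : Coc := cocM true true (true, false) false false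

/-- The six vectors. -/
def hexV : Fin 6 → V
  | 0 => (true, false, false, false, false)
  | 1 => (true, true, false, false, false)
  | 2 => (true, false, true, false, false)
  | 3 => (true, false, false, true, true)
  | 4 => (true, false, true, false, true)
  | 5 => (true, true, false, true, false)

/-- A function on six points. -/
def sixFun {α : Type} (a b c d e f : α) : Fin 6 → α
  | 0 => a
  | 1 => b
  | 2 => c
  | 3 => d
  | 4 => e
  | 5 => f

theorem sixFun_eq {α : Type} (p : Fin 6 → α) : sixFun (p 0) (p 1) (p 2) (p 3) (p 4) (p 5) = p := by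
  funext i; fin_cases i <;> rfl

theorem mem_hexList_iff : ∀ v : V, v ∈ hexList ↔ ∃ i, hexV i = v := by decide

theorem hexV_inj : ∀ i j : Fin 6, hexV i = hexV j → i = j := by decide

/-- Scaling of vectors. -/
def vsmul (x : Bool) (v : V) : V := cond x v (false, false, false, false, false)

/-- The linear map with given values on the six vectors. -/
def combo (f : Fin 6 → V) (v : V) : V :=
  vadd (vsmul v.1 (f 0)) (vadd (vsmul v.2.1 (vadd (f 0) (f 1))) (vadd (vsmul v.2.2.1 (vadd (f 0) (f 2)))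
    (vadd (vsmul v.2.2.2.1 (vadd (f 5) (f 1))) (vsmul v.2.2.2.2 (vadd (f 4) (f 2))))))

theorem combo_hexV : ∀ v : V, combo hexV v = v := by decide

theorem additive_eq_combo {L : V → V} (h : ∀ v w, L (vadd v w) = vadd (L v) (L w)) (v : V) :
    L v = combo (fun i => L (hexV i)) v := by
  have h0 : L (false, false, false, false, false) = (false, false, false, false, false) := by
    have e := h (false, false, false, false, false) (false, false, false, false, false)
    rw [vadd_self, vadd_self] at e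
    exact e
  have hs : ∀ x w, L (vsmul x w) = vsmul x (L w) := fun x w => by cases x; exacts [h0, rfl]
  conv_lhs => rw [← combo_hexV v]
  simp only [combo, h, hs]

/-- The induced map on the four group. -/
def thetaOf (f : Fin 6 → V) (w : W) : W :=
  wadd (wsmul w.1 (hexC.om (f 0) (f 3))) (wsmul w.2 (hexC.om (f 0) (f 5)))

/-- The exponents of the four group. -/
def allW : List W := [(false, false), (true, false), (false, true), (true, true)]

theorem mem_allW : ∀ w : W, w ∈ allW := by decide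

/-- A linear functional given by a mask. -/
def chi (m v : V) : Bool :=
  (m.1 && v.1) ^^ ((m.2.1 && v.2.1) ^^ ((m.2.2.1 && v.2.2.1) ^^ ((m.2.2.2.1 && v.2.2.2.1) ^^
    (m.2.2.2.2 && v.2.2.2.2))))

theorem chi_vadd : ∀ m v w : V, chi m (vadd v w) = (chi m v ^^ chi m w) := by decide +kernel

/-- The map respects the commutator form. -/
def compat (f : Fin 6 → V) : Bool :=
  (List.finRange 6).all fun i => (List.finRange 6).all fun j =>
    hexC.om (f i) (f j) == thetaOf f (hexC.om (hexV i) (hexV j))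

/-- The bound and the functional. -/
def hexGood (f : Fin 6 → V) : Bool :=
  (decide ((allW.filter fun w => thetaOf f w == w).length *
      (allV.filter fun v => combo f v == v && hexC.q v == (false, false)).length < 12)) &&
    (allV.any fun m => (allV.all fun v => chi m (combo f v) == chi m v) &&
      ((hexList.filter fun v => chi m v).length % 4 == 2))

set_option synthInstance.maxSize 4000 in
theorem hexCheck_aux : ∀ i0 : Fin 6, i0 ≠ 0 → ∀ i1 : Fin 6, (i1 ≠ 1 ∧ (i0 = 1 ↔ i1 = 0)) →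
    ∀ i2 : Fin 6, (i2 ≠ 2 ∧ (i0 = 2 ↔ i2 = 0) ∧ (i1 = 2 ↔ i2 = 1)) →
    ∀ i3 : Fin 6, (i3 ≠ 3 ∧ (i0 = 3 ↔ i3 = 0) ∧ (i1 = 3 ↔ i3 = 1) ∧ (i2 = 3 ↔ i3 = 2)) →
    ∀ i4 : Fin 6, (i4 ≠ 4 ∧ (i0 = 4 ↔ i4 = 0) ∧ (i1 = 4 ↔ i4 = 1) ∧ (i2 = 4 ↔ i4 = 2) ∧ (i3 = 4 ↔ i4 = 3)) →
    ∀ i5 : Fin 6, (i5 ≠ 5 ∧ (i0 = 5 ↔ i5 = 0) ∧ (i1 = 5 ↔ i5 = 1) ∧ (i2 = 5 ↔ i5 = 2) ∧ (i3 = 5 ↔ i5 = 3) ∧
      (i4 = 5 ↔ i5 = 4)) →
    compat (fun i => hexV (sixFun i0 i1 i2 i3 i4 i5 i)) = true →
      hexGood (fun i => hexV (sixFun i0 i1 i2 i3 i4 i5 i)) = true := by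
  decide +kernel

theorem hexCheck {p : Fin 6 → Fin 6} (h1 : ∀ i, p i ≠ i) (h2 : ∀ i, p (p i) = i)
    (hc : compat (fun i => hexV (p i)) = true) : hexGood (fun i => hexV (p i)) = true := by
  have hs : ∀ i j, p i = j ↔ p j = i := fun i j =>
    ⟨fun h => by rw [← h, h2], fun h => by rw [← h, h2]⟩
  have h := hexCheck_aux (p 0) (h1 0) (p 1) ⟨h1 1, hs 0 1⟩ (p 2) ⟨h1 2, hs 0 2, hs 1 2⟩
    (p 3) ⟨h1 3, hs 0 3, hs 1 3, hs 2 3⟩ (p 4) ⟨h1 4, hs 0 4, hs 1 4, hs 2 4, hs 3 4⟩
    (p 5) ⟨h1 5, hs 0 5, hs 1 5, hs 2 5, hs 3 5, hs 4 5⟩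
  rw [sixFun_eq p] at h
  exact h hc

end Cfsg.Agent.H67.TwoSym
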