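import Cfsg.Agent.H67.TwoSym.Bfix
import Cfsg.Agent.H67.TwoSym.HexCheck

/-!
# Refuting the exceptional configuration of six vectors

A Sylow 2-subgroup `T` of order `256` acts on the six vectors by a fixed-point-free involution.  No conjugate of `t`
outside the normaliser of `T0` has a centraliser of order `32` in `T`, and the transfer into a quotient of order
four of `T` is then nontrivial.
-/

set_option autoImplicit false
set_option linter.unusedSectionVars false

namespace Cfsg.Agent.H67.TwoSym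

open Subgroup Equiv

theorem wadd_fix_aux : ∀ z z' a b r r' : W, z = wadd r (wadd a r') → z' = wadd r (wadd b r') →
    wadd a b = wadd z z' := by
  decide +kernel

theorem Rel.el_eq_zeta_mul {G : Type*} [Group G] (R : Rel G) (v : V) (z : W) :
    R.el v z = R.zeta z * R.el v (false, false) := by
  rw [Rel.el, Rel.el, R.zeta_zero, one_mul]

theorem Rel.zeta_inj {G : Type*} [Group G] (R : Rel G) (hf : R.Faithful) {a b : W} (h : R.zeta a = R.zeta b) :
    a = b := by
  refine wadd_eq_zero ((R.zeta_eq_one hf _).1 ?_)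
  rw [← R.zeta_add, h, R.zeta_add, wadd_self, R.zeta_zero]

theorem Rel.el_conj_el {G : Type*} [Group G] (R : Rel G) (u v : V) (w z : W) :
    R.el u w * R.el v z * (R.el u w)⁻¹ = R.el v (wadd (R.toCoc.om u v) z) := by
  rw [R.el_comm, mul_assoc, mul_assoc, mul_inv_cancel, mul_one, Rel.el, ← mul_assoc, R.zeta_add, ← Rel.el]

namespace Setup

variable {G : Type*} [Group G] [Finite G] {k : ℕ} (S : Setup G k)

theorem hex_absurd (hM : S.IsMp) (h : S.Hex) : False := by
  classical
  obtain ⟨R, hR, hf, hgrp, hD, hidx⟩ := h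
  set N := (normalizer (S.T0 : Set G) : Subgroup G) with hN
  have : Fact (Nat.Prime 2) := ⟨Nat.prime_two⟩
  have hcN : Nat.card N = 128 := S.Mp_card_N hM
  have hmemN : ∀ g, g ∈ N ↔ ∃ v z, g = R.el v z := fun g => hgrp ▸ R.mem_grp
  have helN : ∀ v z, R.el v z ∈ N := fun v z => (hmemN _).2 ⟨v, z, rfl⟩
  -- a Sylow subgroup of order 256
  obtain ⟨T, hcT, hNT⟩ : ∃ T : Subgroup G, Nat.card T = 256 ∧ N ≤ T := by
    have hd : 2 ^ (7 + 1) ∣ Nat.card G := by
      rw [← N.card_mul_index, hcN]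
      exact ⟨N.index / 2, by omega⟩
    obtain ⟨T, h1, h2⟩ := Sylow.exists_subgroup_card_pow_succ hd (by rw [hcN]; rfl : Nat.card N = 2 ^ 7)
    exact ⟨T, h1.trans (by norm_num), h2⟩
  have hT2 : IsPGroup 2 T := IsPGroup.of_card (n := 8) (by rw [hcT]; rfl)
  have hNidx : (N.subgroupOf T).index = 2 := by
    have h1 := (N.subgroupOf T).card_mul_index
    rw [Nat.card_congr (Subgroup.subgroupOfEquivOfLe hNT).toEquiv, hcN, hcT] at h1
    omega
  have hin : ∀ a ∈ T, ∀ b ∈ T, (a * b ∈ N ↔ (a ∈ N ↔ b ∈ N)) := fun a ha b hb => by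
    simpa [Subgroup.mem_subgroupOf] using
      Subgroup.mul_mem_iff_of_index_two hNidx (a := (⟨a, ha⟩ : T)) (b := ⟨b, hb⟩)
  have hconjN : ∀ a ∈ T, ∀ x ∈ N, a * x * a⁻¹ ∈ N := fun a ha x hx => by
    rw [hin _ (mul_mem ha (hNT hx)) _ (inv_mem ha), hin _ ha _ (hNT hx), inv_mem_iff]
    exact iff_of_eq (by simp [hx])
  obtain ⟨y, hyT, hyN⟩ : ∃ y ∈ T, y ∉ N := by
    by_contra hcon
    push Not at hcon
    have := Subgroup.card_le_of_le (show T ≤ N from fun x hx => hcon x hx)
    omega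
  -- conjugation by `y`
  choose L σ hL using fun v : V => (hmemN _).1 (hconjN y hyT _ (helN v (false, false)))
  have hζconj : ∀ v u, y * R.zeta (R.toCoc.om v u) * y⁻¹ = R.zeta (R.toCoc.om (L v) (L u)) := by
    intro v u
    have e : R.zeta (R.toCoc.om v u)
        = R.el v (false, false) * R.el u (false, false) * (R.el u (false, false) * R.el v (false, false))⁻¹ := by
      rw [R.el_comm, mul_inv_cancel_right]
    rw [e, show y * (R.el v (false, false) * R.el u (false, false) * (R.el u (false, false) * R.el v (false, false))⁻¹)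
        * y⁻¹ = (y * R.el v (false, false) * y⁻¹) * (y * R.el u (false, false) * y⁻¹) *
          ((y * R.el u (false, false) * y⁻¹) * (y * R.el v (false, false) * y⁻¹))⁻¹ by group, hL, hL,
      R.el_comm, mul_inv_cancel_right]
  rw [hR] at hζconj
  set f : Fin 6 → V := fun i => L (hexV i) with hfdef
  set θ := thetaOf f with hθdef
  have hθ : ∀ w, y * R.zeta w * y⁻¹ = R.zeta (θ w) := by
    intro w
    have hs : ∀ x v u, y * R.zeta (wsmul x (hexC.om v u)) * y⁻¹ = R.zeta (wsmul x (hexC.om (L v) (L u))) := by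
      intro x v u
      cases x
      · simp [wsmul, Rel.zeta_zero]
      · simpa [wsmul] using hζconj v u
    have hw : ∀ w : W, w = wadd (wsmul w.1 (hexC.om (hexV 0) (hexV 3))) (wsmul w.2 (hexC.om (hexV 0) (hexV 5))) := by
      decide
    conv_lhs => rw [hw w, ← R.zeta_add, conj_prod, hs, hs, R.zeta_add]
    rfl
  have hθadd : ∀ a b, θ (wadd a b) = wadd (θ a) (θ b) := fun a b => by
    refine R.zeta_inj hf ?_
    rw [← hθ, ← R.zeta_add, conj_prod, hθ, hθ, R.zeta_add]
  have hcompat : ∀ v u, hexC.om (L v) (L u) = θ (hexC.om v u) := fun v u =>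
    R.zeta_inj hf ((hζconj v u).symm.trans (hθ _))
  have hconjel : ∀ v z, y * R.el v z * y⁻¹ = R.el (L v) (wadd (θ z) (σ v)) := fun v z => by
    rw [R.el_eq_zeta_mul, conj_prod, hθ, hL, R.el_eq_zeta_mul (L v) (σ v), ← mul_assoc, R.zeta_add,
      ← R.el_eq_zeta_mul]
  have hLadd : ∀ v u, L (vadd v u) = vadd (L v) (L u) := by
    intro v u
    have h1 := hconjel (vadd v u) (wadd (wadd (false, false) (false, false)) (R.toCoc.beta v u))
    rw [← R.el_mul, conj_prod, hL, hL, R.el_mul] at h1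
    exact (R.el_inj hf h1).1.symm
  have hLcombo : ∀ v, L v = combo f v := additive_eq_combo hLadd
  have hLhex : ∀ v ∈ hexList, L v ∈ hexList := fun v hv => by
    have h1 := S.D_conj y ((hD v (false, false)).2 hv)
    rw [hL] at h1
    exact (hD _ _).1 h1
  choose p hp using fun i => (mem_hexList_iff _).1 (hLhex (hexV i) ((mem_hexList_iff _).2 ⟨i, rfl⟩))
  have hfp : f = fun i => hexV (p i) := funext fun i => (hp i).symm
  obtain ⟨u0, w0, hy2⟩ := (hmemN _).1 ((hin y hyT y hyT).2 Iff.rfl)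
  have hLL : ∀ v, L (L v) = v := by
    intro v
    have h1 : y * (y * R.el v (false, false) * y⁻¹) * y⁻¹
        = R.el u0 w0 * R.el v (false, false) * (R.el u0 w0)⁻¹ := by
      rw [← hy2]; group
    rw [hL, hconjel, R.el_conj_el] at h1
    exact (R.el_inj hf h1).1
  have hp2 : ∀ i, p (p i) = i := fun i => hexV_inj _ _ (by rw [hp, hp, hLL])
  have hp1 : ∀ i, p i ≠ i := by
    intro i hi
    set h := R.el (hexV i) (false, false) with hh
    have hDh : S.D h := (hD _ _).2 ((mem_hexList_iff _).2 ⟨i, rfl⟩)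
    have hLi : L (hexV i) = hexV i := by rw [← hp, hi]
    have hsub : ∀ a : T, ∃ z, (a : G) * h * (a : G)⁻¹ = R.el (hexV i) z := by
      intro a
      by_cases ha : (a : G) ∈ N
      · obtain ⟨u, w, e⟩ := (hmemN _).1 ha
        exact ⟨_, by rw [e, hh, R.el_conj_el]⟩
      · have h1 : (a : G) * y⁻¹ ∈ N := (hin _ a.2 _ (inv_mem hyT)).2 (iff_of_false ha (by rwa [inv_mem_iff]))
        obtain ⟨u, w, e⟩ := (hmemN _).1 h1
        refine ⟨wadd (R.toCoc.om u (hexV i)) (σ (hexV i)), ?_⟩
        rw [show (a : G) * h * (a : G)⁻¹ = (a : G) * y⁻¹ * (y * h * y⁻¹) * ((a : G) * y⁻¹)⁻¹ by group, e, hh, hL,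
          hLi, R.el_conj_el]
    choose zf hzf using hsub
    have := Fintype.ofFinite T
    have hfib : ∀ z ∈ (Finset.univ : Finset T).image zf, ((Finset.univ : Finset T).filter fun a => zf a = z).card ≤ 32 := by
      intro z hz
      obtain ⟨a0, -, rfl⟩ := Finset.mem_image.1 hz
      refine le_trans ?_ (S.card_centralizer_le_of_D hDh hT2)
      rw [← Fintype.card_coe, ← Nat.card_eq_fintype_card]
      have hmem : ∀ a : {a // a ∈ (Finset.univ : Finset T).filter fun a => zf a = zf a0},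
          (a0 : G)⁻¹ * (a.1 : G) ∈ T ⊓ centralizer ({h} : Set G) := by
        intro a
        refine ⟨T.mul_mem (T.inv_mem a0.2) a.1.2, mem_centralizer_singleton_iff.2 ?_⟩
        have e : (a.1 : G) * h * (a.1 : G)⁻¹ = (a0 : G) * h * (a0 : G)⁻¹ := by
          rw [hzf, hzf, (Finset.mem_filter.1 a.2).2]
        calc (a0 : G)⁻¹ * (a.1 : G) * h = (a0 : G)⁻¹ * ((a.1 : G) * h * (a.1 : G)⁻¹) * a.1 := by group
          _ = (a0 : G)⁻¹ * ((a0 : G) * h * (a0 : G)⁻¹) * a.1 := by rw [e]
          _ = h * ((a0 : G)⁻¹ * a.1) := by group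
      refine Nat.card_le_card_of_injective (fun a => (⟨_, hmem a⟩ : (T ⊓ centralizer ({h} : Set G) : Subgroup G))) ?_
      intro a b e
      exact Subtype.ext (Subtype.ext (mul_left_cancel (congrArg Subtype.val e)))
    have h1 := Finset.card_le_mul_card_image (Finset.univ : Finset T) 32 hfib
    rw [Finset.card_univ, ← Nat.card_eq_fintype_card, hcT] at h1
    have h2 : ((Finset.univ : Finset T).image zf).card ≤ 4 := (Finset.card_le_univ _).trans (le_of_eq rfl)
    omega
  have hgood := hexCheck hp1 hp2 (by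
    rw [compat, List.all_eq_true]
    intro i _
    rw [List.all_eq_true]
    intro j _
    simp only [beq_iff_eq, hp, ← hfp]
    exact hcompat _ _)
  rw [← hfp, hexGood, Bool.and_eq_true, decide_eq_true_eq, List.any_eq_true] at hgood
  obtain ⟨hbound, m, -, hm⟩ := hgood
  simp only [Bool.and_eq_true, List.all_eq_true, beq_iff_eq] at hm
  obtain ⟨hminv, hmcount⟩ := hm
  have hχL : ∀ v, chi m (L v) = chi m v := fun v => by rw [hLcombo]; exact hminv v (mem_allV v)
  have hLhexne : ∀ v ∈ hexList, L v ≠ v := fun v hv e => by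
    obtain ⟨i, rfl⟩ := (mem_hexList_iff v).1 hv
    exact hp1 i (hexV_inj _ _ ((hp i).trans e))
  -- conjugates outside `N` have small centralisers
  have hout : ∀ s ∈ T, s ∉ N → S.D s → Nat.card (T ⊓ centralizer ({s} : Set G) : Subgroup G) ≤ 16 := by
    intro s hsT hsN hsD
    have hle := S.card_centralizer_le_of_D hsD hT2
    obtain ⟨n, -, hn⟩ := (Nat.dvd_prime_pow Nat.prime_two).1
      (show Nat.card (T ⊓ centralizer ({s} : Set G) : Subgroup G) ∣ 2 ^ 8 by
        rw [show (2 : ℕ) ^ 8 = 256 by norm_num, ← hcT]; exact Subgroup.card_dvd_of_le inf_le_left)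
    by_contra hgt
    have h32 : Nat.card (T ⊓ centralizer ({s} : Set G) : Subgroup G) = 32 := by
      rw [hn] at hle hgt ⊢
      have h5 : n ≤ 5 := (Nat.pow_le_pow_iff_right (by omega : 1 < 2)).1 (hle.trans (le_of_eq (by norm_num)))
      rcases Nat.lt_or_ge n 5 with h | h
      · exact absurd ((Nat.pow_le_pow_right (by norm_num) (by omega : n ≤ 4)).trans (by norm_num)) hgt
      · rw [show n = 5 by omega]; norm_num
    obtain ⟨g, hg, hgT⟩ := S.transport hsD inf_le_right h32
    obtain ⟨u, w, hu⟩ := (hmemN _).1 ((hin _ hsT _ (inv_mem hyT)).2 (iff_of_false hsN (by rwa [inv_mem_iff])))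
    have hfixeq : ∀ v z, s * R.el v z * s⁻¹ = R.el v z →
        L v = v ∧ z = wadd (hexC.om u (L v)) (wadd (θ z) (σ v)) := by
      intro v z e
      rw [show s * R.el v z * s⁻¹ = s * y⁻¹ * (y * R.el v z * y⁻¹) * (s * y⁻¹)⁻¹ by group, hu, hconjel,
        R.el_conj_el, hR] at e
      obtain ⟨h1, h2⟩ := R.el_inj hf e
      exact ⟨h1, h2.symm⟩
    have hcomm : ∀ a ∈ S.T0, g * a * g⁻¹ ∈ T ∧ s * (g * a * g⁻¹) * s⁻¹ = g * a * g⁻¹ := fun a ha =>
      ⟨((hgT a).1 ha).1, mul_inv_eq_iff_eq_mul.2 (mem_centralizer_singleton_iff.1 ((hgT a).1 ha).2).symm⟩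
    -- the twelve elements
    let F12 : Finset (Bool × Bool × Bool × Bool) := Finset.univ.filter fun q => (q.2.2.1 && q.2.2.2) = false
    have hq : ∀ q : {q // q ∈ F12}, ∃ v z, g * S.e false q.1.1 q.1.2.1 q.1.2.2.1 q.1.2.2.2 * g⁻¹ = R.el v z ∧
        hexC.q v = (false, false) ∧ L v = v ∧ z = wadd (hexC.om u (L v)) (wadd (θ z) (σ v)) := by
      intro ⟨⟨a, b, i, j⟩, hmem⟩
      have hij : (i && j) = false := (Finset.mem_filter.1 hmem).2
      set x0 := g * S.e false a b i j * g⁻¹ with hx0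
      have hx0T := hcomm _ (S.e_mem false a b i j)
      have hxN : x0 ∈ N := by
        have h1 := hcomm _ (S.e_mem true a b i j)
        have hnot : g * S.e true a b i j * g⁻¹ ∉ N := fun hc => by
          obtain ⟨v, z, e⟩ := (hmemN _).1 hc
          have hv : v ∈ hexList := (hD v z).1 (e ▸ S.D_conj g ((S.D_e_iff_Mp hM ..).2 ⟨rfl, hij⟩))
          exact hLhexne v hv (hfixeq v z (e ▸ h1.2)).1
        have e : x0 = g * S.e true a b i j * g⁻¹ * s := by
          rw [hx0, ← hg, ← S.e_t, ← conj_prod, S.e_mul]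
          simp
        rw [e]
        exact (hin _ h1.1 _ hsT).2 (iff_of_false hnot hsN)
      obtain ⟨v, z, e⟩ := (hmemN _).1 hxN
      refine ⟨v, z, e, ?_, hfixeq v z (e ▸ hx0T.2)⟩
      have hsq : R.el v z * R.el v z = 1 := by
        rw [← e, hx0, ← conj_prod, (S.e_sq_eq_one_iff ..).2 hij]; group
      have h := (R.sq_eq_one_iff hf v z).1 hsq
      rw [hR] at h
      exact h
    choose vf zf hel hq0 hLv hz using hq
    let Sv := (allV.filter fun v => combo f v == v && hexC.q v == (false, false)).toFinset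
    let Wf := (allW.filter fun w => thetaOf f w == w).toFinset
    have hfib : ∀ v ∈ (Finset.univ : Finset {q // q ∈ F12}).image vf,
        ((Finset.univ : Finset {q // q ∈ F12}).filter fun q => vf q = v).card ≤ Wf.card := by
      intro v hv
      obtain ⟨q0, -, rfl⟩ := Finset.mem_image.1 hv
      refine Finset.card_le_card_of_injOn (fun q => wadd (zf q) (zf q0)) (fun q hq => ?_) ?_
      · have hvq : vf q = vf q0 := (Finset.mem_filter.1 hq).2
        have h1 := hz q
        rw [hvq] at h1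
        refine List.mem_toFinset.2 (List.mem_filter.2 ⟨mem_allW _, beq_iff_eq.2 ?_⟩)
        show θ _ = _
        rw [hθadd]
        exact wadd_fix_aux _ _ _ _ _ _ h1 (hz q0)
      · intro q hq q' hq' e
        have hvq : vf q = vf q' := (Finset.mem_filter.1 hq).2.trans (Finset.mem_filter.1 hq').2.symm
        have hzq : zf q = zf q' := by
          have : ∀ a b c : W, wadd a c = wadd b c → a = b := by decide
          exact this _ _ _ e
        have h1 : g * S.e false q.1.1 q.1.2.1 q.1.2.2.1 q.1.2.2.2 * g⁻¹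
            = g * S.e false q'.1.1 q'.1.2.1 q'.1.2.2.1 q'.1.2.2.2 * g⁻¹ := by rw [hel, hel, hvq, hzq]
        obtain ⟨-, h2, h3, h4, h5⟩ := S.e_inj (mul_left_cancel (mul_right_cancel h1))
        exact Subtype.ext (Prod.ext h2 (Prod.ext h3 (Prod.ext h4 h5)))
    have h1 := Finset.card_le_mul_card_image _ _ hfib
    have h2 : ((Finset.univ : Finset {q // q ∈ F12}).image vf).card ≤ Sv.card := by
      refine Finset.card_le_card fun v hv => ?_
      obtain ⟨q, -, rfl⟩ := Finset.mem_image.1 hv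
      refine List.mem_toFinset.2 (List.mem_filter.2 ⟨mem_allV _, ?_⟩)
      rw [Bool.and_eq_true, beq_iff_eq, beq_iff_eq, ← hLcombo]
      exact ⟨hLv q, hq0 q⟩
    have h12 : (Finset.univ : Finset {q // q ∈ F12}).card = 12 := by
      rw [Finset.card_univ, Fintype.card_coe]; decide
    have h3 := Nat.mul_le_mul (List.toFinset_card_le (l := allW.filter fun w => thetaOf f w == w))
      (List.toFinset_card_le (l := allV.filter fun v => combo f v == v && hexC.q v == (false, false)))
    have h4 : Wf.card * ((Finset.univ : Finset {q // q ∈ F12}).image vf).card ≤ Wf.card * Sv.card :=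
      Nat.mul_le_mul_left _ h2
    have : Wf.card * Sv.card < 12 := lt_of_le_of_lt h3 hbound
    omega
  -- the quotient of order four
  obtain ⟨φN, hφN⟩ := hom_of_coord hf (chi m) (chi_vadd m)
  obtain ⟨v1, hv1, hv1χ⟩ : ∃ v1 ∈ hexList, chi m v1 = true := by
    by_contra hcon
    push Not at hcon
    rw [List.filter_eq_nil_iff.2 (fun v hv => by simp [hcon v hv])] at hmcount
    simp at hmcount
  let M : Subgroup G := φN.ker.map R.grp.subtype
  have hMN : M ≤ N := by
    rintro _ ⟨⟨x, hx⟩, -, rfl⟩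
    exact hgrp ▸ hx
  have hMel : ∀ v z, R.el v z ∈ M ↔ chi m v = false := by
    intro v z
    constructor
    · rintro ⟨⟨x, hx⟩, hker, e⟩
      change x = R.el v z at e
      subst e
      have h1 : φN ⟨R.el v z, hx⟩ = 1 := hker
      rw [hφN] at h1
      cases hc : chi m v
      · rfl
      · rw [hc] at h1; exact absurd h1 (by decide)
    · intro hc
      exact ⟨⟨_, R.el_mem v z⟩, by show φN _ = 1; rw [hφN, hc]; rfl, rfl⟩
  have hcM : Nat.card M = 64 := by
    have h1 : φN.ker.index = 2 := by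
      rw [Subgroup.index_ker, MonoidHom.range_eq_top.2 (fun u => ?_)]
      · simp
      · rcases Int.units_eq_one_or u with rfl | rfl
        · exact ⟨1, map_one _⟩
        · exact ⟨⟨_, R.el_mem v1 (false, false)⟩, by rw [hφN, hv1χ]; rfl⟩
    have h2 := φN.ker.card_mul_index
    rw [h1, R.card_grp hf] at h2
    rw [← Nat.card_congr (φN.ker.equivMapOfInjective _ Subtype.val_injective).toEquiv]
    omega
  have hMT : M ≤ T := hMN.trans hNT
  have hnorm : (M.subgroupOf T).Normal := by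
    refine ⟨fun x hx a => ?_⟩
    obtain ⟨v, z, e⟩ := (hmemN _).1 (hMN (Subgroup.mem_subgroupOf.1 hx))
    rw [Subgroup.mem_subgroupOf, e, hMel] at hx
    rw [Subgroup.mem_subgroupOf, Subgroup.coe_mul, Subgroup.coe_mul, InvMemClass.coe_inv, e]
    by_cases ha : (a : G) ∈ N
    · obtain ⟨u, w, ea⟩ := (hmemN _).1 ha
      rw [ea, R.el_conj_el, hMel]; exact hx
    · obtain ⟨u, w, ea⟩ := (hmemN _).1 ((hin _ a.2 _ (inv_mem hyT)).2 (iff_of_false ha (by rwa [inv_mem_iff])))
      rw [show (a : G) * R.el v z * (a : G)⁻¹ = (a : G) * y⁻¹ * (y * R.el v z * y⁻¹) * ((a : G) * y⁻¹)⁻¹ by group,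
        ea, hconjel, R.el_conj_el, hMel, hχL]
      exact hx
  have hcQ : Nat.card (T ⧸ M.subgroupOf T) = 2 ^ 2 := by
    have h1 := (M.subgroupOf T).card_mul_index
    rw [Nat.card_congr (Subgroup.subgroupOfEquivOfLe hMT).toEquiv, hcM, hcT] at h1
    rw [← Subgroup.index_eq_card]
    omega
  have hQc : ∀ a b : T ⧸ M.subgroupOf T, a * b = b * a :=
    (IsPGroup.isMulCommutative_of_card_eq_prime_sq hcQ).is_comm.comm
  letI : CommGroup (T ⧸ M.subgroupOf T) := { (inferInstance : Group (T ⧸ M.subgroupOf T)) with mul_comm := hQc }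
  have hQ2 : IsPGroup 2 (T ⧸ M.subgroupOf T) := IsPGroup.of_card (n := 2) hcQ
  let φ : T →* T ⧸ M.subgroupOf T := QuotientGroup.mk' _
  let P : G → T ⧸ M.subgroupOf T := fun x => if hx : x ∈ T then φ ⟨x, hx⟩ else 1
  have hPdef : ∀ x (hx : x ∈ T), P x = φ ⟨x, hx⟩ := fun x hx => dif_pos hx
  have hPeq : ∀ x (hx : x ∈ T) z (hz : z ∈ T), (P x = P z ↔ x⁻¹ * z ∈ M) := by
    intro x hx z hz
    rw [hPdef x hx, hPdef z hz]
    show ((⟨x, hx⟩ : T) : T ⧸ M.subgroupOf T) = (⟨z, hz⟩ : T) ↔ _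
    rw [QuotientGroup.eq]
    exact Subgroup.mem_subgroupOf
  have hPone : ∀ v z, chi m v = false → P (R.el v z) = 1 := by
    intro v z hv
    rw [hPdef _ (hNT (helN v z))]
    exact (QuotientGroup.eq_one_iff _).2 (Subgroup.mem_subgroupOf.2 ((hMel v z).2 hv))
  set γ := P (R.el v1 (false, false)) with hγ
  have hPγ : ∀ v z, chi m v = true → P (R.el v z) = γ := by
    intro v z hv
    rw [hγ, eq_comm, hPeq _ (hNT (helN v1 (false, false))) _ (hNT (helN v z))]
    have e : (R.el v1 (false, false))⁻¹ = R.el v1 (false, false) := inv_eq_of_mul_eq_one_right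
      (S.D_sq ((hD v1 (false, false)).2 hv1))
    rw [e, R.el_mul, hMel, chi_vadd, hv1χ, hv]
    rfl
  have hγout : ∀ x ∈ T, P x = γ → x ∈ N := fun x hx e => by
    have h1 := hMN ((hPeq _ (hNT (helN v1 (false, false))) x hx).1 e.symm)
    simpa using mul_mem (helN v1 (false, false)) h1
  have h1out : ∀ x ∈ T, P x = 1 → x ∈ N := fun x hx e => by
    rw [hPdef x hx] at e
    exact hMN (Subgroup.mem_subgroupOf.1 ((QuotientGroup.eq_one_iff _).1 e))
  have hγ1 : γ ≠ 1 := by
    intro e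
    rw [hγ, hPdef _ (hNT (helN v1 (false, false)))] at e
    have h1 := (hMel _ _).1 (Subgroup.mem_subgroupOf.1 ((QuotientGroup.eq_one_iff _).1 e))
    rw [hv1χ] at h1
    exact Bool.noConfusion h1
  have := Fintype.ofFinite (T ⧸ M.subgroupOf T)
  obtain ⟨mc, hmc, hprod⟩ := transfer_parts S.hno S.t_sq T hQ2 φ P (fun a ha x hx _ => by
      rw [hPdef _ (mul_mem (mul_mem (inv_mem ha) hx) ha), hPdef x hx,
        show (⟨a⁻¹ * x * a, mul_mem (mul_mem (inv_mem ha) hx) ha⟩ : T) = ⟨a, ha⟩⁻¹ * ⟨x, hx⟩ * ⟨a, ha⟩ from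
          Subtype.ext rfl, map_mul, map_mul, map_inv, mul_right_comm, inv_mul_cancel, one_mul])
    id (fun x hx _ => (hPdef x hx).symm)
  -- the parts other than `γ` vanish
  have hother : ∀ i, i ≠ γ → i ^ mc i = 1 := by
    intro i hi
    by_cases hi1 : i = 1
    · rw [hi1, one_pow]
    have hset : ∀ x, ((x ∈ T ∧ P x = i) ∧ IsConj S.t x) → x ∉ N := by
      rintro x ⟨⟨hx, hPx⟩, hxD⟩ hxN
      obtain ⟨v, z, rfl⟩ := (hmemN x).1 hxN
      cases hc : chi m v
      · exact hi1 (hPx.symm.trans (hPone v z hc))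
      · exact hi (hPx.symm.trans (hPγ v z hc))
    have h16 : 2 ^ 4 ∣ Nat.card {x : G // (x ∈ T ∧ P x = i) ∧ IsConj S.t x} := by
      refine two_pow_dvd_card (K := T) (e := 8) (j := 4) (by rw [hcT]; rfl)
        {x : G | (x ∈ T ∧ P x = i) ∧ IsConj S.t x} (fun a ha x hx => ?_) (fun x hx => ?_) (by norm_num)
      · obtain ⟨⟨hxT, hPx⟩, hxD⟩ := hx
        refine ⟨⟨mul_mem (mul_mem ha hxT) (inv_mem ha), ?_⟩, S.D_conj a hxD⟩
        rw [hPdef _ (mul_mem (mul_mem ha hxT) (inv_mem ha)), ← hPx, hPdef x hxT,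
          show (⟨a * x * a⁻¹, mul_mem (mul_mem ha hxT) (inv_mem ha)⟩ : T) = ⟨a, ha⟩ * ⟨x, hxT⟩ * ⟨a, ha⟩⁻¹ from
            Subtype.ext rfl, map_mul, map_mul, map_inv, mul_right_comm, mul_inv_cancel, one_mul]
      · exact hout x hx.1.1 (hset x hx) hx.2
    obtain ⟨c, hc⟩ := h16
    have h2 := hmc i
    rw [hc, hcT, S.card_C] at h2
    rcases Nat.eq_zero_or_pos c with rfl | hpos
    · rw [show mc i = 0 by omega, pow_zero]
    · have hne : Nonempty {x : G // (x ∈ T ∧ P x = i) ∧ IsConj S.t x} :=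
        (Nat.card_pos_iff.1 (by omega : 0 < Nat.card {x : G // (x ∈ T ∧ P x = i) ∧ IsConj S.t x})).1
      obtain ⟨⟨x, ⟨hxT, hPx⟩, hxD⟩⟩ := hne
      have hsq : i * i = 1 := by
        rw [← hPx, hPdef x hxT, ← map_mul, show (⟨x, hxT⟩ : T) * ⟨x, hxT⟩ = 1 from Subtype.ext (S.D_sq hxD), map_one]
      rw [show mc i = 2 * (S.geo.κ * c) by nlinarith, pow_mul, pow_two, hsq, one_pow]
  simp only [id] at hprod
  rw [Finset.prod_eq_single γ (fun i _ hi => hother i hi) (by simp)] at hprod
  have hcardγ : Nat.card {x : G // (x ∈ T ∧ P x = γ) ∧ IsConj S.t x}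
      = (hexList.filter fun v => chi m v).length * 4 := by
    have e4 : (4 : ℕ) = Nat.card W := by rw [Nat.card_eq_fintype_card]; rfl
    have el : (hexList.filter fun v => chi m v).length = Nat.card {v : V // v ∈ hexList.filter fun v => chi m v} := by
      rw [Nat.card_eq_fintype_card, Fintype.card_of_subtype (hexList.filter fun v => chi m v).toFinset
        (fun v => List.mem_toFinset), List.toFinset_card_of_nodup ((by decide : hexList.Nodup).filter _)]
    rw [el, e4, ← Nat.card_prod]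
    refine (Nat.card_congr (Equiv.ofBijective (fun q : {v : V // v ∈ hexList.filter fun v => chi m v} × W =>
      (⟨R.el q.1.1 q.2, ⟨hNT (helN _ _), hPγ _ _ (by simpa using (List.mem_filter.1 q.1.2).2)⟩,
        (hD _ _).2 (List.mem_filter.1 q.1.2).1⟩ : {x : G // (x ∈ T ∧ P x = γ) ∧ IsConj S.t x})) ⟨?_, ?_⟩)).symm
    · rintro ⟨⟨v, hv⟩, z⟩ ⟨⟨v', hv'⟩, z'⟩ e
      obtain ⟨rfl, rfl⟩ := R.el_inj hf (congrArg Subtype.val e)
      rfl
    · rintro ⟨x, ⟨hxT, hPx⟩, hxD⟩
      obtain ⟨v, z, rfl⟩ := (hmemN x).1 (hγout x hxT hPx)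
      have hv : v ∈ hexList := (hD v z).1 hxD
      refine ⟨(⟨v, List.mem_filter.2 ⟨hv, ?_⟩⟩, z), rfl⟩
      by_contra hc
      have hc' : chi m v = false := by simpa using hc
      exact hγ1 (hPx.symm.trans (hPone v z hc'))
  have h2 := hmc γ
  rw [hcardγ, hcT, S.card_C] at h2
  obtain ⟨e, he⟩ : ∃ e, (hexList.filter fun v => chi m v).length = 4 * e + 2 :=
    ⟨(hexList.filter fun v => chi m v).length / 4, by omega⟩
  rw [he] at h2
  have hγsq : γ * γ = 1 := by
    rw [hγ, hPdef _ (hNT (helN v1 (false, false))), ← map_mul,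
      show (⟨R.el v1 (false, false), hNT (helN v1 (false, false))⟩ : T) * ⟨_, hNT (helN v1 (false, false))⟩ = 1 from
        Subtype.ext (S.D_sq ((hD v1 (false, false)).2 hv1)), map_one]
  have hodd : mc γ = S.geo.κ * (2 * e + 1) := by nlinarith
  obtain ⟨d, hd⟩ := S.geo.κ_odd
  rw [show mc γ = 2 * (2 * d * e + d + e) + 1 by rw [hodd, hd]; ring, pow_succ, pow_mul, pow_two, hγsq, one_pow,
    one_mul] at hprod
  exact hγ1 hprod

end Setup

end Cfsg.Agent.H67.TwoSym
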