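import Cfsg.Agent.H67.TwoSym.KillBase

/-!
# Refuting a Sylow 2-subgroup of order at least `2⁹`
-/

set_option autoImplicit false
set_option linter.unusedSectionVars false
set_option linter.unusedSimpArgs false
set_option linter.unusedTactic false
set_option linter.unreachableTactic false

namespace Cfsg.Agent.H67.TwoSym

open Subgroup Equiv

/-- The orbit decompositions of the translations with conjugates. -/
theorem orbit_choices : ∀ o₁ o₂ o₃ u₂ u₃ : Bool, (o₂ → u₂) → (o₃ → u₃) →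
    (4 + cond u₂ 1 0 + cond u₃ 3 0) % 2 = 0 →
    (cond o₁ 3 0 + cond o₂ 1 0 + cond o₃ 3 0 : ℕ) ≠ 0 →
    (o₁ = false ∧ o₂ = true ∧ o₃ = false) ∨
    ((1 + cond o₁ 3 0 + cond o₂ 1 0 + cond o₃ 3 0) % 4 = 0) ∨
    (((1 + cond o₁ 3 0 + cond o₂ 1 0 + cond o₃ 3 0) = 5 ∨ (1 + cond o₁ 3 0 + cond o₂ 1 0 + cond o₃ 3 0) = 7) ∧
      u₂ = true ∧ u₃ = true) := by
  decide

namespace Setup

variable {G : Type*} [Group G] [Finite G] {k : ℕ} (S : Setup G k)

theorem kill (hM : S.IsMp) {Fr : Frame k} (hFr : Fr = S.F ∨ Fr = S.geo.F') (h512 : 512 ∣ Nat.card G)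
    (hside : S.Side Fr) : False := by
  classical
  obtain ⟨⟨w, hwN, hwD, hwt, hwe⟩, hout⟩ := hside
  have hP := S.frame_P hFr
  have hF := S.Mp_fix hM
  set H := S.HH Fr with hH
  set A := (centralizer (H : Set G) ⊓ normalizer (S.P1 Fr : Set G) : Subgroup G) with hA
  set a0 := S.el false Fr.a with ha0
  set b0 := S.el false Fr.b with hb0
  set e0 := S.el false Fr.e1 with he0
  have hgen : ∀ g : G, g * a0 = a0 * g → g * b0 = b0 * g → g * e0 = e0 * g → g ∈ centralizer (H : Set G) := by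
    intro g h1 h2 h3
    rw [mem_centralizer_iff]
    intro z hz
    obtain ⟨σ, hσ, rfl⟩ := S.mem_HH.1 hz
    obtain ⟨x, y, i, rfl⟩ := Fr.mem_H'.1 hσ
    have hz' : S.el false (cond x Fr.a 1 * cond y Fr.b 1 * cond i Fr.e1 1)
        = cond x a0 1 * cond y b0 1 * cond i e0 1 := by
      cases x <;> cases y <;> cases i <;> simp [ha0, hb0, he0, S.el_mul, S.el_one]
    rw [hz']
    have c1 : Commute g (cond x a0 1) := by cases x; exacts [Commute.one_right g, h1]
    have c2 : Commute g (cond y b0 1) := by cases y; exacts [Commute.one_right g, h2]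
    have c3 : Commute g (cond i e0 1) := by cases i; exacts [Commute.one_right g, h3]
    exact ((c1.mul_right c2).mul_right c3).eq.symm
  have hP1H : ∀ x ∈ S.P1 Fr, ∃ p, ∃ z ∈ H, x = cond p S.t 1 * z := by
    rintro _ ⟨p, σ, hσ, rfl⟩
    exact ⟨p, S.el false σ, S.el_mem_HH hσ, by simp [Setup.el]⟩
  have hHP1 : ∀ z ∈ H, z ∈ S.P1 Fr := fun z hz => by
    obtain ⟨σ, hσ, rfl⟩ := S.mem_HH.1 hz
    exact ⟨false, σ, hσ, rfl⟩
  have htP1 : S.t ∈ S.P1 Fr := ⟨true, 1, one_mem _, S.el_t.symm⟩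
  have hnormP : ∀ g : G, g * S.t * g⁻¹ ∈ S.P1 Fr → (∀ z ∈ H, g * z * g⁻¹ ∈ H) →
      g ∈ normalizer (S.P1 Fr : Set G) := by
    intro g h1 h2
    refine mem_normalizer_of_le fun x hx => ?_
    obtain ⟨p, z, hz, rfl⟩ := hP1H x hx
    rw [conj_prod]
    refine mul_mem ?_ (hHP1 _ (h2 z hz))
    cases p
    · rw [cond_false, mul_one, mul_inv_cancel]; exact one_mem _
    · exact h1
  have hcentH : ∀ g ∈ centralizer (H : Set G), ∀ z ∈ H, g * z * g⁻¹ = z := fun g hg z hz =>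
    mul_inv_eq_iff_eq_mul.2 (mem_centralizer_iff.1 hg z hz).symm
  have hmemA : ∀ g : G, g ∈ centralizer (H : Set G) → g * S.t * g⁻¹ ∈ S.P1 Fr → g ∈ A := fun g h1 h2 =>
    ⟨h1, hnormP g h2 fun z hz => (hcentH g h1 z hz).symm ▸ hz⟩
  have hP1_cent : ∀ x ∈ S.P1 Fr, x ∈ centralizer (H : Set G) := by
    rintro _ ⟨p, σ, hσ, rfl⟩
    rw [mem_centralizer_iff]
    intro z hz
    obtain ⟨τ, hτ, rfl⟩ := S.mem_HH.1 hz
    rw [S.el_mul, S.el_mul, Fr.H_comm hσ hτ, Bool.xor_comm]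
  have hP1A : S.P1 Fr ≤ A := fun x hx => ⟨hP1_cent x hx, le_normalizer hx⟩
  -- the translation
  have htr : ∀ g : A, ∃ σ ∈ Fr.H, (g : G) * S.t * (g : G)⁻¹ = S.el true σ := by
    intro g
    obtain ⟨p, σ, hσ, e⟩ := (mem_normalizer_iff.1 g.2.2 S.t).1 htP1
    refine ⟨σ, hσ, ?_⟩
    obtain ⟨rfl, -⟩ := (S.D_el_iff_Mp hM p σ).1 (e ▸ S.D_conj _ S.D_t)
    exact e
  choose φf hφH hφe using htr
  have hfix : ∀ g : A, ∀ σ ∈ Fr.H, (g : G) * S.el false σ * (g : G)⁻¹ = S.el false σ := fun g σ hσ =>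
    hcentH g g.2.1 _ (S.el_mem_HH hσ)
  let φ : A →* Perm (Fin k) := MonoidHom.mk' φf fun g h => by
    have h1 : ((g * h : A) : G) * S.t * ((g * h : A) : G)⁻¹ = S.el true (φf g * φf h) := by
      rw [Subgroup.coe_mul, show (g : G) * h * S.t * ((g : G) * h)⁻¹
        = (g : G) * ((h : G) * S.t * (h : G)⁻¹) * (g : G)⁻¹ by group, hφe h,
        show S.el true (φf h) = S.t * S.el false (φf h) by rw [← S.el_t, S.el_mul, one_mul]; rfl,
        conj_prod, hφe g, hfix g _ (hφH h), S.el_mul]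
      rfl
    exact (S.el_inj ((hφe _).symm.trans h1)).2
  have hφt : ∀ g : A, (g : G) * S.t * (g : G)⁻¹ = S.el true (φ g) := hφe
  have hφmem : ∀ g : A, φ g ∈ Fr.H := hφH
  have hker : ∀ g : A, φ g = 1 ↔ (g : G) ∈ S.P1 Fr := by
    intro g
    constructor
    · intro h
      have h1 : (g : G) * S.t = S.t * g := by
        refine mul_inv_eq_iff_eq_mul.1 ?_
        rw [hφt, h, S.el_t]
      obtain ⟨p, σ, e⟩ := S.mem_C _ h1
      change (g : G) = S.el p σ at e
      refine ⟨p, σ, Fr.mem_H_of_commute fun τ hτ => ?_, e⟩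
      have h2 := mem_centralizer_iff.1 g.2.1 _ (S.el_mem_HH hτ)
      rw [e, S.el_mul, S.el_mul] at h2
      exact (S.el_inj h2).2.symm
    · rintro ⟨p, σ, hσ, e⟩
      have h1 := hφt g
      rw [e, S.el_comm_t, mul_assoc, mul_inv_cancel, mul_one, ← S.el_t] at h1
      exact (S.el_inj h1).2.symm
  -- the element of order three of the stabiliser
  set ρ0 := S.el false Fr.ρ with hρ0
  have hρt : ρ0 * S.t * ρ0⁻¹ = S.t := mul_inv_eq_iff_eq_mul.2 (S.el_comm_t _ _)
  have hρ1 : Fr.ρ * Fr.e1 * Fr.ρ⁻¹ = Fr.e2 := by rw [mul_inv_eq_iff_eq_mul]; exact Fr.ρ_e1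
  have hρ2 : Fr.ρ * Fr.b * Fr.ρ⁻¹ = Fr.e1 := by rw [mul_inv_eq_iff_eq_mul]; exact Fr.ρ_b
  have hρ3 : Fr.ρ * Fr.a * Fr.ρ⁻¹ = Fr.e2 * Fr.b := by rw [mul_inv_eq_iff_eq_mul]; exact Fr.ρ_a
  have hρH : ∀ σ ∈ Fr.H, Fr.ρ * σ * Fr.ρ⁻¹ ∈ Fr.H := by
    intro σ hσ
    obtain ⟨x, v, i, rfl⟩ := Fr.mem_H'.1 hσ
    rw [conj_prod, conj_prod]
    refine mul_mem (mul_mem ?_ ?_) ?_
    · cases x
      · simp only [cond_false, mul_one, mul_inv_cancel]; exact one_mem _
      · rw [cond_true, hρ3]; exact mul_mem Fr.e2_mem_H Fr.b_mem_H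
    · cases v
      · simp only [cond_false, mul_one, mul_inv_cancel]; exact one_mem _
      · rw [cond_true, hρ2]; exact Fr.e1_mem_H
    · cases i
      · simp only [cond_false, mul_one, mul_inv_cancel]; exact one_mem _
      · rw [cond_true, hρ1]; exact Fr.e2_mem_H
  have hρHH : ∀ z ∈ H, ρ0 * z * ρ0⁻¹ ∈ H := by
    intro z hz
    obtain ⟨σ, hσ, rfl⟩ := S.mem_HH.1 hz
    rw [S.el_conj]; exact S.el_mem_HH (hρH σ hσ)
  -- elements normalising `H` and `P1` normalise `A`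
  have hstabA : ∀ g : G, g ∈ normalizer (H : Set G) → g ∈ normalizer (S.P1 Fr : Set G) →
      g ∈ normalizer (A : Set G) := by
    intro g hgH hgP
    refine mem_normalizer_of_le fun x hx => ⟨mem_centralizer_iff.2 fun z hz => ?_, ?_⟩
    · have hz' : g⁻¹ * z * g ∈ H := (mem_normalizer_iff.1 hgH _).2 (by
        rwa [show g * (g⁻¹ * z * g) * g⁻¹ = z by group])
      have h := mem_centralizer_iff.1 hx.1 _ hz'
      calc z * (g * x * g⁻¹) = g * (g⁻¹ * z * g * x) * g⁻¹ := by group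
        _ = g * (x * (g⁻¹ * z * g)) * g⁻¹ := by rw [h]
        _ = g * x * g⁻¹ * z := by group
    · exact (normalizer (S.P1 Fr : Set G)).mul_mem ((normalizer (S.P1 Fr : Set G)).mul_mem hgP hx.2)
        ((normalizer (S.P1 Fr : Set G)).inv_mem hgP)
  have hρN : ρ0 ∈ normalizer (H : Set G) := mem_normalizer_of_le hρHH
  have hρP : ρ0 ∈ normalizer (S.P1 Fr : Set G) := hnormP _ (hρt.symm ▸ htP1) hρHH
  have hρA := hstabA _ hρN hρP
  have hsplit : ∀ σ : Perm (Fin k), S.el true σ = S.t * S.el false σ := fun σ => by simp [Setup.el]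
  have hρφ : ∀ (g : G) (hg : g ∈ A) (hg' : ρ0 * g * ρ0⁻¹ ∈ A),
      φ ⟨_, hg'⟩ = Fr.ρ * φ ⟨g, hg⟩ * Fr.ρ⁻¹ := by
    intro g hg hg'
    have h := hφt ⟨_, hg'⟩
    change ρ0 * g * ρ0⁻¹ * S.t * (ρ0 * g * ρ0⁻¹)⁻¹ = _ at h
    rw [show ρ0 * g * ρ0⁻¹ * S.t * (ρ0 * g * ρ0⁻¹)⁻¹ = ρ0 * (g * (ρ0⁻¹ * S.t * ρ0) * g⁻¹) * ρ0⁻¹ by group,
      show ρ0⁻¹ * S.t * ρ0 = S.t by rw [mul_assoc, ← S.el_comm_t, inv_mul_cancel_left],
      show g * S.t * g⁻¹ = S.el true (φ ⟨g, hg⟩) from hφt ⟨g, hg⟩,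
      show ρ0 * S.el true (φ ⟨g, hg⟩) * ρ0⁻¹ = S.el true (Fr.ρ * φ ⟨g, hg⟩ * Fr.ρ⁻¹) from S.el_conj _ _ _ _] at h
    exact (S.el_inj h).2.symm
  have hwA : w ∈ A := by
    have hz : ∀ x y, w * S.el false (Fr.elP x y false false) = S.el false (Fr.elP x y false false) * w := by
      intro x y
      obtain ⟨x', y', e⟩ := S.frame_center hFr x y
      rw [e]; exact mul_inv_eq_iff_eq_mul.1 (hF w hwN x' y')
    refine hmemA w (hgen w ?_ ?_ hwe) ?_
    · rw [ha0, ← Fr.elP_a]; exact hz ..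
    · rw [hb0, ← Fr.elP_b]; exact hz ..
    · rw [hwt]; exact ⟨true, Fr.b, Fr.b_mem_H, rfl⟩
  have hφw : φ ⟨w, hwA⟩ = Fr.b := (S.el_inj ((hφt ⟨w, hwA⟩).symm.trans hwt)).2
  have hcardA : Nat.card A = 128 := by
    have hw1 : ρ0 * w * ρ0⁻¹ ∈ A := (mem_normalizer_iff.1 hρA w).1 hwA
    have hw2 : ρ0 * (ρ0 * w * ρ0⁻¹) * ρ0⁻¹ ∈ A := (mem_normalizer_iff.1 hρA _).1 hw1
    have he1r : Fr.e1 ∈ φ.range := ⟨⟨_, hw1⟩, by rw [hρφ w hwA hw1, hφw, hρ2]⟩
    have he2r : Fr.e2 ∈ φ.range := ⟨⟨_, hw2⟩, by rw [hρφ _ hw1 hw2, hρφ w hwA hw1, hφw, hρ2, hρ1]⟩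
    have hbr : Fr.b ∈ φ.range := ⟨⟨w, hwA⟩, hφw⟩
    have hrange : φ.range = Fr.H := by
      refine le_antisymm (by rintro _ ⟨g, rfl⟩; exact hφmem g) fun σ hσ => ?_
      obtain ⟨x, y, i, rfl⟩ := Fr.mem_H'.1 hσ
      refine mul_mem (mul_mem ?_ ?_) ?_
      · cases x
        · exact one_mem _
        · rw [cond_true, Fr.a_eq]; exact mul_mem he2r he1r
      · cases y
        exacts [one_mem _, hbr]
      · cases i
        exacts [one_mem _, he1r]
    have hkereq : φ.ker = (S.P1 Fr).subgroupOf A := by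
      ext g; rw [MonoidHom.mem_ker, hker, Subgroup.mem_subgroupOf]
    have h2 : φ.ker.index = 8 := by rw [Subgroup.index_ker, hrange, Fr.card_H]
    have h1 := φ.ker.card_mul_index
    rw [h2, hkereq, Nat.card_congr (Subgroup.subgroupOfEquivOfLe hP1A).toEquiv, S.card_P1] at h1
    omega
  -- the translations of conjugates
  let U : Finset (Perm (Fin k)) := Finset.univ.filter fun h => ∃ y : A, S.D (y : G) ∧ φ y = h
  have hUmem : ∀ h, h ∈ U ↔ ∃ y : A, S.D (y : G) ∧ φ y = h := fun h => by simp [U]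
  have hUsub : ∀ h ∈ U, h ∈ Fr.H := fun h hh => by
    obtain ⟨y, -, rfl⟩ := (hUmem h).1 hh
    exact hφmem y
  have hHA : ∀ z ∈ H, z ∈ A := fun z hz => hP1A (hHP1 z hz)
  have hcommH : ∀ y ∈ A, ∀ z ∈ H, z * y = y * z := fun y hy z hz => mem_centralizer_iff.1 hy.1 z hz
  have hclos : ∀ (y : A), S.D (y : G) → ∀ z ∈ H, S.D ((y : G) * z) := fun y hy z hz =>
    S.D_mul_HH hM hy hz (hcommH y y.2 z hz)
  have hfibre : ∀ y y' : A, S.D (y : G) → S.D (y' : G) → φ y = φ y' → (y : G)⁻¹ * y' ∈ H := by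
    intro y y' hy hy' h
    obtain ⟨p, σ, hσ, e⟩ := (hker (y⁻¹ * y')).1 (by rw [map_mul, map_inv, h, inv_mul_cancel])
    simp only [Subgroup.coe_mul, InvMemClass.coe_inv] at e
    cases p
    · rw [e]; exact S.el_mem_HH hσ
    · exfalso
      have hy' : (y' : G) = y * S.el true σ := by rw [← e]; group
      have h1 := hclos y' (by assumption) _ (S.el_mem_HH hσ)
      rw [hy', mul_assoc, S.el_mul, Fr.H_sq hσ, Bool.true_xor, Bool.not_false, S.el_t] at h1
      have h2 := S.D_sq h1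
      have hyy := S.D_sq hy
      have h3 : (y : G) * S.t = S.t * y := by
        have : ((y : G) * S.t)⁻¹ = y * S.t := inv_eq_of_mul_eq_one_right h2
        rw [mul_inv_rev, inv_eq_of_mul_eq_one_right S.t_sq, inv_eq_of_mul_eq_one_right hyy] at this
        exact this.symm
      have h4 : φ y = 1 := by
        have := hφt y
        rw [h3, mul_assoc, mul_inv_cancel, mul_one, ← S.el_t] at this
        exact (S.el_inj this).2.symm
      obtain ⟨q, τ, hτ, ey⟩ := (hker y).1 h4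
      rw [ey, S.D_el_iff_Mp hM] at hy
      rw [ey, ← S.el_t, S.el_mul, S.D_el_iff_Mp hM] at h1
      have := h1.1
      rw [hy.1] at this
      simp at this
  -- counting through representatives
  have hcountU : ∀ (V : Finset (Perm (Fin k))), V ⊆ U →
      Nat.card {y : G // (∃ h : y ∈ A, φ ⟨y, h⟩ ∈ V) ∧ S.D y} = V.card * 8 := by
    intro V hV
    have hrep : ∀ h : {h // h ∈ V}, ∃ y : A, S.D (y : G) ∧ φ y = h := fun h => (hUmem h).1 (hV h.2)
    choose rep hrepD hrepφ using hrep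
    have hmemU : ∀ x : {h // h ∈ V} × H, ∃ h : (rep x.1 : G) * x.2 ∈ A, φ ⟨_, h⟩ ∈ V := fun x => by
      refine ⟨mul_mem (rep x.1).2 (hHA _ x.2.2), ?_⟩
      rw [show (⟨(rep x.1 : G) * x.2, _⟩ : A) = rep x.1 * ⟨x.2, hHA _ x.2.2⟩ from rfl, map_mul,
        (hker ⟨x.2, hHA _ x.2.2⟩).2 (hHP1 _ x.2.2), mul_one, hrepφ]
      exact x.1.2
    rw [← S.card_HH Fr, ← Fintype.card_coe V, ← Nat.card_eq_fintype_card, ← Nat.card_prod]
    refine (Nat.card_congr (Equiv.ofBijective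
      (fun x : {h // h ∈ V} × H => (⟨(rep x.1 : G) * x.2, hmemU x, hclos _ (hrepD x.1) _ x.2.2⟩ :
        {y : G // (∃ h : y ∈ A, φ ⟨y, h⟩ ∈ V) ∧ S.D y})) ⟨?_, ?_⟩)).symm
    · rintro ⟨h, z⟩ ⟨h', z'⟩ e
      have e' : (rep h : G) * z = rep h' * z' := congrArg Subtype.val e
      have e'' : φ (rep h) * φ ⟨z, hHA _ z.2⟩ = φ (rep h') * φ ⟨z', hHA _ z'.2⟩ := by
        rw [← map_mul, ← map_mul]; exact congrArg φ (Subtype.ext e')
      rw [(hker ⟨z, _⟩).2 (hHP1 _ z.2), (hker ⟨z', _⟩).2 (hHP1 _ z'.2), mul_one, mul_one, hrepφ, hrepφ] at e''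
      obtain rfl : h = h' := Subtype.ext e''
      exact Prod.ext rfl (Subtype.ext (mul_left_cancel e'))
    · rintro ⟨y, ⟨hy, hφy⟩, hD⟩
      exact ⟨(⟨_, hφy⟩, ⟨(rep ⟨_, hφy⟩ : G)⁻¹ * y, hfibre _ ⟨y, hy⟩ (hrepD _) hD (hrepφ _)⟩),
        Subtype.ext (by simp)⟩
  have hDA : Nat.card {y : G // y ∈ A ∧ S.D y} = U.card * 8 := by
    rw [← hcountU U (Finset.Subset.refl U)]
    refine Nat.card_congr (Equiv.subtypeEquivRight fun y => and_congr_left fun hD => ?_)
    exact ⟨fun hy => ⟨hy, (hUmem _).2 ⟨⟨y, hy⟩, hD, rfl⟩⟩, fun ⟨hy, _⟩ => hy⟩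
  have hU4 : U.card % 2 = 0 := by
    obtain ⟨f, hf, hmod⟩ := fixed_congr S.hno S.t_sq A
    have h1 : Nat.card {y : G // y ∈ A ∧ IsConj S.t y} = U.card * 8 := hDA
    rw [h1, S.card_C, hcardA] at hf
    have hidx := A.card_mul_index
    rw [hcardA] at hidx
    obtain ⟨c, hc⟩ := h512
    have h2 : A.index = 4 * c := by omega
    have h3 : f = 2 * (S.geo.κ * U.card) := by nlinarith
    obtain ⟨d, hd⟩ := S.geo.κ_odd
    rcases Nat.even_or_odd U.card with ⟨e, he⟩ | ⟨e, he⟩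
    · omega
    · exfalso
      have : f = 2 * (2 * (2 * d * e + d + e) + 1) := by rw [h3, hd, he]; ring
      omega
  -- the translations in coordinates
  let h3 : Bool → Bool → Bool → Perm (Fin k) := fun x y i => Fr.elP x y i false
  have hρh : ∀ x y i, Fr.ρ * h3 x y i * Fr.ρ⁻¹ = h3 (x ^^ i) x (x ^^ (y ^^ i)) := by
    intro x y i
    show Fr.ρ * Fr.elP x y i false * Fr.ρ⁻¹ = _
    rw [show Fr.elP x y i false = cond x Fr.a 1 * cond y Fr.b 1 * cond i Fr.e1 1 by simp [Frame.elP],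
      conj_prod, conj_prod]
    have e1' : Fr.e2 = Fr.elP true false true false := by simp [Frame.elP, Fr.a_mul_e1]
    have e2' : Fr.e2 * Fr.b = Fr.elP true true true false := by
      rw [e1', ← Fr.elP_b, Frame.elP_mul]; rfl
    have c1 : ∀ b' : Bool, Fr.ρ * cond b' Fr.a 1 * Fr.ρ⁻¹ = Fr.elP b' b' b' false := by
      intro b'; cases b'
      · rw [cond_false, mul_one, mul_inv_cancel, Fr.elP_one]
      · rw [cond_true, hρ3, e2']
    have c2 : ∀ b' : Bool, Fr.ρ * cond b' Fr.b 1 * Fr.ρ⁻¹ = Fr.elP false false b' false := by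
      intro b'; cases b'
      · rw [cond_false, mul_one, mul_inv_cancel, Fr.elP_one]
      · rw [cond_true, hρ2, Fr.elP_e1]
    have c3 : ∀ b' : Bool, Fr.ρ * cond b' Fr.e1 1 * Fr.ρ⁻¹ = Fr.elP b' false b' false := by
      intro b'; cases b'
      · rw [cond_false, mul_one, mul_inv_cancel, Fr.elP_one]
      · rw [cond_true, hρ1, e1']
    rw [c1, c2, c3, Frame.elP_mul, Frame.elP_mul]
    cases x <;> cases y <;> cases i <;> rfl
  have hUρ : ∀ h ∈ U, Fr.ρ * h * Fr.ρ⁻¹ ∈ U := by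
    intro h hh
    obtain ⟨⟨y, hy⟩, hD, rfl⟩ := (hUmem h).1 hh
    have hy' : ρ0 * y * ρ0⁻¹ ∈ A := (mem_normalizer_iff.1 hρA y).1 hy
    exact (hUmem _).2 ⟨⟨_, hy'⟩, S.D_conj _ hD, hρφ y hy hy'⟩
  have h000 : (1 : Perm (Fin k)) = h3 false false false := (Fr.elP_one).symm
  have hU1 : h3 false false false ∈ U := by
    rw [← h000]
    exact (hUmem _).2 ⟨⟨S.t, hP1A htP1⟩, S.D_t, (hker _).2 htP1⟩
  have hUb : h3 false true false ∈ U :=
    (hUmem _).2 ⟨⟨w, hwA⟩, hwD, by rw [hφw]; exact Fr.elP_b.symm⟩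
  have horbit : ∀ V : Finset (Perm (Fin k)), (∀ h ∈ V, h ∈ Fr.H) → (∀ h ∈ V, Fr.ρ * h * Fr.ρ⁻¹ ∈ V) →
      V.card = ind (h3 false false false ∈ V) + 3 * ind (h3 false true false ∈ V) + ind (h3 true true false ∈ V)
        + 3 * ind (h3 true false false ∈ V) := by
    intro V hVH hVρ
    have step : ∀ x y i, h3 x y i ∈ V → h3 (x ^^ i) x (x ^^ (y ^^ i)) ∈ V := fun x y i h => hρh x y i ▸ hVρ _ h
    have iffs : ∀ x y i, (h3 x y i ∈ V ↔ h3 (x ^^ i) x (x ^^ (y ^^ i)) ∈ V) := by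
      intro x y i
      refine ⟨step x y i, fun h => ?_⟩
      have h1 := step _ _ _ (step _ _ _ h)
      revert h1
      cases x <;> cases y <;> cases i <;> exact id
    have hV : V = Finset.image (fun q : Bool × Bool × Bool => h3 q.1 q.2.1 q.2.2)
        (Finset.univ.filter fun q => h3 q.1 q.2.1 q.2.2 ∈ V) := by
      ext h
      simp only [Finset.mem_image, Finset.mem_filter, Finset.mem_univ, true_and]
      constructor
      · intro hh
        obtain ⟨x, y, i, rfl⟩ := Fr.mem_H.1 (hVH h hh)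
        exact ⟨(x, y, i), hh, rfl⟩
      · rintro ⟨q, hq, rfl⟩; exact hq
    conv_lhs => rw [hV]
    rw [Finset.card_image_of_injective _ (fun q q' e => by
      obtain ⟨h1, h2, h4, -⟩ := Fr.elP_inj e
      exact Prod.ext h1 (Prod.ext h2 h4)), Finset.card_filter,
      show (∑ q : Bool × Bool × Bool, if h3 q.1 q.2.1 q.2.2 ∈ V then 1 else 0)
        = ∑ q : Bool × Bool × Bool, ind (h3 q.1 q.2.1 q.2.2 ∈ V) from Finset.sum_congr rfl fun q _ => by
        by_cases hq : h3 q.1 q.2.1 q.2.2 ∈ V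
        · rw [ind_true hq, if_pos hq]
        · rw [ind_false hq, if_neg hq]]
    simp only [Fintype.sum_prod_type, Fintype.sum_bool]
    have i1 := iffs false true false
    have i2 := iffs false false true
    have i3 := iffs true false false
    have i4 := iffs true true true
    simp only [Bool.xor_false, Bool.false_xor, Bool.xor_self, Bool.xor_true, Bool.not_false, Bool.not_true,
      Bool.true_xor] at i1 i2 i3 i4
    rw [propext i1, propext i2, propext i3, propext i4]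
    omega
  have hUcard := horbit U hUsub hUρ
  rw [ind_true hU1, ind_true hUb] at hUcard
  -- the overgroup permuting these conjugates
  set M := (normalizer (A : Set G) ⊓ normalizer (H : Set G) : Subgroup G) with hMdef
  have hρM : ρ0 ∈ M := ⟨hρA, hρN⟩
  have hAM : A ≤ M := fun x hx =>
    ⟨le_normalizer hx, mem_normalizer_of_le fun z hz => (hcentH x hx.1 z hz).symm ▸ hz⟩
  have hnormH : ∀ g : G, g * S.t = S.t * g → (∀ z ∈ H, g * z * g⁻¹ ∈ H) → g ∈ M := fun g h1 h2 =>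
    ⟨hstabA g (mem_normalizer_of_le h2) (hnormP g (by rw [h1, mul_assoc, mul_inv_cancel, mul_one]; exact htP1) h2),
      mem_normalizer_of_le h2⟩
  have hT0M : S.T0 ≤ M := by
    intro g hg
    refine hnormH g (mem_centralizer_singleton_iff.1 (S.T0_le hg)) fun z hz => ?_
    obtain ⟨σ, ⟨x, y, i, rfl⟩, rfl⟩ := S.mem_HH.1 hz
    obtain ⟨p, τ, hτ, rfl⟩ := hg
    obtain ⟨x', y', i', j', rfl⟩ := (hP.symm ▸ hτ : τ ∈ Fr.P)
    rw [S.el_conj]
    refine S.el_mem_HH ⟨x ^^ (j' && i), y, i, ?_⟩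
    rw [mul_inv_eq_iff_eq_mul, Frame.elP_mul, Frame.elP_mul]
    cases x <;> cases y <;> cases i <;> cases x' <;> cases y' <;> cases i' <;> cases j' <;> rfl
  have hMconj : ∀ g ∈ M, ∀ y ∈ A, g * y * g⁻¹ ∈ A := fun g hg y hy => (mem_normalizer_iff.1 hg.1 y).1 hy
  have hMH : ∀ g ∈ M, ∀ z ∈ H, g * z * g⁻¹ ∈ H := fun g hg z hz => (mem_normalizer_iff.1 hg.2 z).1 hz
  let Orb : G → Set G := fun y => {x | ∃ g ∈ M, g * y * g⁻¹ = x}
  have horbA : ∀ y ∈ A, ∀ x ∈ Orb y, x ∈ A := by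
    rintro y hy _ ⟨g, hg, rfl⟩; exact hMconj g hg y hy
  have hcount_orb : ∀ y : G, Nat.card M = Nat.card (Orb y) * Nat.card (M ⊓ centralizer ({y} : Set G) : Subgroup G) := by
    intro y
    let ψ : M → Orb y := fun g => ⟨g * y * (g : G)⁻¹, g, g.2, rfl⟩
    have := Fintype.ofFinite (Orb y)
    rw [← Nat.card_congr (Equiv.sigmaFiberEquiv ψ), Nat.card_sigma,
      Finset.sum_congr rfl (g := fun _ => Nat.card (M ⊓ centralizer ({y} : Set G) : Subgroup G)), Finset.sum_const,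
      Finset.card_univ, smul_eq_mul, Nat.card_eq_fintype_card (α := Orb y)]
    rintro ⟨x, g₀, hg₀, rfl⟩ -
    refine Nat.card_congr
      { toFun := fun g => ⟨g₀⁻¹ * g.1.1, M.mul_mem (M.inv_mem hg₀) g.1.2, ?_⟩
        invFun := fun z => ⟨⟨g₀ * z.1, mul_mem hg₀ z.2.1⟩, ?_⟩
        left_inv := fun g => Subtype.ext (Subtype.ext (by simp))
        right_inv := fun z => Subtype.ext (by simp) }
    · have h : g.1.1 * y * g.1.1⁻¹ = g₀ * y * g₀⁻¹ := congrArg Subtype.val g.2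
      refine mem_centralizer_singleton_iff.2 ?_
      calc g₀⁻¹ * g.1.1 * y = g₀⁻¹ * (g.1.1 * y * g.1.1⁻¹) * g.1.1 := by group
        _ = g₀⁻¹ * (g₀ * y * g₀⁻¹) * g.1.1 := by rw [h]
        _ = y * (g₀⁻¹ * g.1.1) := by group
    · refine Subtype.ext ?_
      show g₀ * z.1 * y * (g₀ * z.1)⁻¹ = g₀ * y * g₀⁻¹
      rw [show g₀ * z.1 * y * (g₀ * z.1)⁻¹ = g₀ * (z.1 * y * z.1⁻¹) * g₀⁻¹ by group,
        mem_centralizer_singleton_iff.1 z.2.2, mul_assoc y, mul_inv_cancel, mul_one]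
  -- whole fibres: `A` is transitive on each
  have htrans : ∀ y : A, S.D (y : G) → ∀ z ∈ H, ∃ x ∈ A, x * y * x⁻¹ = (y : G) * z := by
    intro y hy z hz
    have hc : ∀ v ∈ H, (y : G) * v = v * y := fun v hv => (hcommH y y.2 v hv).symm
    let ψ : A → H := fun x => ⟨(y : G)⁻¹ * ((x : G) * y * (x : G)⁻¹), by
      refine hfibre y ⟨_, mul_mem (mul_mem x.2 y.2) (inv_mem x.2)⟩ hy (S.D_conj _ hy) ?_
      show φ y = φ (x * y * x⁻¹)
      rw [map_mul, map_mul, map_inv, Fr.H_comm (hφmem x) (hφmem y), mul_assoc, mul_inv_cancel, mul_one]⟩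
    suffices Function.Surjective ψ by
      obtain ⟨x, hx⟩ := this ⟨z, hz⟩
      refine ⟨x, x.2, ?_⟩
      have e : (y : G)⁻¹ * ((x : G) * y * (x : G)⁻¹) = z := congrArg Subtype.val hx
      rw [← e]; group
    by_contra hns
    have h16 := S.card_cent_HH hM hy hc
    -- a fibre with more than sixteen elements
    obtain ⟨z0, hz0⟩ : ∃ z0, ¬ ∃ x, ψ x = z0 := by simpa [Function.Surjective] using hns
    have : Fintype H := Fintype.ofFinite _
    have : Fintype A := Fintype.ofFinite _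
    have hle : ∀ v : H, (Finset.univ.filter fun x => ψ x = v).card ≤ 16 := by
      intro v
      rcases (Finset.univ.filter fun x => ψ x = v).eq_empty_or_nonempty with he | ⟨x₀, hx₀⟩
      · rw [he]; simp
      · rw [← h16, ← Fintype.card_coe, ← Nat.card_eq_fintype_card]
        have hmem : ∀ x : {x // x ∈ Finset.univ.filter fun x => ψ x = v},
            (x₀ : G)⁻¹ * (x.1 : G) ∈ centralizer ({(y : G)} : Set G) ⊓ centralizer (H : Set G) := by
          intro x
          refine ⟨mem_centralizer_singleton_iff.2 ?_, (centralizer (H : Set G)).mul_mem ((centralizer (H : Set G)).inv_mem x₀.2.1) x.1.2.1⟩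
          have e : (y : G)⁻¹ * ((x.1 : G) * y * (x.1 : G)⁻¹) = (y : G)⁻¹ * ((x₀ : G) * y * (x₀ : G)⁻¹) :=
            congrArg Subtype.val (((Finset.mem_filter.1 x.2).2).trans (Finset.mem_filter.1 hx₀).2.symm)
          have e' := mul_left_cancel e
          calc (x₀ : G)⁻¹ * (x.1 : G) * y = (x₀ : G)⁻¹ * ((x.1 : G) * y * (x.1 : G)⁻¹) * x.1 := by group
            _ = (x₀ : G)⁻¹ * ((x₀ : G) * y * (x₀ : G)⁻¹) * x.1 := by rw [e']
            _ = y * ((x₀ : G)⁻¹ * x.1) := by group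
        refine Nat.card_le_card_of_injective (fun x => ⟨_, hmem x⟩) ?_
        intro x x' e
        exact Subtype.ext (Subtype.ext (mul_left_cancel (congrArg Subtype.val e)))
    have hsum := Finset.card_eq_sum_card_fiberwise (f := ψ) (s := Finset.univ) (t := Finset.univ.erase z0)
      (fun x _ => Finset.mem_erase.2 ⟨fun e => hz0 ⟨x, e⟩, Finset.mem_univ _⟩)
    have h2 := Finset.sum_le_card_nsmul (Finset.univ.erase z0) (fun v => (Finset.univ.filter fun x => ψ x = v).card)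
      16 (fun v _ => hle v)
    rw [← hsum, Finset.card_erase_of_mem (Finset.mem_univ _), Finset.card_univ, Finset.card_univ, smul_eq_mul,
      ← Nat.card_eq_fintype_card, ← Nat.card_eq_fintype_card, hcardA, hH, S.card_HH] at h2
    omega
  let UO : G → Finset (Perm (Fin k)) := fun y =>
    Finset.univ.filter fun h => ∃ x : A, (x : G) ∈ Orb y ∧ φ x = h
  have hUOmem : ∀ y h, h ∈ UO y ↔ ∃ x : A, (x : G) ∈ Orb y ∧ φ x = h := fun y h => by simp [UO]
  have horbD : ∀ y, S.D y → ∀ x ∈ Orb y, S.D x := by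
    rintro y hy _ ⟨g, hg, rfl⟩; exact S.D_conj g hy
  have hUOsub : ∀ y, S.D y → UO y ⊆ U := by
    intro y hy h hh
    obtain ⟨x, hx, rfl⟩ := (hUOmem y h).1 hh
    exact (hUmem _).2 ⟨x, horbD y hy x hx, rfl⟩
  have hfull : ∀ y : A, S.D (y : G) → ∀ x : A, S.D (x : G) → φ x ∈ UO y → (x : G) ∈ Orb y := by
    intro y hy x hx hh
    obtain ⟨x', hx', e⟩ := (hUOmem _ _).1 hh
    have hz := hfibre x' x (horbD _ hy _ hx') hx e
    obtain ⟨g, hg, hgx⟩ := htrans x' (horbD _ hy _ hx') _ hz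
    obtain ⟨m, hm, hmx⟩ := hx'
    refine ⟨g * m, mul_mem (hAM hg) hm, ?_⟩
    rw [show g * m * (y : G) * (g * m)⁻¹ = g * (m * y * m⁻¹) * g⁻¹ by group, hmx, hgx]; group
  have horbcard : ∀ y : A, S.D (y : G) → Nat.card (Orb y) = (UO y).card * 8 := by
    intro y hy
    rw [← hcountU (UO y) (hUOsub y hy)]
    refine Nat.card_congr (Equiv.subtypeEquivRight fun x => ?_)
    constructor
    · intro h
      exact ⟨⟨horbA y y.2 x h, (hUOmem _ _).2 ⟨⟨x, horbA y y.2 x h⟩, h, rfl⟩⟩, horbD y hy x h⟩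
    · rintro ⟨⟨hxA, hh⟩, hxD⟩
      exact hfull y hy ⟨x, hxA⟩ hxD hh
  have hUOρ : ∀ y : A, ∀ h ∈ UO y, Fr.ρ * h * Fr.ρ⁻¹ ∈ UO y := by
    intro y h hh
    obtain ⟨⟨x, hx⟩, ⟨m, hm, hmx⟩, rfl⟩ := (hUOmem _ h).1 hh
    change m * y * m⁻¹ = x at hmx
    have hx' : ρ0 * x * ρ0⁻¹ ∈ A := (mem_normalizer_iff.1 hρA x).1 hx
    refine (hUOmem _ _).2 ⟨⟨_, hx'⟩, ⟨ρ0 * m, mul_mem hρM hm, ?_⟩, hρφ x hx hx'⟩
    show ρ0 * m * y * (ρ0 * m)⁻¹ = ρ0 * x * ρ0⁻¹
    rw [← hmx]; group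
  -- an element of the overgroup moving the translation `1`
  obtain ⟨r, hr3, hrw, hrH, hrC⟩ := S.exists_three hM hwD (fun z hz => (hcommH w hwA z hz).symm)
  have hAeq : ∀ x ∈ centralizer (H : Set G), w⁻¹ * (x * w * x⁻¹) ∈ H → x ∈ A := by
    intro x hx hxw
    let X : Set G := {x | x ∈ centralizer (H : Set G) ∧ w⁻¹ * (x * w * x⁻¹) ∈ H}
    have hsub : (A : Set G) ⊆ X := fun g hg => ⟨hg.1, by
      refine hfibre ⟨w, hwA⟩ ⟨g * w * g⁻¹, mul_mem (mul_mem hg hwA) (inv_mem hg)⟩ hwD (S.D_conj _ hwD) ?_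
      show φ ⟨w, hwA⟩ = φ (⟨g, hg⟩ * ⟨w, hwA⟩ * ⟨g, hg⟩⁻¹)
      rw [map_mul, map_mul, map_inv, Fr.H_comm (hφmem ⟨g, hg⟩) (hφmem ⟨w, hwA⟩), mul_assoc, mul_inv_cancel,
        mul_one]⟩
    have : Fintype X := Fintype.ofFinite _
    have : Fintype H := Fintype.ofFinite _
    let ψ : X → H := fun g => ⟨_, g.2.2⟩
    have hle : ∀ v : H, (Finset.univ.filter fun g => ψ g = v).card ≤ 16 := by
      intro v
      rcases (Finset.univ.filter fun g => ψ g = v).eq_empty_or_nonempty with he | ⟨x₀, hx₀⟩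
      · rw [he]; simp
      · rw [← S.card_cent_HH hM hwD (fun z hz => (hcommH w hwA z hz).symm), ← Fintype.card_coe,
          ← Nat.card_eq_fintype_card]
        have hmem : ∀ g : {g // g ∈ Finset.univ.filter fun g => ψ g = v},
            (x₀ : G)⁻¹ * (g.1 : G) ∈ centralizer ({w} : Set G) ⊓ centralizer (H : Set G) := by
          intro g
          refine ⟨mem_centralizer_singleton_iff.2 ?_, (centralizer (H : Set G)).mul_mem ((centralizer (H : Set G)).inv_mem x₀.2.1) g.1.2.1⟩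
          have e : w⁻¹ * ((g.1 : G) * w * (g.1 : G)⁻¹) = w⁻¹ * ((x₀ : G) * w * (x₀ : G)⁻¹) :=
            congrArg Subtype.val (((Finset.mem_filter.1 g.2).2).trans (Finset.mem_filter.1 hx₀).2.symm)
          have e' := mul_left_cancel e
          calc (x₀ : G)⁻¹ * (g.1 : G) * w = (x₀ : G)⁻¹ * ((g.1 : G) * w * (g.1 : G)⁻¹) * g.1 := by group
            _ = (x₀ : G)⁻¹ * ((x₀ : G) * w * (x₀ : G)⁻¹) * g.1 := by rw [e']
            _ = w * ((x₀ : G)⁻¹ * g.1) := by group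
        refine Nat.card_le_card_of_injective (fun g => ⟨_, hmem g⟩) ?_
        intro g g' e
        exact Subtype.ext (Subtype.ext (mul_left_cancel (congrArg Subtype.val e)))
    have h2 := Finset.sum_le_card_nsmul (Finset.univ : Finset H)
      (fun v => (Finset.univ.filter fun g => ψ g = v).card) 16 (fun v _ => hle v)
    rw [← Finset.card_eq_sum_card_fiberwise (fun g _ => Finset.mem_univ _), Finset.card_univ, Finset.card_univ,
      smul_eq_mul, ← Nat.card_eq_fintype_card, ← Nat.card_eq_fintype_card, hH, S.card_HH] at h2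
    have hXA : (A : Set G) = X := Set.eq_of_subset_of_ncard_le hsub (by
      rw [← Nat.card_coe_set_eq, ← Nat.card_coe_set_eq]
      change Nat.card X ≤ Nat.card A
      omega) (Set.toFinite _)
    exact (hXA.symm ▸ (⟨hx, hxw⟩ : x ∈ X) : x ∈ (A : Set G))
  have hrN : r ∈ normalizer (H : Set G) := mem_normalizer_of_le hrH
  have hrM : r ∈ M := by
    refine ⟨mem_normalizer_of_le fun x hx => hAeq _ ?_ ?_, hrN⟩
    · rw [mem_centralizer_iff]
      intro z hz
      have hz' : r⁻¹ * z * r ∈ H := (mem_normalizer_iff.1 hrN _).2 (by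
        rwa [show r * (r⁻¹ * z * r) * r⁻¹ = z by group])
      have h := mem_centralizer_iff.1 hx.1 _ hz'
      calc z * (r * x * r⁻¹) = r * (r⁻¹ * z * r * x) * r⁻¹ := by group
        _ = r * (x * (r⁻¹ * z * r)) * r⁻¹ := by rw [h]
        _ = r * x * r⁻¹ * z := by group
    · have hrw' : r⁻¹ * w * r = w := by rw [mul_assoc, ← hrw, inv_mul_cancel_left]
      have hx1 : w⁻¹ * (x * w * x⁻¹) ∈ H := by
        refine hfibre ⟨w, hwA⟩ ⟨x * w * x⁻¹, mul_mem (mul_mem hx hwA) (inv_mem hx)⟩ hwD (S.D_conj _ hwD) ?_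
        show φ ⟨w, hwA⟩ = φ (⟨x, hx⟩ * ⟨w, hwA⟩ * ⟨x, hx⟩⁻¹)
        rw [map_mul, map_mul, map_inv, Fr.H_comm (hφmem ⟨x, hx⟩) (hφmem ⟨w, hwA⟩), mul_assoc, mul_inv_cancel,
          mul_one]
      have h := hrH _ hx1
      have e : r * (w⁻¹ * (x * w * x⁻¹)) * r⁻¹ = w⁻¹ * (r * x * r⁻¹ * w * (r * x * r⁻¹)⁻¹) := by
        calc r * (w⁻¹ * (x * w * x⁻¹)) * r⁻¹ = r * (w⁻¹ * (x * (r⁻¹ * w * r) * x⁻¹)) * r⁻¹ := by rw [hrw']
          _ = r * w⁻¹ * x * r⁻¹ * w * r * x⁻¹ * r⁻¹ := by group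
          _ = w⁻¹ * r * x * r⁻¹ * w * r * x⁻¹ * r⁻¹ := by
            rw [show r * w⁻¹ = w⁻¹ * r from (Commute.inv_right (show Commute r w from hrw)).eq]
          _ = w⁻¹ * (r * x * r⁻¹ * w * (r * x * r⁻¹)⁻¹) := by group
      rwa [e] at h
  -- it moves the translation
  have hrtA : r * S.t * r⁻¹ ∈ A := hMconj r hrM S.t (hP1A htP1)
  have hmove : φ ⟨_, hrtA⟩ ≠ 1 := by
    intro h
    have hz := hfibre ⟨S.t, hP1A htP1⟩ ⟨_, hrtA⟩ S.D_t (S.D_conj _ S.D_t) (by rw [h, (hker _).2 htP1])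
    obtain ⟨g, hgA, hgt⟩ := htrans ⟨S.t, hP1A htP1⟩ S.D_t _ hz
    change g * S.t * g⁻¹ = S.t * (S.t⁻¹ * (r * S.t * r⁻¹)) at hgt
    rw [mul_inv_cancel_left] at hgt
    set c := g⁻¹ * r with hc
    have hct : c * S.t = S.t * c := by
      calc c * S.t = g⁻¹ * (r * S.t * r⁻¹) * r := by rw [hc]; group
        _ = g⁻¹ * (g * S.t * g⁻¹) * r := by rw [hgt]
        _ = S.t * c := by rw [hc]; group
    obtain ⟨q, σ, e⟩ := S.mem_C c hct
    change c = S.el q σ at e
    have hrc : r = g * c := by rw [hc]; group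
    have hact : ∀ τ ∈ Fr.H, r * S.el false τ * r⁻¹ = S.el false (σ * τ * σ⁻¹) ∧ σ * τ * σ⁻¹ ∈ Fr.H := by
      intro τ hτ
      have h0 := hrH _ (S.el_mem_HH hτ)
      have h1 : c * S.el false τ * c⁻¹ ∈ H := by
        have h1' : g⁻¹ * (r * S.el false τ * r⁻¹) * g⁻¹⁻¹ ∈ H := by
          rw [hcentH _ ((inv_mem hgA : g⁻¹ ∈ A)).1 _ h0]; exact h0
        rwa [show g⁻¹ * (r * S.el false τ * r⁻¹) * g⁻¹⁻¹ = c * S.el false τ * c⁻¹ by rw [hc]; group] at h1'
      have h2 : r * S.el false τ * r⁻¹ = c * S.el false τ * c⁻¹ := by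
        rw [hrc, show g * c * S.el false τ * (g * c)⁻¹ = g * (c * S.el false τ * c⁻¹) * g⁻¹ by group,
          hcentH g hgA.1 _ h1]
      rw [e, S.el_conj] at h1 h2
      exact ⟨h2, (S.el_mem_HH_iff.1 h1).2⟩
    have hrb : r * S.el false Fr.b * r⁻¹ = S.el false Fr.b := by
      obtain ⟨τ, hτ, hτe⟩ := S.mem_HH.1 hz
      change S.t⁻¹ * (r * S.t * r⁻¹) = S.el false τ at hτe
      have hrt : r * S.t * r⁻¹ = S.t * S.el false τ := by rw [← hτe]; group
      have h1 : r * (w * S.t * w⁻¹) * r⁻¹ = w * (r * S.t * r⁻¹) * w⁻¹ := by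
        calc r * (w * S.t * w⁻¹) * r⁻¹ = r * w * S.t * (r * w)⁻¹ := by group
          _ = w * r * S.t * (w * r)⁻¹ := by rw [hrw]
          _ = w * (r * S.t * r⁻¹) * w⁻¹ := by group
      rw [hwt, hsplit, conj_prod, hrt, conj_prod w, hwt, hsplit, hcentH w hwA.1 _ (S.el_mem_HH hτ)] at h1
      have hcomm : S.el false Fr.b * S.el false τ = S.el false τ * S.el false Fr.b := by
        rw [S.el_mul, S.el_mul, Fr.H_comm Fr.b_mem_H hτ]
      rw [mul_assoc S.t (S.el false Fr.b), hcomm, mul_assoc, mul_right_inj, mul_right_inj] at h1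
      exact h1
    have hσb : σ * Fr.b = Fr.b * σ := by
      have h1 := (hact Fr.b Fr.b_mem_H).1
      rw [hrb] at h1
      exact mul_inv_eq_iff_eq_mul.1 (S.el_inj h1).2.symm
    have hsq := Fr.sq_fixes_of_fixB (fun τ hτ => (hact τ hτ).2) hσb
    refine hrC (mem_centralizer_iff.2 fun z hz' => ?_)
    obtain ⟨τ, hτ, rfl⟩ := S.mem_HH.1 hz'
    have h2 : r * r * S.el false τ * (r * r)⁻¹ = S.el false τ := by
      rw [show r * r * S.el false τ * (r * r)⁻¹ = r * (r * S.el false τ * r⁻¹) * r⁻¹ by group, (hact τ hτ).1,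
        (hact _ (hact τ hτ).2).1, show σ * (σ * τ * σ⁻¹) * σ⁻¹ = σ * σ * τ * (σ * σ)⁻¹ by group, hsq τ hτ,
        mul_assoc, mul_inv_cancel, mul_one]
    have hr4 : r = r * r * (r * r) := by
      rw [show r * r * (r * r) = r * r * r * r by group, hr3, one_mul]
    have h4 : r * S.el false τ * r⁻¹ = S.el false τ := by
      rw [hr4, show r * r * (r * r) * S.el false τ * (r * r * (r * r))⁻¹
        = r * r * (r * r * S.el false τ * (r * r)⁻¹) * (r * r)⁻¹ by group, h2, h2]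
    exact (mul_inv_eq_iff_eq_mul.1 h4).symm
  -- the orbit of `t`
  let tA : A := ⟨S.t, hP1A htP1⟩
  set V := UO (tA : G) with hV
  have hVcard := horbit V (fun h hh => hUsub h (hUOsub _ S.D_t hh)) (hUOρ tA)
  have h1V : h3 false false false ∈ V := by
    rw [← h000]; exact (hUOmem _ _).2 ⟨tA, ⟨1, one_mem _, by group⟩, (hker _).2 htP1⟩
  rw [ind_true h1V] at hVcard
  have hrV : φ ⟨_, hrtA⟩ ∈ V := (hUOmem _ _).2 ⟨⟨_, hrtA⟩, ⟨r, hrM, rfl⟩, rfl⟩
  have hMcard := hcount_orb (tA : G)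
  rw [horbcard tA S.D_t] at hMcard
  have h32 : 32 ∣ Nat.card (M ⊓ centralizer ({(tA : G)} : Set G) : Subgroup G) := by
    rw [← S.card_T0]; exact Subgroup.card_dvd_of_le (le_inf hT0M S.T0_le)
  have h1024 : 4 ∣ V.card := by
    obtain ⟨o1, ho1⟩ : ∃ o : Bool, o = decide (h3 false true false ∈ V) := ⟨_, rfl⟩
    obtain ⟨o2, ho2⟩ : ∃ o : Bool, o = decide (h3 true true false ∈ V) := ⟨_, rfl⟩
    obtain ⟨o3, ho3⟩ : ∃ o : Bool, o = decide (h3 true false false ∈ V) := ⟨_, rfl⟩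
    obtain ⟨u2, hu2⟩ : ∃ o : Bool, o = decide (h3 true true false ∈ U) := ⟨_, rfl⟩
    obtain ⟨u3, hu3⟩ : ∃ o : Bool, o = decide (h3 true false false ∈ U) := ⟨_, rfl⟩
    have hind : ∀ (P : Prop) [Decidable P] (o : Bool), o = decide P → ind P = cond o 1 0 := by
      intro P _ o ho
      by_cases h : P
      · rw [ind_true h, ho, decide_eq_true h]; rfl
      · rw [ind_false h, ho, decide_eq_false h]; rfl
    rw [hind _ _ hu2, hind _ _ hu3] at hUcard
    rw [hind _ _ ho1, hind _ _ ho2, hind _ _ ho3] at hVcard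
    have e3 : ∀ o : Bool, 3 * cond o 1 0 = cond o 3 0 := by decide
    rw [e3] at hUcard
    rw [e3, e3] at hVcard
    have hne : (cond o1 3 0 + cond o2 1 0 + cond o3 3 0 : ℕ) ≠ 0 := by
      intro h0
      have hc1 : V.card = 1 := by omega
      obtain ⟨a, ha⟩ := Finset.card_eq_one.1 hc1
      rw [ha, Finset.mem_singleton] at h1V hrV
      exact hmove (hrV.trans (h1V.symm.trans h000.symm))
    rcases orbit_choices o1 o2 o3 u2 u3
        (fun h => by rw [hu2]; exact decide_eq_true (hUOsub _ S.D_t (of_decide_eq_true (ho2.symm.trans h))))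
        (fun h => by rw [hu3]; exact decide_eq_true (hUOsub _ S.D_t (of_decide_eq_true (ho3.symm.trans h))))
        (by omega) hne with ⟨rfl, rfl, rfl⟩ | h | ⟨h57, rfl, rfl⟩
    · -- two translations only
      exfalso
      simp only [cond_true, cond_false] at hVcard
      have hc2 : h3 true true false ∈ V := of_decide_eq_true ho2.symm
      have hne12 : h3 true true false ≠ h3 false false false := fun e => by
        exact absurd (Fr.elP_inj e).1 (by decide)
      have hV2 : ∀ h ∈ V, h = h3 false false false ∨ h = h3 true true false := by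
        intro h hh
        by_contra hn
        rw [not_or] at hn
        have : ({h, h3 false false false, h3 true true false} : Finset _) ⊆ V := by
          intro x hx
          simp only [Finset.mem_insert, Finset.mem_singleton] at hx
          rcases hx with rfl | rfl | rfl <;> assumption
        have h3c : ({h, h3 false false false, h3 true true false} : Finset (Perm (Fin k))).card = 3 := by
          rw [Finset.card_insert_of_notMem, Finset.card_insert_of_notMem, Finset.card_singleton]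
          · simpa using hne12.symm
          · simp [hn.1, hn.2]
        have := Finset.card_le_card this
        omega
      have hrt1 : φ ⟨_, hrtA⟩ = h3 true true false :=
        (hV2 _ hrV).resolve_left (fun e => hmove (e.trans h000.symm))
      set y := r * S.t * r⁻¹ with hy
      have hyA' : r * y * r⁻¹ ∈ A := hMconj r hrM y hrtA
      have hy2 : φ ⟨_, hyA'⟩ ∈ V := (hUOmem _ _).2 ⟨⟨_, hyA'⟩, ⟨r * r, mul_mem hrM hrM, by
        show r * r * S.t * (r * r)⁻¹ = r * y * r⁻¹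
        rw [hy]; group⟩, rfl⟩
      have hr3t : r * (r * y * r⁻¹) * r⁻¹ = S.t := by
        rw [hy, show r * (r * (r * S.t * r⁻¹) * r⁻¹) * r⁻¹ = r * r * r * S.t * (r * r * r)⁻¹ by group, hr3]; group
      have hDy : S.D (r * y * r⁻¹) := S.D_conj r (S.D_conj r S.D_t)
      rcases hV2 _ hy2 with e | e
      · -- the third power would move `t`
        have hz := hfibre tA ⟨_, hyA'⟩ S.D_t hDy (by rw [e, (hker tA).2 htP1]; exact h000)
        have hz2 := hrH _ hz
        have hA2 : r * (S.t⁻¹ * (r * y * r⁻¹)) * r⁻¹ ∈ A := hHA _ hz2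
        have e1 : (⟨S.t, hP1A htP1⟩ : A) = ⟨y, hrtA⟩ * ⟨_, hA2⟩ := by
          refine Subtype.ext ?_
          show S.t = y * (r * (S.t⁻¹ * (r * y * r⁻¹)) * r⁻¹)
          conv_lhs => rw [← hr3t]
          rw [hy]; group
        have e2 := congrArg φ e1
        rw [map_mul, (hker ⟨S.t, _⟩).2 htP1, (hker ⟨_, hA2⟩).2 (hHP1 _ hz2), mul_one, hrt1] at e2
        exact hne12 (e2.symm.trans h000)
      · -- the square fixes the second fibre, so `r` fixes the first
        have hz := hfibre ⟨y, hrtA⟩ ⟨_, hyA'⟩ (S.D_conj r S.D_t) hDy (hrt1.trans e.symm)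
        have hz' : S.t⁻¹ * y ∈ H := by
          have h' := (mem_normalizer_iff.1 hrN (S.t⁻¹ * y)).2
          refine h' ?_
          rw [show r * (S.t⁻¹ * y) * r⁻¹ = y⁻¹ * (r * y * r⁻¹) by rw [hy]; group]
          exact hz
        have e1 : (⟨y, hrtA⟩ : A) = ⟨S.t, hP1A htP1⟩ * ⟨_, hHA _ hz'⟩ := Subtype.ext (by
          show y = S.t * (S.t⁻¹ * y); group)
        have e2 := congrArg φ e1
        rw [map_mul, (hker ⟨S.t, _⟩).2 htP1, (hker ⟨_, hHA _ hz'⟩).2 (hHP1 _ hz'), mul_one, hrt1] at e2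
        exact hne12 (e2.trans h000)
    · exact ⟨(1 + cond o1 3 0 + cond o2 1 0 + cond o3 3 0) / 4, by omega⟩
    · -- five or seven translations
      exfalso
      simp only [cond_true] at hUcard
      obtain ⟨hh, hhU, hhV⟩ : ∃ hh ∈ U, hh ∉ V := by
        by_contra hcon
        push Not at hcon
        have := Finset.card_le_card (fun x hx => hcon x hx : U ⊆ V)
        omega
      obtain ⟨y, hyD, hyφ⟩ := (hUmem hh).1 hhU
      set V' := UO (y : G) with hV'
      have hdisj : ∀ x ∈ V', x ∉ V := by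
        intro x hx hxV
        obtain ⟨⟨a1, ha1⟩, ho, rfl⟩ := (hUOmem _ _).1 hx
        obtain ⟨g, hg, hgx⟩ := ho
        obtain ⟨g', hg', hg'x⟩ := hfull tA S.D_t ⟨a1, ha1⟩ (hgx ▸ S.D_conj g hyD) hxV
        refine hhV ((hUOmem _ _).2 ⟨y, ⟨g⁻¹ * g', mul_mem (inv_mem hg) hg', ?_⟩, hyφ⟩)
        change g * y * g⁻¹ = a1 at hgx
        change g' * (tA : G) * g'⁻¹ = a1 at hg'x
        rw [show g⁻¹ * g' * (tA : G) * (g⁻¹ * g')⁻¹ = g⁻¹ * (g' * (tA : G) * g'⁻¹) * g by group, hg'x, ← hgx]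
        group
      have hcard' : V'.card + V.card ≤ U.card := by
        rw [← Finset.card_union_of_disjoint (Finset.disjoint_left.2 hdisj)]
        exact Finset.card_le_card (Finset.union_subset (hUOsub _ hyD) (hUOsub _ S.D_t))
      have hpos : 0 < V'.card := Finset.card_pos.2 ⟨hh, (hUOmem _ _).2 ⟨y, ⟨1, one_mem _, by group⟩, hyφ⟩⟩
      obtain ⟨p, hp, hpV, hp7⟩ : ∃ p : ℕ, p.Prime ∧ V.card = p ∧ (p = 5 ∨ p = 7) := by
        rcases h57 with h | h
        · exact ⟨5, by norm_num, by omega, Or.inl rfl⟩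
        · exact ⟨7, by norm_num, by omega, Or.inr rfl⟩
      have : Fact p.Prime := ⟨hp⟩
      have hMy := hcount_orb (y : G)
      rw [horbcard y hyD] at hMy
      have hdvd : p ∣ Nat.card M := by
        rw [hMcard, show (UO (tA : G)).card = p from hpV]
        exact Dvd.dvd.mul_right (Dvd.dvd.mul_right dvd_rfl _) _
      rw [hMy] at hdvd
      rcases (Nat.Prime.dvd_mul hp).1 hdvd with h | h
      · rcases (Nat.Prime.dvd_mul hp).1 h with h' | h'
        · have hle := Nat.le_of_dvd hpos h'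
          omega
        · have := Nat.le_of_dvd (by norm_num) h'
          rcases hp7 with rfl | rfl <;> omega
      · obtain ⟨⟨x, hx⟩, hxo⟩ := exists_prime_orderOf_dvd_card'
          (G := (M ⊓ centralizer ({(y : G)} : Set G) : Subgroup G)) p h
        rw [Subgroup.orderOf_mk] at hxo
        have hx1 : x = 1 := S.eq_one_of_normalises_HH hM hyD (fun z hz => (hcommH y y.2 z hz).symm)
          (mem_centralizer_singleton_iff.1 hx.2) (hMH x hx.1) (by
            rcases hp7 with h' | h'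
            · left; rw [← h', ← hxo]; exact pow_orderOf_eq_one x
            · right; rw [← h', ← hxo]; exact pow_orderOf_eq_one x)
        rw [hx1, orderOf_one] at hxo
        exact absurd hxo hp.one_lt.ne
  -- the subgroup of order 256
  set s0 := S.el false Fr.sw with hs0
  have hs0T : s0 ∈ S.T0 := S.el_mem_T0 _ (hP ▸ Fr.sw_mem_P)
  have hs0M : s0 ∈ M := hT0M hs0T
  have hs0sq : s0 * s0 = 1 := by rw [hs0, S.el_mul, Fr.sw_sq, Bool.xor_self, S.el_one]
  have hs0inv : s0⁻¹ = s0 := inv_eq_of_mul_eq_one_right hs0sq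
  have hswe : s0 * e0 * s0⁻¹ = S.el false Fr.e2 := by
    rw [hs0, he0, S.el_conj, Frame.e2, inv_eq_of_mul_eq_one_right Fr.sw_sq]
  have hs0A : s0 ∉ A := by
    intro h
    have h1 := hcentH s0 h.1 e0 (S.el_mem_HH Fr.e1_mem_H)
    rw [hswe] at h1
    have h2 := (S.el_inj h1).2
    rw [← Fr.a_mul_e1, mul_eq_right] at h2
    exact absurd (Fr.faithful true false false false (by simpa [Frame.a] using h2)).1 (by decide)
  have hflip : ∀ x ∈ A, ∀ y ∈ A, s0 * x * (s0 * y) ∈ A := by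
    intro x hx y hy
    rw [show s0 * x * (s0 * y) = s0 * x * s0⁻¹ * y by rw [hs0inv]; group]
    exact mul_mem (hMconj s0 hs0M x hx) hy
  let K2 : Subgroup G :=
    { carrier := {x | x ∈ A ∨ s0 * x ∈ A}
      one_mem' := Or.inl (one_mem _)
      mul_mem' := by
        rintro x y (hx | hx) (hy | hy)
        · exact Or.inl (mul_mem hx hy)
        · refine Or.inr ?_
          have := mul_mem (hMconj s0 hs0M x hx) hy
          rwa [hs0inv, show s0 * x * s0 * (s0 * y) = s0 * (x * (s0 * s0) * y) by group, hs0sq, mul_one] at this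
        · refine Or.inr ?_
          rw [← mul_assoc]; exact mul_mem hx hy
        · refine Or.inl ?_
          have h := hflip _ hx _ hy
          rwa [show s0 * (s0 * x) * (s0 * (s0 * y)) = (s0 * s0) * x * ((s0 * s0) * y) by group, hs0sq, one_mul,
            one_mul] at h
      inv_mem' := by
        rintro x (hx | hx)
        · exact Or.inl (inv_mem hx)
        · refine Or.inr ?_
          have h := hMconj s0 hs0M _ (inv_mem hx)
          rwa [mul_inv_rev, hs0inv, show s0 * (x⁻¹ * s0) * s0 = s0 * (x⁻¹ * (s0 * s0)) by group, hs0sq,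
            mul_one] at h }
  have hK2card : Nat.card K2 = 256 := by
    rw [← Nat.card_congr (Equiv.ofBijective (fun q : Bool × A => (⟨cond q.1 s0 1 * q.2, by
        cases q.1
        · exact Or.inl (by rw [cond_false, one_mul]; exact q.2.2)
        · exact Or.inr (by rw [cond_true, ← mul_assoc, hs0sq, one_mul]; exact q.2.2)⟩ : K2))
      ⟨fun q q' e => by
        obtain ⟨p, x⟩ := q; obtain ⟨p', x'⟩ := q'
        have e : cond p s0 1 * (x : G) = cond p' s0 1 * x' := congrArg Subtype.val e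
        cases p <;> cases p' <;> simp only [cond_true, cond_false, one_mul] at e
        · exact Prod.ext rfl (Subtype.ext e)
        · exact absurd (by rw [show s0 = (x : G) * (x' : G)⁻¹ by rw [e]; group]; exact mul_mem x.2 (inv_mem x'.2)) hs0A
        · exact absurd (by rw [show s0 = (x' : G) * (x : G)⁻¹ by rw [← e]; group]; exact mul_mem x'.2 (inv_mem x.2)) hs0A
        · exact Prod.ext rfl (Subtype.ext (mul_left_cancel e)),
      fun ⟨x, hx⟩ => by
        rcases hx with hx | hx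
        · exact ⟨(false, ⟨x, hx⟩), Subtype.ext (one_mul x)⟩
        · exact ⟨(true, ⟨s0 * x, hx⟩), Subtype.ext (by
            show s0 * (s0 * x) = x
            rw [← mul_assoc, hs0sq, one_mul])⟩⟩),
      Nat.card_prod, hcardA, Nat.card_eq_fintype_card, Fintype.card_bool]
  have hDK2 : Nat.card {y : G // y ∈ K2 ∧ S.D y} = U.card * 8 + 16 := by
    have hiff : ∀ y, S.D y → ((y ∈ K2 ∧ ¬ y ∈ A) ↔
        (y ∈ normalizer (S.T0 : Set G) ∧ y * e0 * y⁻¹ = S.el false Fr.e2)) := by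
      intro y hyD
      constructor
      · rintro ⟨hy, hyA⟩
        have hx : s0 * y ∈ A := hy.resolve_left hyA
        set x := s0 * y with hxdef
        have hye : y = s0 * x := by rw [hxdef, ← mul_assoc, hs0sq, one_mul]
        have h1 : y * e0 * y⁻¹ = S.el false Fr.e2 := by
          rw [hye, show s0 * x * e0 * (s0 * x)⁻¹ = s0 * (x * e0 * x⁻¹) * s0⁻¹ by group,
            hcentH x hx.1 e0 (S.el_mem_HH Fr.e1_mem_H), hswe]
        refine ⟨?_, h1⟩
        -- the translation is fixed by `sw`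
        set σ := φ ⟨x, hx⟩ with hσdef
        have hxt : x * S.t * x⁻¹ = S.el true σ := hφt ⟨x, hx⟩
        have hxfix : ∀ τ ∈ Fr.H, x * S.el false τ * x⁻¹ = S.el false τ := fun τ hτ =>
          hcentH x hx.1 _ (S.el_mem_HH hτ)
        have hσH : σ ∈ Fr.H := hφmem _
        have hsσ : Fr.sw * σ * Fr.sw⁻¹ ∈ Fr.H := by
          have h := hMH s0 hs0M _ (S.el_mem_HH hσH)
          rw [hs0, S.el_conj] at h
          exact (S.el_mem_HH_iff.1 h).2
        have hyt : y * S.t * y⁻¹ = S.el true (Fr.sw * σ * Fr.sw⁻¹) := by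
          rw [hye, show s0 * x * S.t * (s0 * x)⁻¹ = s0 * (x * S.t * x⁻¹) * s0⁻¹ by group, hxt, hs0, S.el_conj]
        have hyy : y * (y * S.t * y⁻¹) * y⁻¹ = S.t := by
          rw [show y * (y * S.t * y⁻¹) * y⁻¹ = y * y * S.t * (y * y)⁻¹ by group, S.D_sq hyD]; group
        rw [hyt, hsplit, conj_prod, hyt, hye,
          show s0 * x * S.el false (Fr.sw * σ * Fr.sw⁻¹) * (s0 * x)⁻¹
            = s0 * (x * S.el false (Fr.sw * σ * Fr.sw⁻¹) * x⁻¹) * s0⁻¹ by group,
          hxfix _ hsσ, hs0, S.el_conj, S.el_mul, Bool.xor_false, ← S.el_t] at hyy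
        have h5 := (S.el_inj hyy).2
        rw [show Fr.sw * (Fr.sw * σ * Fr.sw⁻¹) * Fr.sw⁻¹ = (Fr.sw * Fr.sw) * σ * (Fr.sw * Fr.sw)⁻¹ by group,
          Fr.sw_sq, one_mul, inv_one, mul_one] at h5
        have hsfix : Fr.sw * σ * Fr.sw⁻¹ = σ := by
          rw [← inv_eq_of_mul_eq_one_left h5]
          exact inv_eq_of_mul_eq_one_right (Fr.H_sq hσH)
        -- so `x` normalises `T0`
        have hk : s0 * (x * s0 * x⁻¹) ∈ A := by
          rw [show s0 * (x * s0 * x⁻¹) = s0 * x * s0⁻¹ * x⁻¹ by rw [hs0inv]; group]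
          exact mul_mem (hMconj s0 hs0M x hx) (inv_mem hx)
        have hs0t : s0 * S.t * s0⁻¹ = S.t := mul_inv_eq_iff_eq_mul.2 (S.el_comm_t _ _)
        have hk1 : s0 * (x * s0 * x⁻¹) ∈ S.P1 Fr := by
          refine (hker ⟨_, hk⟩).1 ?_
          have hxA' : s0 * x * s0⁻¹ ∈ A := hMconj s0 hs0M x hx
          have e : (⟨s0 * (x * s0 * x⁻¹), hk⟩ : A) = ⟨_, hxA'⟩ * ⟨x, hx⟩⁻¹ := Subtype.ext (by
            show s0 * (x * s0 * x⁻¹) = s0 * x * s0⁻¹ * x⁻¹
            rw [hs0inv]; group)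
          rw [e, map_mul, map_inv]
          have hh := hφt ⟨_, hxA'⟩
          change s0 * x * s0⁻¹ * S.t * (s0 * x * s0⁻¹)⁻¹ = _ at hh
          rw [show s0 * x * s0⁻¹ * S.t * (s0 * x * s0⁻¹)⁻¹ = s0 * (x * (s0⁻¹ * S.t * s0) * x⁻¹) * s0⁻¹ by group,
            show s0⁻¹ * S.t * s0 = S.t by rw [mul_assoc, ← S.el_comm_t, inv_mul_cancel_left], hxt,
            show s0 * S.el true σ * s0⁻¹ = S.el true (Fr.sw * σ * Fr.sw⁻¹) from S.el_conj _ _ _ _, hsfix] at hh
          rw [← (S.el_inj hh).2, ← hσdef, mul_inv_cancel]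
        have hxN : x ∈ normalizer (S.T0 : Set G) := by
          refine mem_normalizer_of_le fun z hz => ?_
          obtain ⟨p, τ, hτ, rfl⟩ := hz
          obtain ⟨a1, b1, i1, j1, rfl⟩ := (hP.symm ▸ hτ : τ ∈ Fr.P)
          have e : S.el p (Fr.elP a1 b1 i1 j1) = S.el p (Fr.elP a1 b1 i1 false) * cond j1 s0 1 := by
            cases j1
            · simp
            · rw [cond_true, hs0, ← Fr.elP_sw, S.el_mul, Frame.elP_mul]
              cases p <;> cases a1 <;> cases b1 <;> cases i1 <;> rfl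
          rw [e, conj_prod]
          refine mul_mem (S.P1_le hP ((mem_normalizer_iff.1 hx.2 _).1 ⟨p, _, ⟨a1, b1, i1, rfl⟩, rfl⟩)) ?_
          cases j1
          · simp [one_mem]
          · rw [cond_true, show x * s0 * x⁻¹ = s0 * (s0 * (x * s0 * x⁻¹)) by rw [← mul_assoc, hs0sq, one_mul]]
            exact mul_mem hs0T (S.P1_le hP hk1)
        rw [hye]
        exact mul_mem (S.T0_le_N hs0T) hxN
      · rintro ⟨hyN, hye⟩
        have hne : y ∉ A := fun h => by
          have h1 := hcentH y h.1 e0 (S.el_mem_HH Fr.e1_mem_H)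
          rw [hye] at h1
          have h2 := (S.el_inj h1).2
          rw [← Fr.a_mul_e1, mul_eq_right] at h2
          exact absurd (Fr.faithful true false false false (by simpa [Frame.a] using h2)).1 (by decide)
        refine ⟨Or.inr ?_, hne⟩
        have hN' : s0 * y ∈ normalizer (S.T0 : Set G) := mul_mem (S.T0_le_N hs0T) hyN
        have hz : ∀ x y' : Bool, s0 * y * S.el false (Fr.elP x y' false false)
            = S.el false (Fr.elP x y' false false) * (s0 * y) := by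
          intro x y'
          obtain ⟨x', y'', e⟩ := S.frame_center hFr x y'
          rw [e]
          exact mul_inv_eq_iff_eq_mul.1 (hF _ hN' x' y'')
        refine hmemA _ (hgen _ ?_ ?_ ?_) ?_
        · rw [ha0, ← Fr.elP_a]; exact hz ..
        · rw [hb0, ← Fr.elP_b]; exact hz ..
        · refine mul_inv_eq_iff_eq_mul.1 ?_
          rw [show s0 * y * e0 * (s0 * y)⁻¹ = s0 * (y * e0 * y⁻¹) * s0⁻¹ by group, hye, ← hswe,
            show s0 * (s0 * e0 * s0⁻¹) * s0⁻¹ = (s0 * s0) * e0 * (s0 * s0)⁻¹ by group, hs0sq]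
          group
        · obtain ⟨x', y', e⟩ := (S.Mp_orbit0_iff hM _).1 (S.mem_orbit0_of_normalizes hN')
          rw [e]
          refine ⟨true, S.F.elP x' y' false false, ?_, rfl⟩
          rcases hFr with rfl | rfl
          · exact ⟨_, _, _, rfl⟩
          · refine ⟨x' ^^ y', y', false, ?_⟩
            rw [S.geo.elP'_eq]
            cases x' <;> cases y' <;> rfl
    have hsplitcard : Nat.card {y : G // y ∈ K2 ∧ S.D y}
        = Nat.card {y : G // y ∈ A ∧ S.D y} + Nat.card {y : G // (y ∈ normalizer (S.T0 : Set G) ∧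
            y * S.el false Fr.e1 * y⁻¹ = S.el false Fr.e2) ∧ S.D y} := by
      rw [← Nat.card_sum]
      refine (Nat.card_congr (Equiv.ofBijective (fun z => Sum.elim
        (fun y : {y : G // y ∈ A ∧ S.D y} => (⟨y.1, Or.inl y.2.1, y.2.2⟩ : {y : G // y ∈ K2 ∧ S.D y}))
        (fun y : {y : G // (y ∈ normalizer (S.T0 : Set G) ∧
            y * S.el false Fr.e1 * y⁻¹ = S.el false Fr.e2) ∧ S.D y} =>
          (⟨y.1, ((hiff y.1 y.2.2).2 y.2.1).1, y.2.2⟩ : {y : G // y ∈ K2 ∧ S.D y})) z) ⟨?_, ?_⟩)).symm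
      · rintro (⟨a, ha⟩ | ⟨a, ha⟩) (⟨b, hb⟩ | ⟨b, hb⟩) e <;>
          simp only [Sum.elim_inl, Sum.elim_inr, Subtype.mk.injEq] at e <;> subst e
        · rfl
        · exact absurd ha.1 ((hiff a hb.2).2 hb.1).2
        · exact absurd hb.1 ((hiff a ha.2).2 ha.1).2
        · rfl
      · rintro ⟨y, hy, hD⟩
        by_cases hyA : y ∈ A
        · exact ⟨Sum.inl ⟨y, hyA, hD⟩, rfl⟩
        · exact ⟨Sum.inr ⟨y, (hiff y hD).1 ⟨hy, hyA⟩, hD⟩, rfl⟩
    rw [hsplitcard, hDA, hout]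
  obtain ⟨f, hf, hmod⟩ := fixed_congr S.hno S.t_sq K2
  have hDK2' : Nat.card {y : G // y ∈ K2 ∧ IsConj S.t y} = U.card * 8 + 16 := hDK2
  rw [hDK2', S.card_C, hK2card] at hf
  have hidx := K2.card_mul_index
  rw [hK2card] at hidx
  have hfval : f = S.geo.κ * (U.card + 2) := by nlinarith
  have h1024' : 1024 ∣ Nat.card G := by
    refine dvd_trans ?_ (Subgroup.card_subgroup_dvd_card M)
    obtain ⟨c, hc⟩ := h1024
    obtain ⟨d, hd⟩ := h32
    exact ⟨c * d, by rw [hMcard, hd, show (UO (tA : G)).card = 4 * c from hc]; ring⟩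
  obtain ⟨c, hc⟩ := h1024'
  obtain ⟨d, hd⟩ := S.geo.κ_odd
  have hu48 : U.card = 4 ∨ U.card = 8 := by
    have := ind_le (h3 true true false ∈ U)
    have := ind_le (h3 true false false ∈ U)
    omega
  have hidx4 : K2.index % 4 = 0 := by omega
  rw [hfval, hidx4, hd] at hmod
  rcases hu48 with h | h <;> rw [h] at hmod <;> omega

end Setup

end Cfsg.Agent.H67.TwoSym
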