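import Cfsg.Agent.H67.TwoSym.Bfix

/-!
# Elementary subgroups of order eight centralised by a conjugate
-/

set_option autoImplicit false
set_option linter.unusedSectionVars false

namespace Cfsg.Agent.H67.TwoSym

open Subgroup Equiv

/-- In a finite group one inclusion suffices for normalising. -/
theorem mem_normalizer_of_le {G : Type*} [Group G] [Finite G] {X : Subgroup G} {g : G}
    (h : ∀ x ∈ X, g * x * g⁻¹ ∈ X) : g ∈ normalizer (X : Set G) := by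
  rw [mem_normalizer_iff]
  refine fun x => ⟨h x, fun hx => ?_⟩
  let φ : X → X := fun y => ⟨g * y * g⁻¹, h y y.2⟩
  have hinj : Function.Injective φ := fun y z e =>
    Subtype.ext (mul_left_cancel (mul_right_cancel (congrArg Subtype.val e)))
  obtain ⟨y, hy⟩ := Finite.surjective_of_injective hinj ⟨_, hx⟩
  have e := mul_left_cancel (mul_right_cancel (congrArg Subtype.val hy))
  exact e ▸ y.2

namespace Setup

variable {G : Type*} [Group G] [Finite G] {k : ℕ} (S : Setup G k)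

/-- The elementary subgroup of order eight of a frame. -/
def HH (Fr : Frame k) : Subgroup G := Fr.H.map S.ι

theorem mem_HH {Fr : Frame k} {x : G} : x ∈ S.HH Fr ↔ ∃ σ ∈ Fr.H, x = S.el false σ := by
  simp [HH, el, eq_comm]

theorem el_mem_HH {Fr : Frame k} {σ : Perm (Fin k)} (h : σ ∈ Fr.H) : S.el false σ ∈ S.HH Fr :=
  S.mem_HH.2 ⟨σ, h, rfl⟩

theorem el_mem_HH_iff {Fr : Frame k} {p : Bool} {σ : Perm (Fin k)} :
    S.el p σ ∈ S.HH Fr ↔ p = false ∧ σ ∈ Fr.H := by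
  refine ⟨fun h => ?_, fun ⟨hp, hσ⟩ => hp ▸ S.el_mem_HH hσ⟩
  obtain ⟨τ, hτ, e⟩ := S.mem_HH.1 h
  obtain ⟨h1, h2⟩ := S.el_inj e
  exact ⟨h1, h2 ▸ hτ⟩

theorem card_HH (Fr : Frame k) : Nat.card (S.HH Fr) = 8 :=
  (Nat.card_congr (Fr.H.equivMapOfInjective S.ι S.inj).symm.toEquiv).trans Fr.card_H

theorem HH_sq {Fr : Frame k} {x : G} (hx : x ∈ S.HH Fr) : x * x = 1 := by
  obtain ⟨σ, hσ, rfl⟩ := S.mem_HH.1 hx
  rw [S.el_mul, Fr.H_sq hσ]; exact S.el_one

theorem HH_not_D (hM : S.IsMp) {Fr : Frame k} {x : G} (hx : x ∈ S.HH Fr) : ¬ S.D x := by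
  obtain ⟨σ, hσ, rfl⟩ := S.mem_HH.1 hx
  rw [S.D_el_iff_Mp hM]
  simp

theorem D_mul_HH (hM : S.IsMp) {Fr : Frame k} {y z : G} (hy : S.D y) (hz : z ∈ S.HH Fr) (hc : z * y = y * z) :
    S.D (y * z) :=
  S.D_mul hM hy (S.HH_sq hz) (S.HH_not_D hM hz) hc

/-- Transport of a pair of a conjugate and an elementary subgroup which it centralises. -/
theorem exists_conj_HH (hM : S.IsMp) {Fr : Frame k} {y : G} (hy : S.D y)
    (hc : ∀ x ∈ S.HH Fr, y * x = x * y) :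
    ∃ g, g * y * g⁻¹ = S.t ∧ ∃ Fr' : Frame k, ∀ x, x ∈ S.HH Fr ↔ g * x * g⁻¹ ∈ S.HH Fr' := by
  classical
  obtain ⟨g₀, hg₀⟩ := isConj_iff.1 hy
  have hgy : g₀⁻¹ * y * g₀⁻¹⁻¹ = S.t := by rw [← hg₀]; group
  set g := g₀⁻¹ with hg
  have hform : ∀ x ∈ S.HH Fr, ∃ σ, g * x * g⁻¹ = S.el false σ := by
    intro x hx
    have h1 : g * x * g⁻¹ * S.t = S.t * (g * x * g⁻¹) := by
      rw [← hgy, show g * x * g⁻¹ * (g * y * g⁻¹) = g * (x * y) * g⁻¹ by group, ← hc x hx]; group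
    obtain ⟨p, σ, e⟩ := S.mem_C _ h1
    change g * x * g⁻¹ = S.el p σ at e
    refine ⟨σ, ?_⟩
    cases p
    · exact e
    · exfalso
      refine S.HH_not_D hM hx ((S.D_conj_iff g x).1 ?_)
      rw [e, S.D_el_iff_Mp hM]
      refine ⟨rfl, ?_⟩
      have h2 : S.el true σ * S.el true σ = 1 := by
        rw [← e, show g * x * g⁻¹ * (g * x * g⁻¹) = g * (x * x) * g⁻¹ by group, S.HH_sq hx]; group
      rw [S.el_mul, ← S.el_one] at h2
      exact (S.el_inj h2).2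
  let Y : Subgroup (Perm (Fin k)) := ((S.HH Fr).map (MulAut.conj g).toMonoidHom).comap S.ι
  have hYmem : ∀ σ, σ ∈ Y ↔ ∃ x ∈ S.HH Fr, g * x * g⁻¹ = S.el false σ := by
    intro σ
    simp [Y, el]
  have hYsq : ∀ σ ∈ Y, σ * σ = 1 := by
    intro σ hσ
    obtain ⟨x, hx, e⟩ := (hYmem σ).1 hσ
    have h2 : S.el false σ * S.el false σ = 1 := by
      rw [← e, show g * x * g⁻¹ * (g * x * g⁻¹) = g * (x * x) * g⁻¹ by group, S.HH_sq hx]; group
    rw [S.el_mul, ← S.el_one] at h2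
    exact (S.el_inj h2).2
  choose fσ hfσ using hform
  have hYcard : Nat.card Y = 8 := by
    rw [← S.card_HH Fr]
    refine (Nat.card_congr (Equiv.ofBijective
      (fun x : S.HH Fr => (⟨fσ x x.2, (hYmem _).2 ⟨x, x.2, hfσ x x.2⟩⟩ : Y)) ⟨?_, ?_⟩)).symm
    · intro a b h
      have h' : fσ a a.2 = fσ b b.2 := congrArg Subtype.val h
      exact Subtype.ext (mul_left_cancel (mul_right_cancel ((hfσ a a.2).trans (h' ▸ (hfσ b b.2).symm))))
    · rintro ⟨σ, hσ⟩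
      obtain ⟨x, hx, e⟩ := (hYmem σ).1 hσ
      exact ⟨⟨x, hx⟩, Subtype.ext (S.el_inj ((hfσ x hx).symm.trans e)).2⟩
  have : Fact (Nat.Prime 2) := ⟨Nat.prime_two⟩
  have hY2 : IsPGroup 2 Y := IsPGroup.of_card (n := 3) (by rw [hYcard]; rfl)
  have hfac : 2 ^ (Nat.card (Perm (Fin k))).factorization 2 = 16 := by
    rw [S.geo.card_perm, Nat.factorization_mul (by norm_num) (Nat.pos_iff_ne_zero.1 S.geo.κ_odd.pos),
      Finsupp.add_apply, Nat.factorization_eq_zero_of_not_dvd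
        (fun h => Nat.not_even_iff_odd.2 S.geo.κ_odd (even_iff_two_dvd.2 h)), add_zero,
      show (16 : ℕ) = 2 ^ 4 by norm_num, Nat.Prime.factorization_pow Nat.prime_two, Finsupp.single_eq_same]
  obtain ⟨Q, hQ⟩ := hY2.exists_le_sylow
  obtain ⟨τ, hτ⟩ := MulAction.exists_smul_eq (Perm (Fin k)) Q (Sylow.ofCard _ (S.F.card_P.trans hfac.symm))
  have hQP : ∀ σ ∈ Y, τ * σ * τ⁻¹ ∈ S.F.P := fun σ hσ => by
    have h1 : τ * σ * τ⁻¹ ∈ ((τ • Q : Sylow 2 (Perm (Fin k))) : Subgroup (Perm (Fin k))) := by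
      rw [show τ * σ * τ⁻¹ = MulAut.conj τ • σ from rfl, Sylow.coe_subgroup_smul,
        Subgroup.smul_mem_pointwise_smul_iff]
      exact hQ hσ
    rw [hτ] at h1
    exact h1
  let X := Y.map (MulAut.conj τ).toMonoidHom
  have hXP : X ≤ S.F.P := by rintro _ ⟨σ, hσ, rfl⟩; exact hQP σ hσ
  have hXsq : ∀ σ ∈ X, σ * σ = 1 := by
    rintro _ ⟨σ, hσ, rfl⟩
    rw [← map_mul, hYsq σ hσ, map_one]
  have hXcard : Nat.card X = 8 :=
    (Nat.card_congr (Y.equivMapOfInjective _ (MulAut.conj τ).injective).symm.toEquiv).trans hYcard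
  obtain ⟨Fr', hFr'⟩ : ∃ Fr' : Frame k, X = Fr'.H := by
    rcases S.geo.le_H_or hXP hXsq with h | h
    · exact ⟨S.F, Subgroup.eq_of_le_of_card_ge h (by rw [hXcard]; exact le_of_eq S.geo.F.card_H)⟩
    · exact ⟨S.geo.F', Subgroup.eq_of_le_of_card_ge h (by rw [hXcard]; exact le_of_eq S.geo.F'.card_H)⟩
  refine ⟨S.el false τ * g, ?_, Fr', fun x => ?_⟩
  · rw [show S.el false τ * g * y * (S.el false τ * g)⁻¹ = S.el false τ * (g * y * g⁻¹) * (S.el false τ)⁻¹ by group,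
      hgy, S.el_comm_t, mul_assoc, mul_inv_cancel, mul_one]
  · rw [show S.el false τ * g * x * (S.el false τ * g)⁻¹ = S.el false τ * (g * x * g⁻¹) * (S.el false τ)⁻¹ by group]
    constructor
    · intro hx
      rw [hfσ x hx, S.el_conj]
      refine S.el_mem_HH (hFr' ▸ ?_)
      exact ⟨_, (hYmem _).2 ⟨x, hx, hfσ x hx⟩, rfl⟩
    · intro h
      obtain ⟨σ, hσ, e⟩ := S.mem_HH.1 h
      rw [← hFr'] at hσ
      obtain ⟨ρ', hρ', rfl⟩ := hσ
      obtain ⟨x', hx', ex⟩ := (hYmem ρ').1 hρ'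
      have e2 : S.el false τ * (g * x * g⁻¹) * (S.el false τ)⁻¹
          = S.el false τ * (g * x' * g⁻¹) * (S.el false τ)⁻¹ := by
        rw [e, ex, S.el_conj]; rfl
      have := mul_left_cancel (mul_right_cancel (mul_left_cancel (mul_right_cancel e2)))
      exact this ▸ hx'

/-- The centraliser of a conjugate and an elementary subgroup of order eight has order sixteen. -/
theorem card_cent_HH (hM : S.IsMp) {Fr : Frame k} {y : G} (hy : S.D y)
    (hc : ∀ x ∈ S.HH Fr, y * x = x * y) :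
    Nat.card (centralizer ({y} : Set G) ⊓ centralizer (S.HH Fr : Set G) : Subgroup G) = 16 := by
  obtain ⟨g, hg, Fr', hH⟩ := S.exists_conj_HH hM hy hc
  rw [← S.card_P1 Fr']
  refine Nat.card_congr
    { toFun := fun x => ⟨g * x.1 * g⁻¹, ?_⟩
      invFun := fun x => ⟨g⁻¹ * x.1 * g, ?_⟩
      left_inv := fun x => Subtype.ext (show g⁻¹ * (g * x.1 * g⁻¹) * g = x.1 by group)
      right_inv := fun x => Subtype.ext (show g * (g⁻¹ * x.1 * g) * g⁻¹ = x.1 by group) }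
  · obtain ⟨x, hx1, hx2⟩ := x
    show g * x * g⁻¹ ∈ S.P1 Fr'
    have h1 : g * x * g⁻¹ * S.t = S.t * (g * x * g⁻¹) := by
      rw [← hg, show g * x * g⁻¹ * (g * y * g⁻¹) = g * (x * y) * g⁻¹ by group, mem_centralizer_singleton_iff.1 hx1]
      group
    obtain ⟨p, σ, e⟩ := S.mem_C _ h1
    change g * x * g⁻¹ = S.el p σ at e
    refine ⟨p, σ, Fr'.mem_H_of_commute fun τ hτ => ?_, e⟩
    have hz : g⁻¹ * S.el false τ * g ∈ S.HH Fr := (hH _).2 (by
      rw [show g * (g⁻¹ * S.el false τ * g) * g⁻¹ = S.el false τ by group]; exact S.el_mem_HH hτ)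
    have h3 := mem_centralizer_iff.1 hx2 _ hz
    have h4 : S.el p σ * S.el false τ = S.el false τ * S.el p σ := by
      rw [← e]
      calc g * x * g⁻¹ * S.el false τ = g * (x * (g⁻¹ * S.el false τ * g)) * g⁻¹ := by group
        _ = g * (g⁻¹ * S.el false τ * g * x) * g⁻¹ := by rw [h3]
        _ = S.el false τ * (g * x * g⁻¹) := by group
    rw [S.el_mul, S.el_mul] at h4
    exact (S.el_inj h4).2
  · obtain ⟨x, p, σ, hσ, rfl⟩ := x
    refine ⟨mem_centralizer_singleton_iff.2 ?_, mem_centralizer_iff.2 fun z hz => ?_⟩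
    · calc g⁻¹ * S.el p σ * g * y = g⁻¹ * (S.el p σ * (g * y * g⁻¹)) * g := by group
        _ = g⁻¹ * (g * y * g⁻¹ * S.el p σ) * g := by rw [hg, S.el_comm_t]
        _ = y * (g⁻¹ * S.el p σ * g) := by group
    · obtain ⟨τ, hτ, e⟩ := S.mem_HH.1 ((hH z).1 hz)
      calc z * (g⁻¹ * S.el p σ * g) = g⁻¹ * (g * z * g⁻¹ * S.el p σ) * g := by group
        _ = g⁻¹ * (S.el p σ * (g * z * g⁻¹)) * g := by
          rw [e, S.el_mul, S.el_mul, Fr'.H_comm hσ hτ, Bool.xor_comm]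
        _ = g⁻¹ * S.el p σ * g * z := by group

/-- No elements of order five or seven centralise a conjugate and normalise its elementary subgroup. -/
theorem eq_one_of_normalises_HH (hM : S.IsMp) {Fr : Frame k} {y x : G} (hy : S.D y)
    (hc : ∀ z ∈ S.HH Fr, y * z = z * y) (hxy : x * y = y * x)
    (hxH : ∀ z ∈ S.HH Fr, x * z * x⁻¹ ∈ S.HH Fr) (hp : x ^ 5 = 1 ∨ x ^ 7 = 1) : x = 1 := by
  obtain ⟨g, hg, Fr', hH⟩ := S.exists_conj_HH hM hy hc
  have h1 : g * x * g⁻¹ * S.t = S.t * (g * x * g⁻¹) := by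
    rw [← hg, show g * x * g⁻¹ * (g * y * g⁻¹) = g * (x * y) * g⁻¹ by group, hxy]; group
  obtain ⟨p, σ, e⟩ := S.mem_C _ h1
  change g * x * g⁻¹ = S.el p σ at e
  have hpow : ∀ n : ℕ, (g * x * g⁻¹) ^ n = S.el (decide (n % 2 = 1) && p) (σ ^ n) := by
    intro n
    induction n with
    | zero => simp [S.el_one]
    | succ n ih =>
      rw [pow_succ, ih, e, S.el_mul, pow_succ]
      congr 1
      rcases Nat.mod_two_eq_zero_or_one n with h | h <;> cases p <;> simp [h, Nat.add_mod]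
  have hnorm : ∀ τ ∈ Fr'.H, σ * τ * σ⁻¹ ∈ Fr'.H := by
    intro τ hτ
    have hz : g⁻¹ * S.el false τ * g ∈ S.HH Fr := (hH _).2 (by
      rw [show g * (g⁻¹ * S.el false τ * g) * g⁻¹ = S.el false τ by group]; exact S.el_mem_HH hτ)
    have h2 := (hH _).1 (hxH _ hz)
    rw [show g * (x * (g⁻¹ * S.el false τ * g) * x⁻¹) * g⁻¹
      = g * x * g⁻¹ * S.el false τ * (g * x * g⁻¹)⁻¹ by group, e, S.el_conj, S.el_mem_HH_iff] at h2
    exact h2.2
  have hσp : (σ ^ 5 = 1 ∨ σ ^ 7 = 1) ∧ p = false := by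
    rcases hp with h | h
    · have h2 := hpow 5
      rw [conj_pow, h, mul_one, mul_inv_cancel, ← S.el_one] at h2
      obtain ⟨h3, h4⟩ := S.el_inj h2
      exact ⟨Or.inl h4.symm, by simpa using h3⟩
    · have h2 := hpow 7
      rw [conj_pow, h, mul_one, mul_inv_cancel, ← S.el_one] at h2
      obtain ⟨h3, h4⟩ := S.el_inj h2
      exact ⟨Or.inr h4.symm, by simpa using h3⟩
  rw [hσp.2, Fr'.eq_one_of_normalises hnorm hσp.1, S.el_one, mul_inv_eq_one, mul_eq_left] at e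
  exact e

/-- An element of order three centralising a conjugate and moving its elementary subgroup. -/
theorem exists_three (hM : S.IsMp) {Fr : Frame k} {y : G} (hy : S.D y)
    (hc : ∀ z ∈ S.HH Fr, y * z = z * y) :
    ∃ r : G, r * r * r = 1 ∧ r * y = y * r ∧ (∀ z ∈ S.HH Fr, r * z * r⁻¹ ∈ S.HH Fr) ∧
      r ∉ centralizer (S.HH Fr : Set G) := by
  obtain ⟨g, hg, Fr', hH⟩ := S.exists_conj_HH hM hy hc
  refine ⟨g⁻¹ * S.el false Fr'.ρ * g, ?_, ?_, fun z hz => ?_, fun h => ?_⟩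
  · rw [show g⁻¹ * S.el false Fr'.ρ * g * (g⁻¹ * S.el false Fr'.ρ * g) * (g⁻¹ * S.el false Fr'.ρ * g)
      = g⁻¹ * (S.el false Fr'.ρ * S.el false Fr'.ρ * S.el false Fr'.ρ) * g by group, S.el_mul, S.el_mul,
      Fr'.ρ_cube, Bool.xor_self, Bool.xor_self, S.el_one]
    group
  · calc g⁻¹ * S.el false Fr'.ρ * g * y = g⁻¹ * (S.el false Fr'.ρ * (g * y * g⁻¹)) * g := by group
      _ = g⁻¹ * (g * y * g⁻¹ * S.el false Fr'.ρ) * g := by rw [hg, S.el_comm_t]
      _ = y * (g⁻¹ * S.el false Fr'.ρ * g) := by group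
  · refine (hH _).2 ?_
    obtain ⟨τ, hτ, e⟩ := S.mem_HH.1 ((hH z).1 hz)
    rw [show g * (g⁻¹ * S.el false Fr'.ρ * g * z * (g⁻¹ * S.el false Fr'.ρ * g)⁻¹) * g⁻¹
      = S.el false Fr'.ρ * (g * z * g⁻¹) * (S.el false Fr'.ρ)⁻¹ by group, e, S.el_conj]
    refine S.el_mem_HH ?_
    have h1 : Fr'.ρ * Fr'.e1 * Fr'.ρ⁻¹ = Fr'.e2 := by
      rw [mul_inv_eq_iff_eq_mul]; exact Fr'.ρ_e1
    have h2 : Fr'.ρ * Fr'.b * Fr'.ρ⁻¹ = Fr'.e1 := by
      rw [mul_inv_eq_iff_eq_mul]; exact Fr'.ρ_b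
    have h3 : Fr'.ρ * Fr'.a * Fr'.ρ⁻¹ = Fr'.e2 * Fr'.b := by
      rw [mul_inv_eq_iff_eq_mul]; exact Fr'.ρ_a
    obtain ⟨x, v, i, rfl⟩ := Fr'.mem_H'.1 hτ
    rw [conj_prod, conj_prod]
    refine mul_mem (mul_mem ?_ ?_) ?_
    · cases x
      · simp only [cond_false, mul_one, mul_inv_cancel]; exact one_mem _
      · rw [cond_true, h3]; exact mul_mem Fr'.e2_mem_H Fr'.b_mem_H
    · cases v
      · simp only [cond_false, mul_one, mul_inv_cancel]; exact one_mem _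
      · rw [cond_true, h2]; exact Fr'.e1_mem_H
    · cases i
      · simp only [cond_false, mul_one, mul_inv_cancel]; exact one_mem _
      · rw [cond_true, h1]; exact Fr'.e2_mem_H
  · have hz : g⁻¹ * S.el false Fr'.e1 * g ∈ S.HH Fr := (hH _).2 (by
      rw [show g * (g⁻¹ * S.el false Fr'.e1 * g) * g⁻¹ = S.el false Fr'.e1 by group]
      exact S.el_mem_HH Fr'.e1_mem_H)
    have h2 := mem_centralizer_iff.1 h _ hz
    have h3 : S.el false Fr'.e1 * S.el false Fr'.ρ = S.el false Fr'.ρ * S.el false Fr'.e1 := by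
      calc S.el false Fr'.e1 * S.el false Fr'.ρ
          = g * (g⁻¹ * S.el false Fr'.e1 * g * (g⁻¹ * S.el false Fr'.ρ * g)) * g⁻¹ := by group
        _ = g * (g⁻¹ * S.el false Fr'.ρ * g * (g⁻¹ * S.el false Fr'.e1 * g)) * g⁻¹ := by rw [h2]
        _ = S.el false Fr'.ρ * S.el false Fr'.e1 := by group
    rw [S.el_mul, S.el_mul] at h3
    have h4 : Fr'.e1 * Fr'.ρ = Fr'.e2 * Fr'.ρ := (S.el_inj h3).2.trans Fr'.ρ_e1
    have h5 := mul_right_cancel h4
    rw [← Fr'.a_mul_e1, eq_comm, mul_eq_right] at h5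
    exact absurd (Fr'.faithful true false false false (by simpa [Frame.a] using h5)).1 (by decide)

end Setup

end Cfsg.Agent.H67.TwoSym
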