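import Cfsg.Agent.H67.TwoSym.Gamma

/-!
# Lifting the translations of `t` to involution-like elements of the normaliser
-/

set_option autoImplicit false
set_option linter.unusedSectionVars false
set_option linter.unusedSimpArgs false
set_option linter.unusedTactic false
set_option linter.unreachableTactic false

namespace Cfsg.Agent.H67.TwoSym

open Subgroup Equiv Equiv.Perm

theorem Frame.elP_b {k : ℕ} (F : Frame k) : F.elP false true false false = F.b := by simp [Frame.elP]

theorem Frame.elP_a {k : ℕ} (F : Frame k) : F.elP true false false false = F.a := by simp [Frame.elP]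

theorem Frame.elP_e1 {k : ℕ} (F : Frame k) : F.elP false false true false = F.e1 := by simp [Frame.elP]

theorem Frame.elP_sw {k : ℕ} (F : Frame k) : F.elP false false false true = F.sw := by simp [Frame.elP]

theorem Frame.elP_one {k : ℕ} (F : Frame k) : F.elP false false false false = 1 := by simp [Frame.elP]

theorem Frame.sgn_elP {k : ℕ} (F : Frame k) (x y i j : Bool) :
    sign (F.elP x y i j) = cond (y ^^ i) (-1) 1 := by
  cases x <;> cases y <;> cases i <;> cases j <;>
    simp [Frame.elP, map_mul, F.sgn_a, F.sgn_b, F.sgn_e1, F.sgn_sw]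

namespace Setup

variable {G : Type*} [Group G] [Finite G] {k : ℕ} (S : Setup G k)

/-- The four group is central in the normaliser of `T0`. -/
def FixZ : Prop := ∀ g ∈ normalizer (S.T0 : Set G), ∀ x y : Bool,
  g * S.e false x y false false * g⁻¹ = S.e false x y false false

theorem Mp_fix (hM : S.IsMp) : S.FixZ := by
  have hstep : ∀ g ∈ normalizer (S.T0 : Set G), ∃ x', g * S.e false false true false false * g⁻¹
      = S.e false x' true false false := by
    intro g hg
    obtain ⟨x', y', e⟩ := S.Mp_conj_Z hM hg false false true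
    refine ⟨x', ?_⟩
    cases y'
    · exfalso
      have h : g * S.e false false true false false * g⁻¹ = g * S.e false x' false false false * g⁻¹ :=
        e.trans (S.conj_e_a hg x').symm
      exact absurd (S.e_inj (mul_left_cancel (mul_right_cancel h))).2.2.1 (by decide)
    · exact e
  obtain ⟨ub, hub, hubt⟩ := S.exists_translation hM false true
  obtain ⟨uc, huc, huct⟩ := S.exists_translation hM true true
  obtain ⟨xb, hxb⟩ := hstep ub hub
  obtain rfl : xb = false := by
    cases xb
    · rfl
    · exact (S.gamma_absurd hM hub hubt hxb).elim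
  obtain ⟨xc, hxc⟩ := hstep uc huc
  obtain rfl : xc = false := by
    cases xc
    · rfl
    · exfalso
      have h : uc * ub * S.t * (uc * ub)⁻¹ = S.t := by
        rw [show uc * ub * S.t * (uc * ub)⁻¹ = uc * (ub * S.t * ub⁻¹) * uc⁻¹ by group, hubt,
          show S.e true false true false false = S.t * S.e false false true false false by
            rw [← S.e_t, S.e_mul]; rfl,
          conj_prod, huct, hxc, S.e_mul, ← S.e_t]
        rfl
      have h2 := S.Mp_conj_comm_Z false false true
        (S.mem_T0_of_normalizes (mul_mem huc hub) (mul_inv_eq_iff_eq_mul.1 h))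
      rw [show uc * ub * S.e false false true false false * (uc * ub)⁻¹
        = uc * (ub * S.e false false true false false * ub⁻¹) * uc⁻¹ by group, hxb, hxc] at h2
      exact absurd (S.e_inj h2).2.1 (by decide)
  intro g hg x y
  have hb : g * S.e false false true false false * g⁻¹ = S.e false false true false false := by
    obtain ⟨x0, y0, e⟩ := S.Mp_moves hM hg
    obtain ⟨w, hw, hwt, hwb⟩ : ∃ w ∈ normalizer (S.T0 : Set G), w * S.t * w⁻¹ = S.e true x0 y0 false false ∧
        w * S.e false false true false false * w⁻¹ = S.e false false true false false := by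
      cases x0 <;> cases y0
      · exact ⟨1, one_mem _, by rw [one_mul, inv_one, mul_one, S.e_t], by group⟩
      · exact ⟨ub, hub, hubt, hxb⟩
      · refine ⟨uc * ub, mul_mem huc hub, ?_, ?_⟩
        · rw [show uc * ub * S.t * (uc * ub)⁻¹ = uc * (ub * S.t * ub⁻¹) * uc⁻¹ by group, hubt,
            show S.e true false true false false = S.t * S.e false false true false false by
              rw [← S.e_t, S.e_mul]; rfl,
            conj_prod, huct, hxc, S.e_mul]
          rfl
        · rw [show uc * ub * S.e false false true false false * (uc * ub)⁻¹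
            = uc * (ub * S.e false false true false false * ub⁻¹) * uc⁻¹ by group, hxb, hxc]
      · exact ⟨uc, huc, huct, hxc⟩
    rw [show g * S.e false false true false false * g⁻¹
      = w * (w⁻¹ * g * S.e false false true false false * (w⁻¹ * g)⁻¹) * w⁻¹ by group,
      S.Mp_conj_comm_Z _ _ _ (S.same_coset hw hg (hwt.trans e.symm)), hwb]
  rw [show S.e false x y false false = S.e false x false false false * S.e false false y false false by
    rw [S.e_mul]; simp, conj_prod, S.conj_e_a hg]
  cases y
  · rw [S.e_one]; group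
  · rw [hb]

theorem frame_P {Fr : Frame k} (hFr : Fr = S.F ∨ Fr = S.geo.F') : Fr.P = S.F.P := by
  rcases hFr with rfl | rfl
  exacts [rfl, S.geo.P']

theorem frame_center {Fr : Frame k} (hFr : Fr = S.F ∨ Fr = S.geo.F') (x y : Bool) :
    ∃ x' y', ∀ p, S.el p (Fr.elP x y false false) = S.e p x' y' false false := by
  rcases hFr with rfl | rfl
  · exact ⟨x, y, fun p => rfl⟩
  · refine ⟨x ^^ y, y, fun p => ?_⟩
    rw [S.geo.elP'_eq, e]
    cases x <;> cases y <;> rfl

/-- A representative of the translation by `b` of a frame, with square in `⟨a⟩`. -/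
theorem exists_lift (hM : S.IsMp) (hF : S.FixZ) {Fr : Frame k} (hFr : Fr = S.F ∨ Fr = S.geo.F') :
    ∃ g ∈ normalizer (S.T0 : Set G), ∃ δ q : Bool,
      g * S.t * g⁻¹ = S.el true (Fr.elP false true false false) ∧
      g * S.el false (Fr.elP false false true false) * g⁻¹ = S.el false (Fr.elP false δ true false) ∧
      g * S.el false (Fr.elP false false false true) * g⁻¹ = S.el false (Fr.elP false false false true) ∧
      g * g = S.el false (Fr.elP q false false false) := by
  have hP := S.frame_P hFr
  have hmul : ∀ p q x y i j x' y' i' j', S.el p (Fr.elP x y i j) * S.el q (Fr.elP x' y' i' j')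
      = S.el (p ^^ q) (Fr.elP ((x ^^ x') ^^ (j && i')) (y ^^ y') (i ^^ i') (j ^^ j')) := by
    intros; rw [S.el_mul, Frame.elP_mul]
  have hT : ∀ p x y i j, S.el p (Fr.elP x y i j) ∈ S.T0 := fun p x y i j =>
    S.el_mem_T0 p (hP ▸ Fr.elP_mem x y i j)
  have hZfix : ∀ g ∈ normalizer (S.T0 : Set G), ∀ x y,
      g * S.el false (Fr.elP x y false false) * g⁻¹ = S.el false (Fr.elP x y false false) := by
    intro g hg x y
    obtain ⟨x', y', e⟩ := S.frame_center hFr x y
    rw [e]; exact hF g hg x' y'
  have hinv : ∀ {σ : G}, σ * σ = 1 → σ⁻¹ = σ := fun h => inv_eq_of_mul_eq_one_right h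
  obtain ⟨g, hg, hgt⟩ : ∃ g ∈ normalizer (S.T0 : Set G),
      g * S.t * g⁻¹ = S.el true (Fr.elP false true false false) := by
    obtain ⟨x', y', e⟩ := S.frame_center hFr false true
    rw [e]; exact S.exists_translation hM x' y'
  have hgB := hZfix g hg false true
  -- images of elements centralising `t` and `b`
  have hC : ∀ σ : Perm (Fin k), σ * Fr.b = Fr.b * σ →
      ∃ q τ, g * S.el false σ * g⁻¹ = S.el q τ ∧ τ * Fr.b = Fr.b * τ := by
    intro σ hσ
    have h1 : g * S.el false σ * g⁻¹ * (g * S.t * g⁻¹) = g * S.t * g⁻¹ * (g * S.el false σ * g⁻¹) := by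
      rw [← conj_prod, S.el_comm_t, conj_prod]
    have h2 : g * S.el false σ * g⁻¹ * S.el false (Fr.elP false true false false)
        = S.el false (Fr.elP false true false false) * (g * S.el false σ * g⁻¹) := by
      rw [← hgB, ← conj_prod, ← conj_prod, S.el_mul, S.el_mul, Fr.elP_b, hσ]
    rw [hgt] at h1
    have htb : S.t = S.el true (Fr.elP false true false false) * S.el false (Fr.elP false true false false) := by
      rw [hmul, ← S.el_t, ← Fr.elP_one]; rfl
    have h3 : g * S.el false σ * g⁻¹ * S.t = S.t * (g * S.el false σ * g⁻¹) := by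
      rw [htb, ← mul_assoc, h1, mul_assoc, h2, ← mul_assoc]
    obtain ⟨q, τ, e⟩ := S.mem_C _ h3
    change g * S.el false σ * g⁻¹ = S.el q τ at e
    refine ⟨q, τ, e, ?_⟩
    rw [e, S.el_mul, S.el_mul, Fr.elP_b] at h2
    exact (S.el_inj h2).2
  obtain ⟨q0, τ, hτ, hτb⟩ := hC Fr.qq Fr.qq_b
  have hswi : g * S.el false (Fr.elP false false false true) * g⁻¹ = S.el false (τ * τ) := by
    rw [Fr.elP_sw, ← Fr.qq_sq, show S.el false (Fr.qq * Fr.qq) = S.el false Fr.qq * S.el false Fr.qq by
      rw [S.el_mul]; rfl, conj_prod, hτ, S.el_mul]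
    cases q0 <;> rfl
  obtain ⟨X, hsw⟩ : ∃ X, g * S.el false (Fr.elP false false false true) * g⁻¹
      = S.el false (Fr.elP X false false true) := by
    obtain ⟨p, σ, hσ, e⟩ := S.normalizer_normal hg (hT false false false false true)
    rw [hswi] at e
    obtain ⟨rfl, hττ⟩ := S.el_inj e
    obtain ⟨X, Y, I, J, rfl⟩ := (hP.symm ▸ hσ : σ ∈ Fr.P)
    have hs : sign (τ * τ) = 1 := by rw [map_mul, Int.units_mul_self]
    rw [hττ, Fr.sgn_elP] at hs
    obtain rfl : I = Y := by revert hs; cases Y <;> cases I <;> simp
    have hsq : (I && J) = false := by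
      have h1 : g * S.el false (Fr.elP false false false true) * g⁻¹ * (g * S.el false (Fr.elP false false false true) * g⁻¹) = 1 := by
        rw [← conj_prod, hmul]
        simp [Fr.elP_one, S.el_one]
      rw [hswi, hττ, hmul, ← S.el_one] at h1
      have := Fr.elP_inj ((S.el_inj h1).2.trans Fr.elP_one.symm)
      have h2 := this.1
      revert h2; cases X <;> cases I <;> cases J <;> simp
    cases I
    · refine ⟨X, ?_⟩
      cases J
      · exfalso
        rw [hττ] at hswi
        have h2 : g * S.el false (Fr.elP false false false true) * g⁻¹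
            = g * S.el false (Fr.elP X false false false) * g⁻¹ := by rw [hswi, hZfix g hg]
        exact absurd (Fr.elP_inj (S.el_inj (mul_left_cancel (mul_right_cancel h2))).2).2.2.2 (by decide)
      · rw [hswi, hττ]
    · exfalso
      obtain rfl : J = false := by simpa using hsq
      cases X
      · apply Fr.sq_ne τ hτb
        rw [hττ, ← Fr.b_e1]; simp [Frame.elP]
      · apply Fr.sq_ne (Fr.sw * τ * Fr.sw)
        · calc Fr.sw * τ * Fr.sw * Fr.b = Fr.sw * τ * (Fr.b * Fr.sw) := by rw [Fr.b_sw, mul_assoc]
            _ = Fr.sw * (τ * Fr.b) * Fr.sw := by group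
            _ = Fr.sw * Fr.b * τ * Fr.sw := by rw [hτb]; group
            _ = Fr.b * (Fr.sw * τ * Fr.sw) := by rw [← Fr.b_sw]; group
        · calc Fr.sw * τ * Fr.sw * (Fr.sw * τ * Fr.sw) = Fr.sw * τ * (Fr.sw * Fr.sw) * τ * Fr.sw := by group
            _ = Fr.sw * (τ * τ) * Fr.sw := by rw [Fr.sw_sq]; group
            _ = Fr.e1 * Fr.b := by
              rw [hττ, show Fr.sw = Fr.elP false false false true from Fr.elP_sw.symm,
                show Fr.e1 * Fr.b = Fr.elP false true true false by rw [← Fr.b_e1]; simp [Frame.elP],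
                Frame.elP_mul, Frame.elP_mul]
              rfl
  obtain ⟨X2, δ, he1⟩ : ∃ X2 δ, g * S.el false (Fr.elP false false true false) * g⁻¹
      = S.el false (Fr.elP X2 δ true false) := by
    obtain ⟨p, σ, hσ, e⟩ := S.normalizer_normal hg (hT false false false true false)
    obtain ⟨X2, Y2, I2, J2, rfl⟩ := (hP.symm ▸ hσ : σ ∈ Fr.P)
    have hD : ¬ S.D (S.el p (Fr.elP X2 Y2 I2 J2)) := by
      rw [← e, S.D_conj_iff, S.D_el_iff_Mp hM]; simp
    have h1 : g * S.el false (Fr.elP false false true false) * g⁻¹ * (g * S.el false (Fr.elP false false true false) * g⁻¹) = 1 := by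
      rw [← conj_prod, hmul]; simp [Fr.elP_one, S.el_one]
    rw [e, hmul, ← S.el_one] at h1
    have h2 := Fr.elP_inj ((S.el_inj h1).2.trans Fr.elP_one.symm)
    have hsq : (I2 && J2) = false := by have := h2.1; revert this; cases X2 <;> cases I2 <;> cases J2 <;> simp
    obtain rfl : p = false := by
      cases p
      · rfl
      · refine absurd ((S.D_el_iff_Mp hM _ _).2 ⟨rfl, ?_⟩) hD
        rw [Frame.sq_elP, hsq, Fr.elP_one]
    refine ⟨X2, Y2, e.trans ?_⟩
    cases I2
    · exfalso
      have h3 : g * (S.el false (Fr.elP false false true false) * S.el false (Fr.elP false false false true)) * g⁻¹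
          * (g * (S.el false (Fr.elP false false true false) * S.el false (Fr.elP false false false true)) * g⁻¹) = 1 := by
        rw [conj_prod, e, hsw, hmul, hmul]
        cases X <;> cases X2 <;> cases Y2 <;> cases J2 <;> simp [Fr.elP_one, S.el_one]
      rw [← conj_prod, hmul, hmul, mul_inv_eq_one, mul_eq_left, ← S.el_one] at h3
      exact absurd (Fr.elP_inj ((S.el_inj h3).2.trans Fr.elP_one.symm)).1 (by decide)
    · obtain rfl : J2 = false := by simpa using hsq
      rfl
  -- adjust by an element of `T0`
  set w := S.el false (Fr.elP false false X X2) with hwdef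
  have hw : w ∈ S.T0 := hT ..
  have hconj1 : w * S.el false (Fr.elP false false true false) * w⁻¹ = S.el false (Fr.elP X2 false true false) := by
    rw [mul_inv_eq_iff_eq_mul, hwdef, hmul, hmul]
    cases X <;> cases X2 <;> rfl
  have hconj2 : w * S.el false (Fr.elP false false false true) * w⁻¹ = S.el false (Fr.elP X false false true) := by
    rw [mul_inv_eq_iff_eq_mul, hwdef, hmul, hmul]
    cases X <;> cases X2 <;> rfl
  set g1 := g * w with hg1def
  have hg1 : g1 ∈ normalizer (S.T0 : Set G) := mul_mem hg (S.T0_le_N hw)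
  have hg1t : g1 * S.t * g1⁻¹ = S.el true (Fr.elP false true false false) := by
    rw [hg1def, show g * w * S.t * (g * w)⁻¹ = g * (w * S.t * w⁻¹) * g⁻¹ by group,
      show w * S.t * w⁻¹ = S.t from mul_inv_eq_iff_eq_mul.2 (S.el_comm_t _ _), hgt]
  have hg1e : g1 * S.el false (Fr.elP false false true false) * g1⁻¹ = S.el false (Fr.elP false δ true false) := by
    rw [hg1def, show g * w * S.el false (Fr.elP false false true false) * (g * w)⁻¹
      = g * (w * S.el false (Fr.elP false false true false) * w⁻¹) * g⁻¹ by group, hconj1,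
      show S.el false (Fr.elP X2 false true false)
        = S.el false (Fr.elP X2 false false false) * S.el false (Fr.elP false false true false) by
        rw [hmul]; cases X2 <;> rfl, conj_prod, hZfix g hg, he1, hmul]
    cases X2 <;> cases δ <;> rfl
  have hg1s : g1 * S.el false (Fr.elP false false false true) * g1⁻¹ = S.el false (Fr.elP false false false true) := by
    rw [hg1def, show g * w * S.el false (Fr.elP false false false true) * (g * w)⁻¹
      = g * (w * S.el false (Fr.elP false false false true) * w⁻¹) * g⁻¹ by group, hconj2,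
      show S.el false (Fr.elP X false false true)
        = S.el false (Fr.elP X false false false) * S.el false (Fr.elP false false false true) by
        rw [hmul]; cases X <;> rfl, conj_prod, hZfix g hg, hsw, hmul]
    cases X <;> rfl
  -- its square
  have htsplit : S.el true (Fr.elP false true false false) = S.t * S.el false (Fr.elP false true false false) := by
    rw [← S.el_t, ← Fr.elP_one, hmul]; rfl
  have hsqt : g1 * g1 * S.t * (g1 * g1)⁻¹ = S.t := by
    rw [show g1 * g1 * S.t * (g1 * g1)⁻¹ = g1 * (g1 * S.t * g1⁻¹) * g1⁻¹ by group, hg1t, htsplit, conj_prod, hg1t,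
      hZfix g1 hg1, hmul, ← S.el_t]
    simp [Fr.elP_one]
  obtain ⟨p, σ, hσ, hsq⟩ := S.mem_T0_of_normalizes (mul_mem hg1 hg1) (mul_inv_eq_iff_eq_mul.1 hsqt)
  obtain ⟨Xs, Ys, Is, Js, rfl⟩ := (hP.symm ▸ hσ : σ ∈ Fr.P)
  have hc1 : S.el p (Fr.elP Xs Ys Is Js) * S.el false (Fr.elP false false true false)
      = S.el false (Fr.elP false false true false) * S.el p (Fr.elP Xs Ys Is Js) := by
    refine mul_inv_eq_iff_eq_mul.1 ?_
    rw [← hsq, show g1 * g1 * S.el false (Fr.elP false false true false) * (g1 * g1)⁻¹
      = g1 * (g1 * S.el false (Fr.elP false false true false) * g1⁻¹) * g1⁻¹ by group, hg1e,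
      show S.el false (Fr.elP false δ true false)
        = S.el false (Fr.elP false δ false false) * S.el false (Fr.elP false false true false) by
        rw [hmul]; cases δ <;> rfl, conj_prod, hZfix g1 hg1, hg1e, hmul]
    cases δ <;> rfl
  have hc2 : S.el p (Fr.elP Xs Ys Is Js) * S.el false (Fr.elP false false false true)
      = S.el false (Fr.elP false false false true) * S.el p (Fr.elP Xs Ys Is Js) := by
    refine mul_inv_eq_iff_eq_mul.1 ?_
    rw [← hsq, show g1 * g1 * S.el false (Fr.elP false false false true) * (g1 * g1)⁻¹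
      = g1 * (g1 * S.el false (Fr.elP false false false true) * g1⁻¹) * g1⁻¹ by group, hg1s, hg1s]
  rw [hmul, hmul] at hc1 hc2
  obtain rfl : Js = false := by
    have := (Fr.elP_inj (S.el_inj hc1).2).1
    revert this; cases Xs <;> cases Is <;> cases Js <;> simp
  obtain rfl : Is = false := by
    have := (Fr.elP_inj (S.el_inj hc2).2).1
    revert this; cases Xs <;> cases Is <;> simp
  obtain rfl : p = false := by
    cases p
    · rfl
    · exfalso
      have h : g1 * (g1 * g1) * g1⁻¹ = g1 * g1 := by group
      rw [hsq, show S.el true (Fr.elP Xs Ys false false) = S.t * S.el false (Fr.elP Xs Ys false false) by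
        rw [← S.el_t, ← Fr.elP_one, hmul]; cases Xs <;> cases Ys <;> rfl, conj_prod, hg1t, hZfix g1 hg1, hmul,
        ← S.el_t, ← Fr.elP_one, hmul] at h
      have := (Fr.elP_inj (S.el_inj h).2).2.1
      revert this; cases Ys <;> simp
  cases Ys
  · exact ⟨g1, hg1, δ, Xs, hg1t, hg1e, hg1s, hsq⟩
  · refine ⟨g1 * S.t, mul_mem hg1 (S.T0_le_N S.t_mem_T0), δ, Xs, ?_, ?_, ?_, ?_⟩
    · rw [show g1 * S.t * S.t * (g1 * S.t)⁻¹ = g1 * S.t * g1⁻¹ by group, hg1t]
    · rw [show g1 * S.t * S.el false (Fr.elP false false true false) * (g1 * S.t)⁻¹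
        = g1 * (S.t * S.el false (Fr.elP false false true false) * S.t⁻¹) * g1⁻¹ by group,
        show S.t * S.el false (Fr.elP false false true false) * S.t⁻¹ = S.el false (Fr.elP false false true false)
          from mul_inv_eq_iff_eq_mul.2 (S.el_comm_t _ _).symm, hg1e]
    · rw [show g1 * S.t * S.el false (Fr.elP false false false true) * (g1 * S.t)⁻¹
        = g1 * (S.t * S.el false (Fr.elP false false false true) * S.t⁻¹) * g1⁻¹ by group,
        show S.t * S.el false (Fr.elP false false false true) * S.t⁻¹ = S.el false (Fr.elP false false false true)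
          from mul_inv_eq_iff_eq_mul.2 (S.el_comm_t _ _).symm, hg1s]
    · have hB1 : g1⁻¹ * S.t * g1 = S.el true (Fr.elP false true false false) := by
        have h1 : g1 * S.el true (Fr.elP false true false false) * g1⁻¹ = S.t := by
          rw [htsplit, conj_prod, hg1t, hZfix g1 hg1, hmul, ← S.el_t]; simp [Fr.elP_one]
        rw [← h1]; group
      rw [show g1 * S.t * (g1 * S.t) = g1 * g1 * (g1⁻¹ * S.t * g1) * S.t by group, hsq, hB1, ← S.el_t,
        ← Fr.elP_one, hmul, hmul]
      cases Xs <;> rfl

end Setup

end Cfsg.Agent.H67.TwoSym
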