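import Cfsg.Agent.H67.TwoSym.Twist

/-!
# The conjugates of `t` in the Sylow subgroup of the centraliser
-/

set_option autoImplicit false

namespace Cfsg.Agent.H67.TwoSym

open Subgroup Equiv Equiv.Perm

/-- The size of the support of an involution of the Sylow subgroup. -/
def suppOf (x y i j : Bool) : ℕ :=
  if i || j then cond i (cond y 4 2) (cond y 6 4) else cond x (cond y 6 4) (cond y 2 0)

theorem Geo.supp_elP {k : ℕ} (g : Geo k) (x y i j : Bool) (h : (i && j) = false) :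
    (g.F.elP x y i j).support.card = suppOf x y i j := by
  unfold suppOf
  rcases Bool.eq_false_or_eq_true (i || j) with hij | hij
  · rw [if_pos hij, g.supp_noncentral x y i j h hij]
  · obtain ⟨rfl, rfl⟩ : i = false ∧ j = false := by simpa using hij
    rw [if_neg (by simp), g.supp_central]

namespace Setup

variable {G : Type*} [Group G] [Finite G] {k : ℕ} (S : Setup G k)

/-- An element of `T0` in coordinates. -/
def e (p x y i j : Bool) : G := S.el p (S.F.elP x y i j)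

theorem e_mem (p x y i j : Bool) : S.e p x y i j ∈ S.T0 := S.el_mem_T0 p (S.F.elP_mem x y i j)

theorem exists_e {g : G} (h : g ∈ S.T0) : ∃ p x y i j, g = S.e p x y i j := by
  obtain ⟨p, σ, ⟨x, y, i, j, rfl⟩, rfl⟩ := h
  exact ⟨p, x, y, i, j, rfl⟩

theorem e_mul (p x y i j p' x' y' i' j' : Bool) : S.e p x y i j * S.e p' x' y' i' j' =
    S.e (xor p p') (xor (xor x x') (j && i')) (xor y y') (xor i i') (xor j j') := by
  rw [e, e, S.el_mul, Frame.elP_mul]; rfl

theorem e_inj {p x y i j p' x' y' i' j' : Bool} (h : S.e p x y i j = S.e p' x' y' i' j') :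
    p = p' ∧ x = x' ∧ y = y' ∧ i = i' ∧ j = j' :=
  ⟨(S.el_inj h).1, S.F.elP_inj (S.el_inj h).2⟩

theorem e_one : S.e false false false false false = 1 := by rw [e, S.elP00, S.el_one]

theorem e_eq_one {p x y i j : Bool} (h : S.e p x y i j = 1) :
    p = false ∧ x = false ∧ y = false ∧ i = false ∧ j = false := S.e_inj (h.trans S.e_one.symm)

theorem e_t : S.e true false false false false = S.t := by rw [e, S.elP00, S.el_t]

theorem e_a : S.e false true false false false = S.el false S.F.a := by rw [e, S.elP10]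

theorem e_b : S.e false false true false false = S.el false S.F.b := by rw [e, S.elP01]

theorem e_commute_iff (p x y i j p' x' y' i' j' : Bool) :
    S.e p x y i j * S.e p' x' y' i' j' = S.e p' x' y' i' j' * S.e p x y i j ↔ (j && i') = (j' && i) := by
  rw [e_mul, e_mul]
  constructor
  · intro h
    have h2 := (S.e_inj h).2.1
    revert h2
    cases x <;> cases x' <;> cases j <;> cases i' <;> cases j' <;> cases i <;> simp
  · intro h
    rw [h, Bool.xor_comm p, Bool.xor_comm x, Bool.xor_comm y, Bool.xor_comm i, Bool.xor_comm j]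

theorem e_sq_eq_one_iff (p x y i j : Bool) : S.e p x y i j * S.e p x y i j = 1 ↔ (i && j) = false := by
  rw [e_mul, ← S.e_one]
  constructor
  · intro h
    have h2 := (S.e_inj h).2.1
    revert h2
    cases x <;> cases i <;> cases j <;> simp
  · intro h
    revert h
    cases p <;> cases x <;> cases y <;> cases i <;> cases j <;> simp

theorem D_e_of_supp {p x y i j : Bool} (h : (i && j) = false) {σ : Perm (Fin k)} (hσ : σ * σ = 1)
    (hs : suppOf x y i j = σ.support.card) : S.D (S.e p x y i j) ↔ S.D (S.el p σ) := by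
  refine S.D_el_congr p (Geo.isConj_of_supp ?_ hσ ((S.geo.supp_elP x y i j h).trans hs))
  rw [Frame.sq_elP, h]; simp [Frame.elP]

theorem c_sq : S.F.c * S.F.c = 1 := by
  rw [← S.elP11, Frame.sq_elP]; simp [Frame.elP]

theorem D_e_iff (p x y i j : Bool) : S.D (S.e p x y i j) ↔ (i && j) = false ∧
    ((suppOf x y i j = 0 ∧ p = true) ∨ (suppOf x y i j = 2 ∧ S.D (S.el p S.F.b))
      ∨ (suppOf x y i j = 4 ∧ S.D (S.el p S.F.a)) ∨ (suppOf x y i j = 6 ∧ S.D (S.el p S.F.c))) := by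
  rcases Bool.eq_false_or_eq_true (i && j) with h | h
  · constructor
    · intro hD
      exact absurd ((S.e_sq_eq_one_iff p x y i j).1 (S.D_sq hD)) (by simp [h])
    · rintro ⟨h', -⟩
      simp [h] at h'
  · have hcases : suppOf x y i j = 0 ∨ suppOf x y i j = 2 ∨ suppOf x y i j = 4 ∨ suppOf x y i j = 6 := by
      cases x <;> cases y <;> cases i <;> cases j <;> simp [suppOf] at h ⊢
    rcases hcases with hs | hs | hs | hs
    · rw [S.D_e_of_supp h (σ := 1) (one_mul _) (by rw [hs, support_one, Finset.card_empty])]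
      cases p
      · simp [S.not_D_one, hs, h, -isConj_iff]
      · simp [S.el_t, S.D_t, hs, h, -isConj_iff]
    · rw [S.D_e_of_supp h (σ := S.F.b) S.F.b_sq (by rw [hs, S.geo.supp_b])]
      simp [hs, h, -isConj_iff]
    · rw [S.D_e_of_supp h (σ := S.F.a) S.F.a_sq (by rw [hs, S.geo.supp_a])]
      simp [hs, h, -isConj_iff]
    · rw [S.D_e_of_supp h (σ := S.F.c) S.c_sq (by rw [hs, S.geo.supp_c])]
      simp [hs, h, -isConj_iff]

theorem D_e_iff_L (hL : S.IsL) (p x y i j : Bool) :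
    S.D (S.e p x y i j) ↔ p = true ∧ (i && j) = false ∧ (suppOf x y i j = 0 ∨ suppOf x y i j = 4) := by
  have hc := mt S.D_b_iff.2 hL.1
  have htc := mt S.D_tb_iff.2 hL.2
  rw [S.D_e_iff]
  cases p
  · simp [hL.1, hc, S.not_D_a, -isConj_iff]
  · simp [hL.2, htc, S.D_ta, -isConj_iff]

theorem D_e_iff_Mp (hM : S.IsMp) (p x y i j : Bool) :
    S.D (S.e p x y i j) ↔ p = true ∧ (i && j) = false := by
  have hc := mt S.D_b_iff.2 hM.1
  have htc := S.D_tb_iff.1 hM.2
  rw [S.D_e_iff]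
  cases p
  · simp [hM.1, hc, S.not_D_a, -isConj_iff]
  · simp only [hM.2, htc, S.D_ta, and_true, true_and]
    refine ⟨fun h => h.1, fun h => ⟨h, ?_⟩⟩
    cases x <;> cases y <;> cases i <;> cases j <;> simp [suppOf] at h ⊢

open Classical in
theorem card_D_T0 (d : Bool × Bool × Bool × Bool × Bool → Bool)
    (hd : ∀ p x y i j, S.D (S.e p x y i j) ↔ d (p, x, y, i, j) = true) :
    Nat.card {g : G // g ∈ S.T0 ∧ S.D g} = (Finset.univ.filter fun v => d v = true).card := by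
  rw [← Fintype.card_subtype, ← Nat.card_eq_fintype_card]
  refine (Nat.card_congr (Equiv.ofBijective
    (fun v => ⟨S.e v.1.1 v.1.2.1 v.1.2.2.1 v.1.2.2.2.1 v.1.2.2.2.2, S.e_mem .., (hd ..).2 v.2⟩) ⟨?_, ?_⟩)).symm
  · rintro ⟨⟨p, x, y, i, j⟩, hv⟩ ⟨⟨p', x', y', i', j'⟩, hv'⟩ h
    obtain ⟨rfl, rfl, rfl, rfl, rfl⟩ := S.e_inj (congrArg Subtype.val h)
    rfl
  · rintro ⟨g, hg, hD⟩
    obtain ⟨p, x, y, i, j, rfl⟩ := S.exists_e hg
    exact ⟨⟨(p, x, y, i, j), (hd ..).1 hD⟩, rfl⟩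

theorem card_D_T0_L (hL : S.IsL) : Nat.card {g : G // g ∈ S.T0 ∧ S.D g} = 6 := by
  rw [S.card_D_T0 (fun v => v.1 && !(v.2.2.2.1 && v.2.2.2.2) &&
    (suppOf v.2.1 v.2.2.1 v.2.2.2.1 v.2.2.2.2 == 0 || suppOf v.2.1 v.2.2.1 v.2.2.2.1 v.2.2.2.2 == 4))
    (fun p x y i j => by rw [S.D_e_iff_L hL]; cases i <;> cases j <;> simp [and_assoc, -isConj_iff])]
  decide

theorem card_D_T0_Mp (hM : S.IsMp) : Nat.card {g : G // g ∈ S.T0 ∧ S.D g} = 12 := by
  rw [S.card_D_T0 (fun v => v.1 && !(v.2.2.2.1 && v.2.2.2.2))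
    (fun p x y i j => by rw [S.D_e_iff_Mp hM]; cases i <;> cases j <;> simp [-isConj_iff])]
  decide

/-- Two conjugates in `T0` which do not commute. -/
theorem exists_noncommuting (hD : S.D (S.el true S.F.a)) :
    ∃ g h, (g ∈ S.T0 ∧ S.D g) ∧ (h ∈ S.T0 ∧ S.D h) ∧ g * h ≠ h * g := by
  refine ⟨S.e true false true true false, S.e true false false false true, ⟨S.e_mem .., ?_⟩, ⟨S.e_mem .., ?_⟩, ?_⟩
  · exact (S.D_e_iff ..).2 ⟨rfl, Or.inr (Or.inr (Or.inl ⟨rfl, hD⟩))⟩
  · exact (S.D_e_iff ..).2 ⟨rfl, Or.inr (Or.inr (Or.inl ⟨rfl, hD⟩))⟩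
  · rw [Ne, S.e_commute_iff]; decide

/-- The centraliser of a conjugate inside a 2-group, when of order 32, carries a copy of the configuration. -/
theorem extremal {s : G} (hs : S.D s) {K : Subgroup G}
    (hK : Nat.card (K ⊓ centralizer ({s} : Set G) : Subgroup G) = 32) :
    Nat.card {x : G // (x ∈ K ∧ x * s = s * x) ∧ S.D x} = Nat.card {g : G // g ∈ S.T0 ∧ S.D g} ∧
    ∃ x y, ((x ∈ K ∧ x * s = s * x) ∧ S.D x) ∧ ((y ∈ K ∧ y * s = s * y) ∧ S.D y) ∧ x * y ≠ y * x := by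
  obtain ⟨g, hg, hT⟩ := S.transport hs inf_le_right hK
  have hmem : ∀ x, x ∈ (K ⊓ centralizer ({s} : Set G) : Subgroup G) ↔ x ∈ K ∧ x * s = s * x := fun x => by
    rw [Subgroup.mem_inf, mem_centralizer_singleton_iff]
  constructor
  · refine (Nat.card_congr
      { toFun := fun x => ⟨g * x.1 * g⁻¹, (hmem _).1 ((hT _).1 x.2.1), S.D_conj g x.2.2⟩
        invFun := fun x => ⟨g⁻¹ * x.1 * g, (hT _).2 ((hmem _).2 (by
            rw [show g * (g⁻¹ * x.1 * g) * g⁻¹ = x.1 by group]; exact x.2.1)),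
          (S.D_conj_iff g _).1 (by rw [show g * (g⁻¹ * x.1 * g) * g⁻¹ = x.1 by group]; exact x.2.2)⟩
        left_inv := fun x => Subtype.ext (show g⁻¹ * (g * x.1 * g⁻¹) * g = x.1 by group)
        right_inv := fun x => Subtype.ext (show g * (g⁻¹ * x.1 * g) * g⁻¹ = x.1 by group) }).symm
  · obtain ⟨x, y, ⟨hx, hxD⟩, ⟨hy, hyD⟩, hxy⟩ := S.exists_noncommuting S.D_ta
    refine ⟨g * x * g⁻¹, g * y * g⁻¹, ⟨(hmem _).1 ((hT _).1 hx), S.D_conj g hxD⟩,
      ⟨(hmem _).1 ((hT _).1 hy), S.D_conj g hyD⟩, fun h => hxy ?_⟩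
    have h' : g * (x * y) * g⁻¹ = g * (y * x) * g⁻¹ := by
      calc g * (x * y) * g⁻¹ = g * x * g⁻¹ * (g * y * g⁻¹) := by group
        _ = g * y * g⁻¹ * (g * x * g⁻¹) := h
        _ = g * (y * x) * g⁻¹ := by group
    exact mul_left_cancel (mul_right_cancel h')

end Setup

end Cfsg.Agent.H67.TwoSym
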