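import Cfsg.Agent.H67.TwoSym.Kill
import Cfsg.Agent.H67.TwoSym.Hexagon

/-!
# A subgroup of index two

A finite group with an involution whose centraliser is `2 × S₆` or `2 × S₇` has a subgroup of index two.
-/

set_option autoImplicit false
set_option linter.unusedSectionVars false

namespace Cfsg.Agent.H67.TwoSym

open Subgroup Equiv

variable {G : Type*} [Group G] [Finite G] {k : ℕ}

theorem Setup.not_isMp (S : Setup G k) : ¬ S.IsMp := fun hM => by
  rcases S.bfix hM with ⟨h, hs | hs⟩ | hx
  · exact S.kill hM (Or.inl rfl) h hs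
  · exact S.kill hM (Or.inr rfl) h hs
  · exact S.hex_absurd hM hx

theorem Setup.absurd_setup (S : Setup G k) : False := by
  rcases S.cases with h | h | h
  exacts [S.not_isL h, S.not_isMp h, S.twist.not_isMp h]

/-- The centre of the symmetric group of the geometry is trivial. -/
theorem Geo.eq_one_of_central (g : Geo k) {σ : Perm (Fin k)} (h : ∀ τ, τ * σ = σ * τ) : σ = 1 := by
  obtain ⟨x, y, e⟩ := (g.F.central_iff (g.F.H_le_P (g.F.mem_H_of_commute fun τ _ => (h τ).symm))).1 (fun τ _ => h τ)
  have hfix : ∀ π, IsConj σ π → π = σ := fun π hπ => by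
    obtain ⟨d, hd⟩ := isConj_iff.1 hπ
    rw [← hd, h d, mul_assoc, mul_inv_cancel, mul_one]
  have he1 : g.F.e1 = g.F.elP false false true false := by simp [Frame.elP]
  have hsw : g.F.sw * g.F.b = g.F.elP false true false true := by
    rw [← g.F.b_sw]; simp [Frame.elP]
  have he2b : g.F.e2 * g.F.b = g.F.elP true true true false := by
    rw [← g.F.elP_b, show g.F.e2 = g.F.elP true false true false by simp [Frame.elP, g.F.a_mul_e1],
      Frame.elP_mul]
    rfl
  cases x <;> cases y
  · rw [e]; exact g.F.elP_one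
  · have h1 := hfix g.F.e1 (by rw [e, g.F.elP_b]; exact g.F.conj_e1_b)
    rw [e, he1] at h1
    exact absurd (g.F.elP_inj h1).2.1 (by decide)
  · have h1 := hfix (g.F.e2 * g.F.b) (by rw [e, g.F.elP_a]; exact g.F.conj_a_e2b)
    rw [e, he2b] at h1
    exact absurd (g.F.elP_inj h1).2.1 (by decide)
  · have h1 := hfix g.F'.e1 (by
      have h2 := g.F'.conj_e1_b
      rw [g.b'] at h2
      rw [e]; simpa [Frame.elP, Frame.c] using h2)
    rw [e, g.e1', hsw] at h1
    exact absurd (g.F.elP_inj h1).1 (by decide)

/-- The subgroup of index two. -/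
theorem exists_index_two (geo : Geo k) (t : G) (ht : orderOf t = 2)
    (hC : Nonempty (↥(centralizer ({t} : Set G)) ≃* Multiplicative (ZMod 2) × Perm (Fin k))) :
    ∃ H : Subgroup G, H.index = 2 := by
  classical
  by_contra hno
  obtain ⟨ψ⟩ := hC
  have htsq : t * t = 1 := by
    rw [← pow_two, ← ht]; exact pow_orderOf_eq_one t
  have htne : t ≠ 1 := fun e => by rw [e, orderOf_one] at ht; omega
  set tC : centralizer ({t} : Set G) := ⟨t, mem_centralizer_singleton_iff.2 rfl⟩ with htC
  have hcent : ∀ z, ψ tC * z = z * ψ tC := by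
    intro z
    rw [← ψ.apply_symm_apply z, ← map_mul, ← map_mul]
    refine congrArg ψ (Subtype.ext ?_)
    exact (mem_centralizer_singleton_iff.1 (ψ.symm z).2).symm
  have h2 : (ψ tC).2 = 1 := geo.eq_one_of_central fun τ => (congrArg Prod.snd (hcent (1, τ))).symm
  have h1 : (ψ tC).1 = Multiplicative.ofAdd 1 := by
    rcases (show ∀ a : Multiplicative (ZMod 2), a = 1 ∨ a = Multiplicative.ofAdd 1 by decide) (ψ tC).1 with h | h
    · exfalso
      have : ψ tC = 1 := Prod.ext h h2
      exact htne (congrArg Subtype.val ((map_eq_one_iff ψ ψ.injective).1 this))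
    · exact h
  have htψ : ψ.symm (Multiplicative.ofAdd 1, 1) = tC := by
    rw [← h1, ← h2]; exact ψ.symm_apply_apply tC
  let S : Setup G k :=
    { geo := geo
      hno := fun H hH => hno ⟨H, hH⟩
      t := t
      ι := (centralizer ({t} : Set G)).subtype.comp (ψ.symm.toMonoidHom.comp (MonoidHom.inr _ _))
      inj := fun σ τ h => by
        have := ψ.symm.injective (Subtype.ext h)
        exact congrArg Prod.snd this
      t_sq := htsq
      ι_comm := fun σ => mem_centralizer_singleton_iff.1 (ψ.symm (1, σ)).2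
      t_notin := fun σ h => by
        have e : ψ.symm (1, σ) = tC := Subtype.ext h
        rw [← e, ψ.apply_symm_apply] at h1
        exact absurd h1 (show (1 : Multiplicative (ZMod 2)) ≠ Multiplicative.ofAdd 1 by decide)
      mem_C := fun x hx => by
        have hxC : x ∈ centralizer ({t} : Set G) := mem_centralizer_singleton_iff.2 hx
        obtain ⟨p, hp⟩ : ∃ p : Bool, (ψ ⟨x, hxC⟩).1 = cond p (Multiplicative.ofAdd 1) 1 := by
          rcases (show ∀ a : Multiplicative (ZMod 2), a = 1 ∨ a = Multiplicative.ofAdd 1 by decide) (ψ ⟨x, hxC⟩).1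
            with h | h
          exacts [⟨false, h⟩, ⟨true, h⟩]
        refine ⟨p, (ψ ⟨x, hxC⟩).2, ?_⟩
        have e : (ψ ⟨x, hxC⟩) = (cond p (Multiplicative.ofAdd 1) 1, 1) * (1, (ψ ⟨x, hxC⟩).2) := by
          refine Prod.ext ?_ ?_ <;> simp [hp]
        have h3 := congrArg (fun z => ((ψ.symm z : centralizer ({t} : Set G)) : G)) e
        simp only [ψ.symm_apply_apply, map_mul, Subgroup.coe_mul] at h3
        refine h3.trans ?_
        congr 1
        cases p
        · rw [cond_false, cond_false, show ((1 : Multiplicative (ZMod 2)), (1 : Perm (Fin k))) = 1 from rfl, map_one]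
          rfl
        · rw [cond_true, cond_true, htψ] }
  exact S.absurd_setup

end Cfsg.Agent.H67.TwoSym
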