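import Mathlib.Algebra.Group.Subgroup.Basic
import Mathlib.Tactic.Group
import Mathlib.SetTheory.Cardinal.Finite
import Mathlib.Data.Fintype.Prod

/-!
# Five generators commuting modulo a four group

A collection formula: `V` is the space of exponent vectors, `W` the exponents of the central four group.
-/

set_option autoImplicit false

namespace Cfsg.Agent.H67.TwoSym

/-- Exponents of the central four group. -/
abbrev W : Type := Bool × Bool

/-- Exponent vectors of the five generators. -/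
abbrev V : Type := Bool × Bool × Bool × Bool × Bool

/-- Addition of exponents. -/
def wadd (x y : W) : W := (xor x.1 y.1, xor x.2 y.2)

/-- Scaling of exponents. -/
def wsmul (x : Bool) (w : W) : W := (x && w.1, x && w.2)

/-- Addition of vectors. -/
def vadd (x y : V) : V :=
  (xor x.1 y.1, xor x.2.1 y.2.1, xor x.2.2.1 y.2.2.1, xor x.2.2.2.1 y.2.2.2.1, xor x.2.2.2.2 y.2.2.2.2)

/-- The commutators and squares of five generators. -/
structure Coc where
  w10 : W
  w20 : W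
  w21 : W
  w30 : W
  w31 : W
  w32 : W
  w40 : W
  w41 : W
  w42 : W
  w43 : W
  s0 : W
  s1 : W
  s2 : W
  s3 : W
  s4 : W
deriving DecidableEq

/-- The cocycle. -/
def Coc.beta (d : Coc) (v u : V) : W :=
  wadd (wsmul u.1 (wadd (wsmul v.2.2.2.2 d.w40) (wadd (wsmul v.2.2.2.1 d.w30) (wadd (wsmul v.2.2.1 d.w20)
      (wadd (wsmul v.2.1 d.w10) (wsmul v.1 d.s0))))))
    (wadd (wsmul u.2.1 (wadd (wsmul v.2.2.2.2 d.w41) (wadd (wsmul v.2.2.2.1 d.w31) (wadd (wsmul v.2.2.1 d.w21)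
      (wsmul v.2.1 d.s1)))))
    (wadd (wsmul u.2.2.1 (wadd (wsmul v.2.2.2.2 d.w42) (wadd (wsmul v.2.2.2.1 d.w32) (wsmul v.2.2.1 d.s2))))
    (wadd (wsmul u.2.2.2.1 (wadd (wsmul v.2.2.2.2 d.w43) (wsmul v.2.2.2.1 d.s3)))
      (wsmul u.2.2.2.2 (wsmul v.2.2.2.2 d.s4)))))

/-- The commutator form. -/
def Coc.om (d : Coc) (v u : V) : W := wadd (d.beta v u) (d.beta u v)

/-- The squaring map. -/
def Coc.q (d : Coc) (v : V) : W := d.beta v v

theorem wadd_zero (x : W) : wadd x (false, false) = x := by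
  obtain ⟨a, b⟩ := x; revert a b; decide

theorem zero_wadd (x : W) : wadd (false, false) x = x := by
  obtain ⟨a, b⟩ := x; revert a b; decide

theorem wadd_self (x : W) : wadd x x = (false, false) := by
  obtain ⟨a, b⟩ := x; revert a b; decide

theorem wadd_comm (x y : W) : wadd x y = wadd y x := by
  revert x y; decide

theorem wadd_assoc (x y z : W) : wadd (wadd x y) z = wadd x (wadd y z) := by
  revert x y z; decide

theorem vadd_self (v : V) : vadd v v = (false, false, false, false, false) := by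
  revert v; decide

theorem vadd_zero (v : V) : vadd v (false, false, false, false, false) = v := by
  revert v; decide

theorem wadd_cancel (y r : W) : wadd (wadd y (wadd y r)) r = (false, false) := by
  revert y r; decide

theorem eq_of_vadd {v u : V} (h : vadd v u = (false, false, false, false, false)) : v = u := by
  revert v u; decide

theorem eq_of_wadd {x y r : W} (h : wadd (wadd x (wadd y r)) r = (false, false)) : x = y := by
  revert x y r; decide

/-- Five elements of a group, commuting modulo a four group which they centralise. -/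
structure Rel (G : Type*) [Group G] extends Coc where
  za : G
  zb : G
  g0 : G
  g1 : G
  g2 : G
  g3 : G
  g4 : G
  za_sq : za * za = 1
  zb_sq : zb * zb = 1
  zab : za * zb = zb * za
  za_g : za * g0 = g0 * za ∧ za * g1 = g1 * za ∧ za * g2 = g2 * za ∧ za * g3 = g3 * za ∧ za * g4 = g4 * za
  zb_g : zb * g0 = g0 * zb ∧ zb * g1 = g1 * zb ∧ zb * g2 = g2 * zb ∧ zb * g3 = g3 * zb ∧ zb * g4 = g4 * zb
  r0 : g0 * g0 = cond toCoc.s0.1 za 1 * cond toCoc.s0.2 zb 1
  r1 : g1 * g1 = cond toCoc.s1.1 za 1 * cond toCoc.s1.2 zb 1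
  r2 : g2 * g2 = cond toCoc.s2.1 za 1 * cond toCoc.s2.2 zb 1
  r3 : g3 * g3 = cond toCoc.s3.1 za 1 * cond toCoc.s3.2 zb 1
  r4 : g4 * g4 = cond toCoc.s4.1 za 1 * cond toCoc.s4.2 zb 1
  r10 : g1 * g0 = cond toCoc.w10.1 za 1 * cond toCoc.w10.2 zb 1 * (g0 * g1)
  r20 : g2 * g0 = cond toCoc.w20.1 za 1 * cond toCoc.w20.2 zb 1 * (g0 * g2)
  r21 : g2 * g1 = cond toCoc.w21.1 za 1 * cond toCoc.w21.2 zb 1 * (g1 * g2)
  r30 : g3 * g0 = cond toCoc.w30.1 za 1 * cond toCoc.w30.2 zb 1 * (g0 * g3)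
  r31 : g3 * g1 = cond toCoc.w31.1 za 1 * cond toCoc.w31.2 zb 1 * (g1 * g3)
  r32 : g3 * g2 = cond toCoc.w32.1 za 1 * cond toCoc.w32.2 zb 1 * (g2 * g3)
  r40 : g4 * g0 = cond toCoc.w40.1 za 1 * cond toCoc.w40.2 zb 1 * (g0 * g4)
  r41 : g4 * g1 = cond toCoc.w41.1 za 1 * cond toCoc.w41.2 zb 1 * (g1 * g4)
  r42 : g4 * g2 = cond toCoc.w42.1 za 1 * cond toCoc.w42.2 zb 1 * (g2 * g4)
  r43 : g4 * g3 = cond toCoc.w43.1 za 1 * cond toCoc.w43.2 zb 1 * (g3 * g4)

namespace Rel

variable {G : Type*} [Group G] (R : Rel G)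

/-- The element of the four group with given exponents. -/
def zeta (w : W) : G := cond w.1 R.za 1 * cond w.2 R.zb 1

/-- The product of powers of the generators. -/
def gen (v : V) : G :=
  cond v.1 R.g0 1 * (cond v.2.1 R.g1 1 * (cond v.2.2.1 R.g2 1 * (cond v.2.2.2.1 R.g3 1 * cond v.2.2.2.2 R.g4 1)))

/-- The element with given coordinates. -/
def el (v : V) (w : W) : G := R.zeta w * R.gen v

theorem zeta_zero : R.zeta (false, false) = 1 := by simp [zeta]

theorem zeta_add (x y : W) : R.zeta x * R.zeta y = R.zeta (wadd x y) := by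
  have h1 := R.za_sq
  have h2 := R.zb_sq
  have h3 := R.zab
  obtain ⟨x1, x2⟩ := x
  obtain ⟨y1, y2⟩ := y
  cases x1 <;> cases x2 <;> cases y1 <;> cases y2 <;> simp [zeta, wadd, h1, h2]
  all_goals first
    | exact h3.symm
    | (rw [← mul_assoc, h1, one_mul])
    | (rw [← mul_assoc, ← h3, mul_assoc, h2, mul_one])
    | (rw [mul_assoc, h2, mul_one])
    | (rw [h3, ← mul_assoc, h2, one_mul])
    | (rw [mul_assoc, ← h3, ← mul_assoc, h1, one_mul])
    | (rw [← mul_assoc, mul_assoc _ R.zb, ← h3, ← mul_assoc, h1, one_mul, h2])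

theorem zeta_comm_gen (w : W) (x : G) (hx : x = R.g0 ∨ x = R.g1 ∨ x = R.g2 ∨ x = R.g3 ∨ x = R.g4) :
    x * R.zeta w = R.zeta w * x := by
  obtain ⟨a0, a1, a2, a3, a4⟩ := R.za_g
  obtain ⟨b0, b1, b2, b3, b4⟩ := R.zb_g
  have ha : Commute x R.za := by
    rcases hx with rfl | rfl | rfl | rfl | rfl
    exacts [a0.symm, a1.symm, a2.symm, a3.symm, a4.symm]
  have hb : Commute x R.zb := by
    rcases hx with rfl | rfl | rfl | rfl | rfl
    exacts [b0.symm, b1.symm, b2.symm, b3.symm, b4.symm]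
  obtain ⟨w1, w2⟩ := w
  cases w1 <;> cases w2 <;>
    simp only [zeta, cond_true, cond_false, one_mul, mul_one]
  exacts [hb.eq, ha.eq, (ha.mul_right hb).eq]

/-- Moving a generator to the left past a power of a later one. -/
theorem swap_cond {x y : G} {w : W} (h : x * y = R.zeta w * (y * x)) (v : Bool) :
    cond v x 1 * y = R.zeta (wsmul v w) * (y * cond v x 1) := by
  cases v
  · simp [wsmul, zeta]
  · simpa [wsmul] using h

theorem sq_cond {x : G} {w : W} (hc : ∀ u, x * R.zeta u = R.zeta u * x) (h : x * x = R.zeta w) (v : Bool) :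
    cond v x 1 * x = R.zeta (wsmul v w) * cond (!v) x 1 := by
  have := hc
  cases v
  · simp [wsmul, zeta]
  · simpa [wsmul] using h

theorem cond_comm {x : G} (hc : ∀ u, x * R.zeta u = R.zeta u * x) (v : Bool) (u : W) :
    cond v x 1 * R.zeta u = R.zeta u * cond v x 1 := by
  cases v
  · simp
  · simpa using hc u

theorem move (x : G) (hx : x = R.g0 ∨ x = R.g1 ∨ x = R.g2 ∨ x = R.g3 ∨ x = R.g4) (v : Bool) (u : W) (r : G) :
    cond v x 1 * (R.zeta u * r) = R.zeta u * (cond v x 1 * r) := by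
  rw [← mul_assoc, R.cond_comm (fun u => R.zeta_comm_gen u _ hx), mul_assoc]

theorem gen_mul_g4 (v : V) : R.gen v * R.g4
    = R.zeta (wsmul v.2.2.2.2 R.s4) * R.gen (v.1, v.2.1, v.2.2.1, v.2.2.2.1, !v.2.2.2.2) := by
  simp only [gen, mul_assoc]
  rw [R.sq_cond (fun u => R.zeta_comm_gen u _ (by simp)) (w := R.s4) R.r4, R.move _ (by simp),
    R.move _ (by simp), R.move _ (by simp), R.move _ (by simp)]

theorem zeta_zeta (x y : W) (r : G) : R.zeta x * (R.zeta y * r) = R.zeta (wadd x y) * r := by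
  rw [← mul_assoc, R.zeta_add]

theorem gen_mul_g3 (v : V) : R.gen v * R.g3
    = R.zeta (wadd (wsmul v.2.2.2.2 R.w43) (wsmul v.2.2.2.1 R.s3))
      * R.gen (v.1, v.2.1, v.2.2.1, !v.2.2.2.1, v.2.2.2.2) := by
  simp only [gen, mul_assoc]
  rw [R.swap_cond (w := R.w43) R.r43, R.move _ (by simp), ← mul_assoc (cond v.2.2.2.1 R.g3 1),
    R.sq_cond (fun u => R.zeta_comm_gen u _ (by simp)) (w := R.s3) R.r3, mul_assoc, R.zeta_zeta,
    R.move _ (by simp), R.move _ (by simp), R.move _ (by simp)]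

theorem gen_mul_g2 (v : V) : R.gen v * R.g2
    = R.zeta (wadd (wsmul v.2.2.2.2 R.w42) (wadd (wsmul v.2.2.2.1 R.w32) (wsmul v.2.2.1 R.s2)))
      * R.gen (v.1, v.2.1, !v.2.2.1, v.2.2.2.1, v.2.2.2.2) := by
  simp only [gen, mul_assoc]
  rw [R.swap_cond (w := R.w42) R.r42, R.move _ (by simp), ← mul_assoc (cond v.2.2.2.1 R.g3 1),
    R.swap_cond (w := R.w32) R.r32, mul_assoc, R.zeta_zeta, mul_assoc, R.move _ (by simp),
    ← mul_assoc (cond v.2.2.1 R.g2 1),
    R.sq_cond (fun u => R.zeta_comm_gen u _ (by simp)) (w := R.s2) R.r2, mul_assoc, R.zeta_zeta, wadd_assoc,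
    R.move _ (by simp), R.move _ (by simp)]

theorem gen_mul_g1 (v : V) : R.gen v * R.g1
    = R.zeta (wadd (wsmul v.2.2.2.2 R.w41) (wadd (wsmul v.2.2.2.1 R.w31) (wadd (wsmul v.2.2.1 R.w21)
        (wsmul v.2.1 R.s1))))
      * R.gen (v.1, !v.2.1, v.2.2.1, v.2.2.2.1, v.2.2.2.2) := by
  simp only [gen, mul_assoc]
  rw [R.swap_cond (w := R.w41) R.r41, R.move _ (by simp), ← mul_assoc (cond v.2.2.2.1 R.g3 1),
    R.swap_cond (w := R.w31) R.r31, mul_assoc, R.zeta_zeta, mul_assoc, R.move _ (by simp),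
    ← mul_assoc (cond v.2.2.1 R.g2 1), R.swap_cond (w := R.w21) R.r21, mul_assoc, R.zeta_zeta, mul_assoc,
    R.move _ (by simp), ← mul_assoc (cond v.2.1 R.g1 1),
    R.sq_cond (fun u => R.zeta_comm_gen u _ (by simp)) (w := R.s1) R.r1, mul_assoc, R.zeta_zeta, wadd_assoc,
    wadd_assoc, R.move _ (by simp)]

theorem gen_mul_g0 (v : V) : R.gen v * R.g0
    = R.zeta (wadd (wsmul v.2.2.2.2 R.w40) (wadd (wsmul v.2.2.2.1 R.w30) (wadd (wsmul v.2.2.1 R.w20)
        (wadd (wsmul v.2.1 R.w10) (wsmul v.1 R.s0)))))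
      * R.gen (!v.1, v.2.1, v.2.2.1, v.2.2.2.1, v.2.2.2.2) := by
  simp only [gen, mul_assoc]
  rw [R.swap_cond (w := R.w40) R.r40, R.move _ (by simp), ← mul_assoc (cond v.2.2.2.1 R.g3 1),
    R.swap_cond (w := R.w30) R.r30, mul_assoc, R.zeta_zeta, mul_assoc, R.move _ (by simp),
    ← mul_assoc (cond v.2.2.1 R.g2 1), R.swap_cond (w := R.w20) R.r20, mul_assoc, R.zeta_zeta, mul_assoc,
    R.move _ (by simp), ← mul_assoc (cond v.2.1 R.g1 1), R.swap_cond (w := R.w10) R.r10, mul_assoc,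
    R.zeta_zeta, mul_assoc, R.move _ (by simp), ← mul_assoc (cond v.1 R.g0 1),
    R.sq_cond (fun u => R.zeta_comm_gen u _ (by simp)) (w := R.s0) R.r0, mul_assoc, R.zeta_zeta, wadd_assoc,
    wadd_assoc, wadd_assoc]

theorem gen_comm_zeta (v : V) (u : W) : R.gen v * R.zeta u = R.zeta u * R.gen v := by
  simp only [gen, mul_assoc]
  rw [R.cond_comm (x := R.g4) (fun u => R.zeta_comm_gen u _ (by simp)), R.move _ (by simp), R.move _ (by simp),
    R.move _ (by simp), R.move _ (by simp)]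

theorem gen_mul_cond (v : V) (x : G) (p : Bool) (c : W) (v' : V)
    (h : R.gen v * x = R.zeta c * R.gen v') :
    R.gen v * cond p x 1 = R.zeta (wsmul p c) * R.gen (cond p v' v) := by
  cases p
  · simp [wsmul, zeta]
  · simpa [wsmul] using h

theorem gen_mul_gen (v u : V) : R.gen v * R.gen u = R.zeta (R.toCoc.beta v u) * R.gen (vadd v u) := by
  conv_lhs => rw [gen, gen, ← gen]
  simp only [← mul_assoc]
  rw [R.gen_mul_cond _ _ _ _ _ (R.gen_mul_g0 v), mul_assoc (R.zeta _), R.gen_mul_cond _ _ _ _ _ (R.gen_mul_g1 _),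
    R.zeta_zeta, mul_assoc (R.zeta _), R.gen_mul_cond _ _ _ _ _ (R.gen_mul_g2 _), R.zeta_zeta,
    mul_assoc (R.zeta _), R.gen_mul_cond _ _ _ _ _ (R.gen_mul_g3 _), R.zeta_zeta, mul_assoc (R.zeta _),
    R.gen_mul_cond _ _ _ _ _ (R.gen_mul_g4 _), R.zeta_zeta]
  obtain ⟨v0, v1, v2, v3, v4⟩ := v
  obtain ⟨u0, u1, u2, u3, u4⟩ := u
  congr 1
  · refine congrArg R.zeta ?_
    cases u0 <;> cases u1 <;> cases u2 <;> cases u3 <;> cases u4 <;>
      simp [Coc.beta, wadd, wsmul]
  · refine congrArg R.gen ?_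
    cases u0 <;> cases u1 <;> cases u2 <;> cases u3 <;> cases u4 <;> simp [vadd]

/-- The collection formula. -/
theorem el_mul (v u : V) (x y : W) :
    R.el v x * R.el u y = R.el (vadd v u) (wadd (wadd x y) (R.toCoc.beta v u)) := by
  rw [el, el, el, mul_assoc, ← mul_assoc (R.gen v), R.gen_comm_zeta, mul_assoc, R.gen_mul_gen, R.zeta_zeta,
    R.zeta_zeta, wadd_assoc]

theorem el_zero : R.el (false, false, false, false, false) (false, false) = 1 := by
  simp [el, zeta, gen]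

theorem el_sq (v : V) (x : W) : R.el v x * R.el v x = R.zeta (R.toCoc.q v) := by
  rw [el_mul, vadd_self, wadd_self, zero_wadd]
  simp [el, gen, Coc.q]

theorem el_comm (v u : V) (x y : W) :
    R.el v x * R.el u y = R.zeta (R.toCoc.om v u) * (R.el u y * R.el v x) := by
  rw [el_mul, el_mul, el, el, R.zeta_zeta, show vadd u v = vadd v u by revert u v; decide]
  refine congrArg (fun w => R.zeta w * _) ?_
  unfold Coc.om
  generalize R.toCoc.beta v u = p
  generalize R.toCoc.beta u v = r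
  revert x y p r
  decide

/-- The coordinates are faithful. -/
def Faithful : Prop := ∀ v w, R.el v w = 1 → v = (false, false, false, false, false) ∧ w = (false, false)

theorem el_inj (hf : R.Faithful) {v u : V} {x y : W} (h : R.el v x = R.el u y) : v = u ∧ x = y := by
  have h1 : R.el v x * R.el u (wadd y (R.toCoc.q u)) = 1 := by
    rw [h, el_mul, vadd_self, Coc.q, wadd_cancel, el_zero]
  rw [el_mul] at h1
  obtain ⟨h2, h3⟩ := hf _ _ h1
  have hv : v = u := eq_of_vadd h2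
  subst hv
  rw [Coc.q] at h3
  exact ⟨rfl, eq_of_wadd h3⟩

theorem zeta_eq_one (hf : R.Faithful) (w : W) : R.zeta w = 1 ↔ w = (false, false) := by
  refine ⟨fun h => (hf (false, false, false, false, false) w ?_).2, fun h => by rw [h, zeta_zero]⟩
  simpa [el, gen] using h

theorem commute_iff (hf : R.Faithful) (v u : V) (x y : W) :
    R.el v x * R.el u y = R.el u y * R.el v x ↔ R.toCoc.om v u = (false, false) := by
  rw [el_comm, mul_eq_right, R.zeta_eq_one hf]

theorem sq_eq_one_iff (hf : R.Faithful) (v : V) (x : W) :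
    R.el v x * R.el v x = 1 ↔ R.toCoc.q v = (false, false) := by
  rw [el_sq, R.zeta_eq_one hf]

/-- The subgroup of elements with coordinates. -/
def grp : Subgroup G where
  carrier := {g | ∃ v w, g = R.el v w}
  one_mem' := ⟨_, _, R.el_zero.symm⟩
  mul_mem' := by
    rintro _ _ ⟨v, x, rfl⟩ ⟨u, y, rfl⟩
    exact ⟨_, _, R.el_mul v u x y⟩
  inv_mem' := by
    rintro _ ⟨v, x, rfl⟩
    refine ⟨v, wadd x (R.toCoc.q v), inv_eq_of_mul_eq_one_right ?_⟩
    rw [el_mul, vadd_self, Coc.q, wadd_cancel, el_zero]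

theorem mem_grp {g : G} : g ∈ R.grp ↔ ∃ v w, g = R.el v w := Iff.rfl

theorem el_mem (v : V) (w : W) : R.el v w ∈ R.grp := ⟨v, w, rfl⟩

theorem card_grp (hf : R.Faithful) : Nat.card R.grp = 128 := by
  rw [← Nat.card_congr (Equiv.ofBijective (fun p : V × W => (⟨R.el p.1 p.2, R.el_mem _ _⟩ : R.grp))
    ⟨fun p q h => by
      obtain ⟨h1, h2⟩ := R.el_inj hf (congrArg Subtype.val h)
      exact Prod.ext h1 h2, fun ⟨g, v, w, hg⟩ => ⟨(v, w), Subtype.ext hg.symm⟩⟩), Nat.card_eq_fintype_card]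
  rfl

end Rel

end Cfsg.Agent.H67.TwoSym
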