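import Cfsg.Agent.H67.TwoSym.CaseL

/-!
# The pattern in which every involution outside the symmetric group is fused to `t`
-/

set_option autoImplicit false
set_option linter.unusedSectionVars false

namespace Cfsg.Agent.H67.TwoSym

open Subgroup Equiv Equiv.Perm

namespace Setup

variable {G : Type*} [Group G] [Finite G] {k : ℕ} (S : Setup G k)

theorem D_el_iff_Mp (hM : S.IsMp) (p : Bool) (σ : Perm (Fin k)) :
    S.D (S.el p σ) ↔ p = true ∧ σ * σ = 1 := by
  have hc := mt S.D_b_iff.2 hM.1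
  have htc := S.D_tb_iff.1 hM.2
  constructor
  · intro h
    have hsq := S.D_sq h
    rw [S.el_mul, Bool.xor_self, ← S.el_one] at hsq
    have hσ := (S.el_inj hsq).2
    refine ⟨?_, hσ⟩
    by_contra hp
    obtain rfl : p = false := by simpa using hp
    rcases S.geo.cases_invol hσ with rfl | h' | h' | h'
    · exact S.not_D_one h
    · exact hM.1 ((S.D_el_congr false h').2 h)
    · exact S.not_D_a ((S.D_el_congr false h').2 h)
    · exact hc ((S.D_el_congr false h').2 h)
  · rintro ⟨rfl, hσ⟩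
    rcases S.geo.cases_invol hσ with rfl | h' | h' | h'
    · rw [S.el_t]
    · exact (S.D_el_congr true h').1 hM.2
    · exact (S.D_el_congr true h').1 S.D_ta
    · exact (S.D_el_congr true h').1 htc

/-- A conjugate times a commuting involution outside the class is a conjugate. -/
theorem D_mul (hM : S.IsMp) {s z : G} (hs : S.D s) (hz : z * z = 1) (hnD : ¬ S.D z) (hc : z * s = s * z) :
    S.D (s * z) := by
  obtain ⟨g, rfl⟩ := isConj_iff.1 hs
  have hc' : g⁻¹ * z * g * S.t = S.t * (g⁻¹ * z * g) := by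
    calc g⁻¹ * z * g * S.t = g⁻¹ * (z * (g * S.t * g⁻¹)) * g := by group
      _ = g⁻¹ * (g * S.t * g⁻¹ * z) * g := by rw [hc]
      _ = S.t * (g⁻¹ * z * g) := by group
  obtain ⟨p, σ, e⟩ := S.mem_C _ hc'
  change g⁻¹ * z * g = S.el p σ at e
  have hσ : σ * σ = 1 := by
    have h2 : S.el p σ * S.el p σ = 1 := by
      rw [← e, show g⁻¹ * z * g * (g⁻¹ * z * g) = g⁻¹ * (z * z) * g by group, hz]; group
    rw [S.el_mul, ← S.el_one] at h2
    exact (S.el_inj h2).2
  have hp : p = false := by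
    by_contra hp
    obtain rfl : p = true := by simpa using hp
    apply hnD
    rw [show z = g * (g⁻¹ * z * g) * g⁻¹ by group, e, S.D_conj_iff]
    exact (S.D_el_iff_Mp hM true σ).2 ⟨rfl, hσ⟩
  subst hp
  rw [show g * S.t * g⁻¹ * z = g * (S.t * (g⁻¹ * z * g)) * g⁻¹ by group, e, ← S.el_t, S.el_mul, one_mul,
    S.D_conj_iff]
  exact (S.D_el_iff_Mp hM true σ).2 ⟨rfl, hσ⟩

theorem D_mul_Z0 (hM : S.IsMp) {s : G} (hs : S.D s) (x y : Bool)
    (hc : S.e false x y false false * s = s * S.e false x y false false) :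
    S.D (s * S.e false x y false false) :=
  S.D_mul hM hs ((S.e_sq_eq_one_iff ..).2 rfl) (fun h => Bool.false_ne_true ((S.D_e_iff_Mp hM ..).1 h).1) hc

theorem Mp_card_N (hM : S.IsMp) : Nat.card (normalizer (S.T0 : Set G) : Subgroup G) = 128 := by
  rw [S.card_normalizer, S.card_orbit0, ind_true S.D_ta, ind_true hM.2, ind_true (S.D_tb_iff.1 hM.2),
    ind_false hM.1, ind_false (mt S.D_b_iff.2 hM.1)]

theorem Mp_orbit0_iff (hM : S.IsMp) (g : G) : g ∈ S.orbit0 ↔ ∃ x y, g = S.e true x y false false := by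
  constructor
  · rintro ⟨⟨p, u, v, rfl⟩, hD⟩
    obtain ⟨rfl, -⟩ := (S.D_el_iff_Mp hM _ _).1 hD
    exact ⟨u, v, rfl⟩
  · rintro ⟨x, y, rfl⟩
    exact ⟨⟨true, x, y, rfl⟩, (S.D_e_iff_Mp hM ..).2 ⟨rfl, rfl⟩⟩

theorem Mp_conj_Z (hM : S.IsMp) {g : G} (hg : g ∈ normalizer (S.T0 : Set G)) (p x y : Bool) :
    ∃ x' y', g * S.e p x y false false * g⁻¹ = S.e p x' y' false false := by
  obtain ⟨p', x', y', e⟩ := S.N_conj_central hg p x y
  have h1 := S.D_conj_iff g (S.e p x y false false)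
  rw [e, S.D_e_iff_Mp hM, S.D_e_iff_Mp hM] at h1
  have : p' = p := by cases p <;> cases p' <;> simp at h1 ⊢
  exact ⟨x', y', this ▸ e⟩

theorem Mp_moves (hM : S.IsMp) {g : G} (hg : g ∈ normalizer (S.T0 : Set G)) :
    ∃ x y, g * S.t * g⁻¹ = S.e true x y false false :=
  (S.Mp_orbit0_iff hM _).1 (S.mem_orbit0_of_normalizes hg)

theorem same_coset {g h : G} (hg : g ∈ normalizer (S.T0 : Set G)) (hh : h ∈ normalizer (S.T0 : Set G))
    (e : g * S.t * g⁻¹ = h * S.t * h⁻¹) : g⁻¹ * h ∈ S.T0 := by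
  refine S.mem_T0_of_normalizes (mul_mem (inv_mem hg) hh) ?_
  calc g⁻¹ * h * S.t = g⁻¹ * (h * S.t * h⁻¹) * h := by group
    _ = g⁻¹ * (g * S.t * g⁻¹) * h := by rw [e]
    _ = S.t * (g⁻¹ * h) := by group

theorem exists_translation (hM : S.IsMp) (x y : Bool) :
    ∃ g ∈ normalizer (S.T0 : Set G), g * S.t * g⁻¹ = S.e true x y false false :=
  S.exists_normalizer ((S.Mp_orbit0_iff hM _).2 ⟨x, y, rfl⟩)

theorem T0_subgroupOf_normal : ((S.T0.subgroupOf (normalizer (S.T0 : Set G) : Subgroup G))).Normal :=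
  ⟨fun x hx g => S.normalizer_normal g.2 hx⟩

theorem Mp_index_T0 (hM : S.IsMp) :
    (S.T0.subgroupOf (normalizer (S.T0 : Set G) : Subgroup G)).index = 4 := by
  have h1 := (S.T0.subgroupOf (normalizer (S.T0 : Set G) : Subgroup G)).card_mul_index
  rw [Nat.card_congr (Subgroup.subgroupOfEquivOfLe S.T0_le_N).toEquiv, S.card_T0, S.Mp_card_N hM] at h1
  omega

theorem Mp_commutator_mem (hM : S.IsMp) {g h : G} (hg : g ∈ normalizer (S.T0 : Set G))
    (hh : h ∈ normalizer (S.T0 : Set G)) : g * h * g⁻¹ * h⁻¹ ∈ S.T0 := by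
  have := S.T0_subgroupOf_normal
  have : Fact (Nat.Prime 2) := ⟨Nat.prime_two⟩
  have hc : Nat.card ((normalizer (S.T0 : Set G) : Subgroup G) ⧸
      S.T0.subgroupOf (normalizer (S.T0 : Set G) : Subgroup G)) = 2 ^ 2 := by
    rw [← Subgroup.index_eq_card, S.Mp_index_T0 hM]; rfl
  have hcom := (Subgroup.Normal.quotient_commutative_iff_commutator_le.1
    (IsPGroup.isMulCommutative_of_card_eq_prime_sq hc))
  exact Subgroup.mem_subgroupOf.1
    (hcom (commutator_mem_commutator (Subgroup.mem_top (⟨g, hg⟩ : (normalizer (S.T0 : Set G) : Subgroup G)))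
      (Subgroup.mem_top ⟨h, hh⟩)))

theorem Mp_sq_mem {g x y : G} (hx : x ∈ S.T0) (hy : y ∈ S.T0) (hg : x * y * x⁻¹ * y⁻¹ = g) :
    g = 1 ∨ g = S.e false true false false false := by
  obtain ⟨p, a, b, i, j, rfl⟩ := S.exists_e hx
  obtain ⟨q, c, d, i', j', rfl⟩ := S.exists_e hy
  have h : S.e p a b i j * S.e q c d i' j'
      = S.e false (xor (j && i') (j' && i)) false false false * (S.e q c d i' j' * S.e p a b i j) := by
    rw [S.e_mul, S.e_mul, S.e_a_mul]
    cases p <;> cases q <;> cases a <;> cases c <;> cases b <;> cases d <;> cases i <;> cases j <;> cases i' <;>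
      cases j' <;> rfl
  rw [h, show S.e false (xor (j && i') (j' && i)) false false false * (S.e q c d i' j' * S.e p a b i j) *
    (S.e p a b i j)⁻¹ * (S.e q c d i' j')⁻¹ = S.e false (xor (j && i') (j' && i)) false false false by group] at hg
  subst hg
  cases xor (j && i') (j' && i)
  exacts [Or.inl S.e_one, Or.inr rfl]

end Setup

end Cfsg.Agent.H67.TwoSym
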