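import Cfsg.Agent.H67.TwoSym.Pattern

/-!
# The centre of the Sylow subgroup of the centraliser: excluding three and six conjugates
-/

set_option autoImplicit false
set_option linter.unusedSimpArgs false
set_option linter.unusedSectionVars false

namespace Cfsg.Agent.H67.TwoSym

open Subgroup Equiv

namespace Setup

variable {G : Type*} [Group G] [Finite G] {k : ℕ} (S : Setup G k)

theorem elP00 : S.F.elP false false false false = 1 := by simp [Frame.elP]
theorem elP10 : S.F.elP true false false false = S.F.a := by simp [Frame.elP]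
theorem elP01 : S.F.elP false true false false = S.F.b := by simp [Frame.elP]
theorem elP11 : S.F.elP true true false false = S.F.c := by simp [Frame.elP, Frame.c]

theorem card_orbit0 :
    Nat.card S.orbit0 = 1 + ind (S.D (S.el true S.F.a)) + ind (S.D (S.el true S.F.b))
      + ind (S.D (S.el true S.F.c)) + ind (S.D (S.el false S.F.b)) + ind (S.D (S.el false S.F.c)) := by
  classical
  let f : Bool × Bool × Bool → G := fun x => S.el x.1 (S.F.elP x.2.1 x.2.2 false false)
  have hf : Function.Injective f := fun x y h => by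
    obtain ⟨h1, h2⟩ := S.el_inj h
    obtain ⟨h3, h4, -, -⟩ := S.F.elP_inj h2
    exact Prod.ext h1 (Prod.ext h3 h4)
  have he : Nat.card S.orbit0 = Nat.card {x : Bool × Bool × Bool // S.D (f x)} := by
    refine (Nat.card_congr (Equiv.ofBijective (fun x => (⟨f x.1, ⟨_, _, _, rfl⟩, x.2⟩ : S.orbit0)) ⟨?_, ?_⟩)).symm
    · exact fun x y h => Subtype.ext (hf (congrArg Subtype.val h))
    · rintro ⟨_, ⟨p, u, v, rfl⟩, hD⟩
      exact ⟨⟨(p, u, v), hD⟩, rfl⟩
  have hsum : Nat.card {x : Bool × Bool × Bool // S.D (f x)} = ∑ x, ind (S.D (f x)) := by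
    rw [Nat.card_eq_fintype_card, Fintype.card_subtype, Finset.card_filter]
    refine Finset.sum_congr rfl fun x _ => ?_
    by_cases h : S.D (f x)
    · rw [ind_true h, if_pos h]
    · rw [ind_false h, if_neg h]
  rw [he, hsum]
  simp only [Fintype.sum_prod_type, Fintype.sum_bool, f, S.elP00, S.elP10, S.elP01, S.elP11, S.el_t,
    ind_true S.D_t, ind_false S.not_D_one, ind_false S.not_D_a]
  omega

/-- The elementary subgroup of order sixteen of a frame. -/
def P1 (Fr : Frame k) : Subgroup G where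
  carrier := {x | ∃ p, ∃ σ ∈ Fr.H, x = S.el p σ}
  one_mem' := ⟨false, 1, one_mem _, S.el_one.symm⟩
  mul_mem' := by
    rintro _ _ ⟨p, σ, hσ, rfl⟩ ⟨q, τ, hτ, rfl⟩
    exact ⟨_, _, mul_mem hσ hτ, S.el_mul ..⟩
  inv_mem' := by
    rintro _ ⟨p, σ, hσ, rfl⟩
    exact ⟨p, σ⁻¹, inv_mem hσ, inv_eq_of_mul_eq_one_right (by rw [S.el_mul]; simp [S.el_one])⟩

theorem card_P1 (Fr : Frame k) : Nat.card (S.P1 Fr) = 16 := by
  rw [← Nat.card_congr (Equiv.ofBijective
    (fun x : Bool × Fr.H => (⟨S.el x.1 x.2.1, x.1, x.2.1, x.2.2, rfl⟩ : S.P1 Fr))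
    ⟨fun x y h => Prod.ext (S.el_inj (congrArg Subtype.val h)).1 (Subtype.ext (S.el_inj (congrArg Subtype.val h)).2),
     fun ⟨x, p, σ, hσ, h⟩ => ⟨(p, ⟨σ, hσ⟩), Subtype.ext h.symm⟩⟩)]
  rw [Nat.card_prod, Fr.card_H, Nat.card_eq_fintype_card, Fintype.card_bool]

theorem P1_le {Fr : Frame k} (h : Fr.P = S.F.P) : S.P1 Fr ≤ S.T0 := fun _ ⟨p, σ, hσ, e⟩ =>
  ⟨p, σ, h ▸ Fr.H_le_P hσ, e⟩

theorem P1_sq {Fr : Frame k} {x : G} (hx : x ∈ S.P1 Fr) : x * x = 1 := by
  obtain ⟨p, σ, hσ, rfl⟩ := hx
  rw [S.el_mul, Fr.H_sq hσ, Bool.xor_self, S.el_one]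

/-- The normaliser permutes the two elementary subgroups of order sixteen. -/
theorem image_P1 {g : G} (hg : g ∈ normalizer (S.T0 : Set G)) {Fr : Frame k} (hP : Fr.P = S.F.P) :
    (S.P1 Fr).map (MulAut.conj g).toMonoidHom = S.P1 S.F ∨
      (S.P1 Fr).map (MulAut.conj g).toMonoidHom = S.P1 S.geo.F' := by
  set X := (S.P1 Fr).map (MulAut.conj g).toMonoidHom with hX
  have hle : ∀ x ∈ X, x ∈ S.T0 := by
    rintro _ ⟨y, hy, rfl⟩
    exact S.normalizer_normal hg (S.P1_le hP hy)
  let Y : Subgroup (Perm (Fin k)) :=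
    { carrier := {σ | ∃ p, S.el p σ ∈ X}
      one_mem' := ⟨false, by rw [S.el_one]; exact one_mem _⟩
      mul_mem' := fun ⟨p, hp⟩ ⟨q, hq⟩ => ⟨_, S.el_mul p q _ _ ▸ mul_mem hp hq⟩
      inv_mem' := fun {σ} ⟨p, hp⟩ => ⟨p, by
        have : S.el p σ⁻¹ = (S.el p σ)⁻¹ :=
          (inv_eq_of_mul_eq_one_right (by rw [S.el_mul]; simp [S.el_one])).symm
        rw [this]; exact inv_mem hp⟩ }
  have hY : Y ≤ S.F.P := fun σ ⟨p, hp⟩ => S.el_mem_T0_iff.1 (hle _ hp)
  have hYsq : ∀ σ ∈ Y, σ * σ = 1 := by
    rintro σ ⟨p, hp⟩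
    obtain ⟨y, hy, e⟩ := hp
    have h2 : S.el p σ * S.el p σ = 1 := by
      rw [← e, ← map_mul, S.P1_sq hy, map_one]
    rw [S.el_mul, ← S.el_one] at h2
    exact (S.el_inj h2).2
  have hcard : Nat.card X = 16 :=
    (Nat.card_congr ((S.P1 Fr).equivMapOfInjective _ (MulAut.conj g).injective).symm.toEquiv).trans (S.card_P1 Fr)
  have key : ∀ Fr' : Frame k, Y ≤ Fr'.H → X = S.P1 Fr' := fun Fr' hY' => by
    refine Subgroup.eq_of_le_of_card_ge ?_ (by rw [hcard, S.card_P1])
    intro x hx
    obtain ⟨p, σ, hσ, rfl⟩ := hle x hx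
    exact ⟨p, σ, hY' ⟨p, hx⟩, rfl⟩
  exact (S.geo.le_H_or hY hYsq).imp (key _) (key _)

theorem P1_ne : S.P1 S.F ≠ S.P1 S.geo.F' := by
  intro e
  have h : S.el false S.F.e1 ∈ S.P1 S.geo.F' := e ▸ ⟨false, _, S.F.e1_mem_H, rfl⟩
  obtain ⟨p, σ, ⟨x, y, i, rfl⟩, h2⟩ := h
  have h3 := (S.el_inj h2).2
  rw [S.geo.elP'_eq, show S.F.e1 = S.geo.F.elP false false true false by simp [Frame.elP]] at h3
  exact absurd (S.geo.F.elP_inj h3).2.2.1 (by simp)

theorem map_conj_conj (g h : G) (X : Subgroup G) :
    (X.map (MulAut.conj h).toMonoidHom).map (MulAut.conj g).toMonoidHom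
      = X.map (MulAut.conj (g * h)).toMonoidHom := by
  rw [Subgroup.map_map]
  congr 1
  ext x
  simp [mul_assoc]

/-- An element of order three of the normaliser fixes both elementary subgroups. -/
theorem fix_P1 {g : G} (hg : g ∈ normalizer (S.T0 : Set G)) (h3 : g * g * g = 1) {Fr : Frame k}
    (hFr : Fr = S.F ∨ Fr = S.geo.F') :
    (S.P1 Fr).map (MulAut.conj g).toMonoidHom = S.P1 Fr := by
  have hone : ∀ X : Subgroup G, X.map (MulAut.conj (1 : G)).toMonoidHom = X := fun X => by
    ext x; simp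
  have cyc : ∀ X : Subgroup G, ((X.map (MulAut.conj g).toMonoidHom).map (MulAut.conj g).toMonoidHom).map
      (MulAut.conj g).toMonoidHom = X := fun X => by
    rw [map_conj_conj, map_conj_conj, h3, hone]
  have hinj : ∀ X Y : Subgroup G, X.map (MulAut.conj g).toMonoidHom = Y.map (MulAut.conj g).toMonoidHom → X = Y :=
    fun X Y e => Subgroup.map_injective (MulAut.conj g).injective e
  rcases S.image_P1 hg (Fr := S.F) rfl with hA | hA
  · rcases S.image_P1 hg (Fr := S.geo.F') S.geo.P' with hB | hB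
    · exact absurd (hinj _ _ (hA.trans hB.symm)) S.P1_ne
    · rcases hFr with rfl | rfl
      exacts [hA, hB]
  · exfalso
    rcases S.image_P1 hg (Fr := S.geo.F') S.geo.P' with hB | hB
    · have := cyc (S.P1 S.F)
      rw [hA, hB, hA] at this
      exact S.P1_ne this.symm
    · exact S.P1_ne (hinj _ _ (hA.trans hB.symm))

/-- An element of the elementary subgroup of a frame, in the coordinates of the three transposition-like
generators. -/
def E (Fr : Frame k) (v : Bool × Bool × Bool × Bool) : G :=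
  S.el v.1 (cond v.2.1 Fr.e1 1 * cond v.2.2.1 Fr.e2 1 * cond v.2.2.2 Fr.b 1)

theorem E_eq (Fr : Frame k) (p i j l : Bool) :
    S.E Fr (p, i, j, l) = S.el p (Fr.elP j l (xor i j) false) := by
  refine congrArg (S.el p) ?_
  rw [← Fr.a_mul_e1, show Fr.a = Fr.elP true false false false by simp [Frame.elP],
    show Fr.e1 = Fr.elP false false true false by simp [Frame.elP],
    show Fr.b = Fr.elP false true false false by simp [Frame.elP],
    show (1 : Perm (Fin k)) = Fr.elP false false false false by simp [Frame.elP]]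
  cases i <;> cases j <;> cases l <;> simp only [cond_true, cond_false, Frame.elP_mul] <;> rfl

theorem E_mul (Fr : Frame k) (v w : Bool × Bool × Bool × Bool) :
    S.E Fr v * S.E Fr w = S.E Fr (xor v.1 w.1, xor v.2.1 w.2.1, xor v.2.2.1 w.2.2.1, xor v.2.2.2 w.2.2.2) := by
  obtain ⟨p, i, j, l⟩ := v
  obtain ⟨p', i', j', l'⟩ := w
  rw [E_eq, E_eq, E_eq, S.el_mul, Frame.elP_mul]
  congr 1
  cases i <;> cases j <;> cases l <;> cases i' <;> cases j' <;> cases l' <;> rfl

theorem E_mem (Fr : Frame k) (v : Bool × Bool × Bool × Bool) : S.E Fr v ∈ S.P1 Fr := by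
  obtain ⟨p, i, j, l⟩ := v
  rw [E_eq]
  exact ⟨p, _, ⟨_, _, _, rfl⟩, rfl⟩

theorem E_inj (Fr : Frame k) {v w : Bool × Bool × Bool × Bool} (h : S.E Fr v = S.E Fr w) : v = w := by
  obtain ⟨p, i, j, l⟩ := v
  obtain ⟨p', i', j', l'⟩ := w
  rw [E_eq, E_eq] at h
  obtain ⟨h1, h2⟩ := S.el_inj h
  obtain ⟨rfl, rfl, h5, -⟩ := Fr.elP_inj h2
  subst h1
  obtain rfl : i = i' := by revert h5; cases i <;> cases i' <;> cases j <;> simp
  rfl

theorem exists_E (Fr : Frame k) {x : G} (hx : x ∈ S.P1 Fr) : ∃ v, x = S.E Fr v := by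
  obtain ⟨p, σ, ⟨x, y, i, rfl⟩, rfl⟩ := hx
  exact ⟨(p, xor i x, x, y), by rw [E_eq]; cases x <;> cases y <;> cases i <;> rfl⟩

/-- The conjugates of `t` in the elementary subgroup, read off from five values. -/
theorem D_E (Fr : Frame k) (p i j l : Bool) : S.D (S.E Fr (p, i, j, l)) ↔
    S.D (S.el p (if i && j && l then Fr.c else if (i && j) || (i && l) || (j && l) then Fr.a
      else if i || j || l then Fr.b else 1)) := by
  refine S.D_el_congr p ?_
  have hc1 : Commute Fr.b Fr.e1 := Fr.b_e1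
  have ha1 : Commute Fr.a Fr.e1 := Fr.a_e1
  have hab : Commute Fr.a Fr.b := Fr.a_comm_b
  cases i <;> cases j <;> cases l <;>
    simp only [cond_true, cond_false, mul_one, one_mul, Bool.and_self, Bool.and_false, Bool.false_and,
      Bool.and_true, Bool.true_and, Bool.or_self, Bool.or_true, Bool.true_or, Bool.or_false, Bool.false_or,
      Bool.false_eq_true, ↓reduceIte]
  · exact IsConj.refl _
  · exact IsConj.refl _
  · exact Fr.conj_e2_b.symm
  · exact Fr.conj_a_e2b.symm
  · exact Fr.conj_e1_b.symm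
  · -- `e1 b`, conjugate to `e2 b` by `sw`
    refine (Fr.conj_a_e2b.trans (isConj_iff.2 ⟨Fr.sw, ?_⟩)).symm
    rw [mul_inv_eq_iff_eq_mul, Frame.e2]
    calc Fr.sw * (Fr.sw * Fr.e1 * Fr.sw * Fr.b) = Fr.sw * Fr.sw * Fr.e1 * (Fr.sw * Fr.b) := by group
      _ = Fr.e1 * (Fr.b * Fr.sw) := by rw [Fr.sw_sq, one_mul, Fr.b_sw]
      _ = Fr.e1 * Fr.b * Fr.sw := by group
  · rw [← Fr.a_mul_e1, ← mul_assoc, ← ha1.eq, mul_assoc, Fr.e1_sq, mul_one]
  · refine ?_
    have : Fr.e1 * Fr.e2 * Fr.b = Fr.c := by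
      rw [← Fr.a_mul_e1, ← mul_assoc Fr.e1, ← ha1.eq, mul_assoc Fr.a Fr.e1 Fr.e1, Fr.e1_sq, mul_one, Frame.c]
    rw [this]

/-- The seven conjugates in the model of the elementary subgroup. -/
def seven (v : Bool × Bool × Bool × Bool) : Bool :=
  bif v.1 then !((v.2.1 && v.2.2.1) || (v.2.1 && v.2.2.2) || (v.2.2.1 && v.2.2.2))
  else (v.2.1 && !v.2.2.1 && !v.2.2.2) || (!v.2.1 && v.2.2.1 && !v.2.2.2) || (!v.2.1 && !v.2.2.1 && v.2.2.2)

/-- Addition in the model of the elementary subgroup. -/
def add4 (v w : Bool × Bool × Bool × Bool) : Bool × Bool × Bool × Bool :=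
  (xor v.1 w.1, xor v.2.1 w.2.1, xor v.2.2.1 w.2.2.1, xor v.2.2.2 w.2.2.2)

theorem three_pairs : ∀ u : Bool × Bool × Bool × Bool, seven u = true → u ≠ (true, false, false, false) →
    ∀ x, seven x = true → seven (add4 u x) = true → ∀ y, seven y = true → seven (add4 u y) = true →
    y = x ∨ y = add4 u x := by
  decide +kernel

/-- No element of order three of the normaliser moves `t`. -/
theorem no_three {g : G} (hg : g ∈ normalizer (S.T0 : Set G)) (h3 : g * g * g = 1) (hgT : g ∉ S.T0)
    {Fr : Frame k} (hFr : Fr = S.F ∨ Fr = S.geo.F') (htb : S.D (S.el true Fr.b))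
    (hta : ¬ S.D (S.el true Fr.a)) (htc : ¬ S.D (S.el true Fr.c))
    (hbc : S.D (S.el false Fr.b) ↔ ¬ S.D (S.el false Fr.c)) (ha : ¬ S.D (S.el false Fr.a)) : False := by
  have hP : Fr.P = S.F.P := by rcases hFr with rfl | rfl; exacts [rfl, S.geo.P']
  have hfix := S.fix_P1 hg h3 hFr
  have hstep : ∀ x ∈ S.P1 Fr, g * x * g⁻¹ ∈ S.P1 Fr := fun x hx =>
    hfix.le ⟨x, hx, rfl⟩
  -- membership in the orbit
  have horb : ∀ v : Bool × Bool × Bool × Bool, v.2.1 = v.2.2.1 → S.D (S.E Fr v) → S.E Fr v ∈ S.orbit0 := by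
    intro v hv hD
    refine ⟨(S.central_T0_iff (S.P1_le hP (S.E_mem Fr v))).1 fun y hy => ?_, hD⟩
    obtain ⟨q, τ, hτ, rfl⟩ := hy
    obtain ⟨p, i, j, l⟩ := v
    rw [E_eq, S.el_mul, S.el_mul, Bool.xor_comm,
      (Fr.central_iff (Fr.elP_mem ..)).2 ⟨j, l, by simp only at hv; subst hv; rw [Bool.xor_self]⟩ τ (hP ▸ hτ)]
  have hDt : S.E Fr (true, false, false, false) = S.t := by
    rw [E_eq, ← S.el_t]; simp [Frame.elP]
  rcases Classical.em (S.D (S.el false Fr.b)) with hb | hb
  · -- seven conjugates: `t` is the only one being three times a product of two others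
    have hc := hbc.1 hb
    have hS : ∀ v, S.D (S.E Fr v) ↔ seven v = true := by
      rintro ⟨p, i, j, l⟩
      rw [D_E]
      cases p <;> cases i <;> cases j <;> cases l <;>
        simp [seven, hta, htc, htb, ha, hb, hc, S.el_t, S.D_t, S.not_D_one, -isConj_iff]
    have hD : ∀ v, S.D (S.E Fr v) → ∃ w, g * S.E Fr v * g⁻¹ = S.E Fr w ∧ S.D (S.E Fr w) := fun v hv => by
      obtain ⟨w, hw⟩ := S.exists_E Fr (hstep _ (S.E_mem Fr v))
      exact ⟨w, hw, hw ▸ S.D_conj g hv⟩
    obtain ⟨u, hu, hud⟩ := hD (true, false, false, false) ((hS _).2 (by decide))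
    obtain ⟨x, hx, hxd⟩ := hD (false, true, false, false) ((hS _).2 (by decide))
    obtain ⟨y, hy, hyd⟩ := hD (false, false, true, false) ((hS _).2 (by decide))
    obtain ⟨x', hx', hxd'⟩ := hD (true, true, false, false) ((hS _).2 (by decide))
    obtain ⟨y', hy', hyd'⟩ := hD (true, false, true, false) ((hS _).2 (by decide))
    have hmulx : x' = (xor u.1 x.1, xor u.2.1 x.2.1, xor u.2.2.1 x.2.2.1, xor u.2.2.2 x.2.2.2) := by
      refine S.E_inj Fr ?_
      rw [← S.E_mul, ← hx', ← hu, ← hx]
      rw [show (true, true, false, false) = ((xor true false), (xor false true), (xor false false),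
        (xor false false)) from rfl, ← S.E_mul Fr (true, false, false, false) (false, true, false, false)]
      group
    have hmuly : y' = (xor u.1 y.1, xor u.2.1 y.2.1, xor u.2.2.1 y.2.2.1, xor u.2.2.2 y.2.2.2) := by
      refine S.E_inj Fr ?_
      rw [← S.E_mul, ← hy', ← hu, ← hy]
      rw [show (true, false, true, false) = ((xor true false), (xor false false), (xor false true),
        (xor false false)) from rfl, ← S.E_mul Fr (true, false, false, false) (false, false, true, false)]
      group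
    have hune : u ≠ (true, false, false, false) := by
      rintro rfl
      exact S.orbit0_free hg hgT (horb _ rfl ((hS _).2 (by decide))) hu
    have hz : ∀ z ∈ [x, y], S.D (S.E Fr (xor u.1 z.1, xor u.2.1 z.2.1, xor u.2.2.1 z.2.2.1, xor u.2.2.2 z.2.2.2)) := by
      intro z hz
      simp only [List.mem_cons, List.not_mem_nil, or_false] at hz
      rcases hz with rfl | rfl
      exacts [hmulx ▸ hxd', hmuly ▸ hyd']
    have := three_pairs u ((hS _).1 hud) hune x ((hS _).1 hxd) ((hS _).1 (hz x (by simp))) y ((hS _).1 hyd)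
      ((hS _).1 (hz y (by simp)))
    simp only [add4] at this
    rcases this with rfl | h
    · have := (mul_left_inj g⁻¹).1 (hx.trans hy.symm)
      exact absurd (S.E_inj Fr (mul_left_cancel this)) (by decide)
    · have e : y = x' := h.trans hmulx.symm
      subst e
      have := (mul_left_inj g⁻¹).1 (hy.trans hx'.symm)
      exact absurd (S.E_inj Fr (mul_left_cancel this)) (by decide)
  · -- five conjugates: the element of order three of `C(t)` fixing `c` gives a contradiction
    have hc : S.D (S.el false Fr.c) := not_not.1 (mt hbc.2 hb)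
    have hS : ∀ v, S.D (S.E Fr v) ↔ v ∈ [(true, false, false, false), (true, true, false, false),
        (true, false, true, false), (true, false, false, true), (false, true, true, true)] := by
      rintro ⟨p, i, j, l⟩
      rw [D_E]
      cases p <;> cases i <;> cases j <;> cases l <;>
        simp [seven, hta, htc, htb, ha, hb, hc, S.el_t, S.D_t, S.not_D_one, -isConj_iff]
    have ex : ∀ v, v.2.1 = v.2.2.1 → S.D (S.E Fr v) → ∀ h ∈ [g, g * g],
        h * S.E Fr v * h⁻¹ = S.E Fr (true, false, false, false) ∨ h * S.E Fr v * h⁻¹ = S.E Fr (true, false, false, true)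
          ∨ h * S.E Fr v * h⁻¹ = S.E Fr (false, true, true, true) := by
      intro v hv hD h hh
      have hN : h ∈ normalizer (S.T0 : Set G) := by
        simp only [List.mem_cons, List.not_mem_nil, or_false] at hh
        rcases hh with rfl | rfl
        exacts [hg, mul_mem hg hg]
      have hP1 : h * S.E Fr v * h⁻¹ ∈ S.P1 Fr := by
        simp only [List.mem_cons, List.not_mem_nil, or_false] at hh
        rcases hh with rfl | rfl
        · exact hstep _ (S.E_mem Fr v)
        · have := hstep _ (hstep _ (S.E_mem Fr v))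
          rwa [show g * g * S.E Fr v * (g * g)⁻¹ = g * (g * S.E Fr v * g⁻¹) * g⁻¹ by group]
      obtain ⟨w, hw⟩ := S.exists_E Fr hP1
      have hwc : ∀ y ∈ S.T0, y * S.E Fr w = S.E Fr w * y := by
        intro y hy
        obtain ⟨z, hz, e⟩ := S.exists_normalizer (horb v hv hD)
        have hh' := (S.mem_orbit0_of_normalizes (mul_mem hN hz)).1
        rw [show h * z * S.t * (h * z)⁻¹ = h * (z * S.t * z⁻¹) * h⁻¹ by group, e, hw] at hh'
        obtain ⟨p, a, b, e'⟩ := hh'
        exact (S.central_T0_iff (S.P1_le hP (S.E_mem Fr w))).2 ⟨p, a, b, e'⟩ y hy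
      have hwd : S.D (S.E Fr w) := hw ▸ S.D_conj h hD
      have hmem := (hS w).1 hwd
      simp only [List.mem_cons, List.not_mem_nil, or_false] at hmem
      have hbad : w.2.1 = w.2.2.1 := by
        obtain ⟨p, i, j, l⟩ := w
        have h2 := hwc (S.el false Fr.sw) (S.el_mem_T0 _ (hP ▸ Fr.sw_mem_P))
        rw [E_eq, S.el_mul, S.el_mul, show Fr.sw = Fr.elP false false false true by simp [Frame.elP],
          Frame.elP_mul, Frame.elP_mul] at h2
        have := (Fr.elP_inj (S.el_inj h2).2).1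
        revert this
        cases i <;> cases j <;> simp
      rw [hw]
      rcases hmem with rfl | rfl | rfl | rfl | rfl
      exacts [Or.inl rfl, absurd hbad (by decide), absurd hbad (by decide), Or.inr (Or.inl rfl), Or.inr (Or.inr rfl)]
    have t_orb := horb (true, false, false, false) rfl ((hS _).2 (by decide))
    have tb_orb := horb (true, false, false, true) rfl ((hS _).2 (by decide))
    have c_orb := horb (false, true, true, true) rfl ((hS _).2 (by decide))
    have hg2T : g * g ∉ S.T0 := fun h => hgT (by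
      have hgg : g = (g * g)⁻¹ := eq_inv_of_mul_eq_one_right h3
      rw [hgg]; exact inv_mem h)
    have hg3 : ∀ x : G, g * (g * g) * x * (g * (g * g))⁻¹ = x := fun x => by
      rw [← mul_assoc g g g, h3]; group
    have hg3' : ∀ x : G, g * g * g * x * (g * g * g)⁻¹ = x := fun x => by rw [h3]; group
    obtain ⟨h, hhg, hgc, hgb⟩ : ∃ h ∈ [g, g * g],
        h * S.E Fr (false, true, true, true) * h⁻¹ = S.E Fr (true, false, false, false) ∧
        h * S.E Fr (true, false, false, true) * h⁻¹ = S.E Fr (false, true, true, true) := by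
      have h1 := ex (true, false, false, false) rfl ((hS _).2 (by decide)) g (by simp)
      rcases h1 with e | e | e
      · exact absurd e (S.orbit0_free hg hgT t_orb)
      · refine ⟨g, by simp, ?_⟩
        have h2 := ex (true, false, false, true) rfl ((hS _).2 (by decide)) g (by simp)
        rcases h2 with e2 | e2 | e2
        · exfalso
          have h' : g * g * S.E Fr (true, false, false, false) * (g * g)⁻¹ = S.E Fr (true, false, false, false) := by
            rw [show g * g * S.E Fr (true, false, false, false) * (g * g)⁻¹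
              = g * (g * S.E Fr (true, false, false, false) * g⁻¹) * g⁻¹ by group, e, e2]
          exact S.orbit0_free (mul_mem hg hg) hg2T t_orb h'
        · exact absurd e2 (S.orbit0_free hg hgT tb_orb)
        · refine ⟨?_, e2⟩
          rw [← hg3' (S.E Fr (true, false, false, false)),
            show g * g * g * S.E Fr (true, false, false, false) * (g * g * g)⁻¹
            = g * (g * (g * S.E Fr (true, false, false, false) * g⁻¹) * g⁻¹) * g⁻¹ by group, e, e2]
      · refine ⟨g * g, by simp, ?_⟩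
        have h2 := ex (false, true, true, true) rfl ((hS _).2 (by decide)) g (by simp)
        rcases h2 with e2 | e2 | e2
        · exfalso
          have h' : g * g * S.E Fr (true, false, false, false) * (g * g)⁻¹ = S.E Fr (true, false, false, false) := by
            rw [show g * g * S.E Fr (true, false, false, false) * (g * g)⁻¹
              = g * (g * S.E Fr (true, false, false, false) * g⁻¹) * g⁻¹ by group, e, e2]
          exact S.orbit0_free (mul_mem hg hg) hg2T t_orb h'
        · constructor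
          · conv_rhs => rw [← hg3 (S.E Fr (true, false, false, false))]
            rw [show g * (g * g) * S.E Fr (true, false, false, false) * (g * (g * g))⁻¹
              = g * g * (g * S.E Fr (true, false, false, false) * g⁻¹) * (g * g)⁻¹ by group, e]
          · conv_rhs => rw [← hg3' (S.E Fr (false, true, true, true))]
            rw [show g * g * g * S.E Fr (false, true, true, true) * (g * g * g)⁻¹
              = g * g * (g * S.E Fr (false, true, true, true) * g⁻¹) * (g * g)⁻¹ by group, e2]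
        · exact absurd e2 (S.orbit0_free hg hgT c_orb)
    have hhN : h ∈ normalizer (S.T0 : Set G) ∧ ∀ x ∈ S.P1 Fr, h * x * h⁻¹ ∈ S.P1 Fr := by
      simp only [List.mem_cons, List.not_mem_nil, or_false] at hhg
      rcases hhg with rfl | rfl
      · exact ⟨hg, hstep⟩
      · refine ⟨mul_mem hg hg, fun x hx => ?_⟩
        rw [show g * g * x * (g * g)⁻¹ = g * (g * x * g⁻¹) * g⁻¹ by group]
        exact hstep _ (hstep _ hx)
    set r := S.el false Fr.ρ with hr
    set j := h * r * h⁻¹ with hj
    have hρc : r * S.E Fr (false, true, true, true) * r⁻¹ = S.E Fr (false, true, true, true) := by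
      simp only [hr, E, cond_true]
      rw [S.el_conj]
      refine congrArg (S.el false) (mul_inv_eq_iff_eq_mul.2 ?_)
      have hce : Commute Fr.e1 Fr.e2 := Fr.H_comm Fr.e1_mem_H Fr.e2_mem_H
      have hcb : Commute Fr.b Fr.e1 := Fr.b_e1
      have hcb2 : Commute Fr.b Fr.e2 := Fr.H_comm Fr.b_mem_H Fr.e2_mem_H
      calc Fr.ρ * (Fr.e1 * Fr.e2 * Fr.b) = Fr.ρ * Fr.e1 * Fr.e2 * Fr.b := by group
        _ = Fr.e2 * (Fr.ρ * Fr.e2) * Fr.b := by rw [Fr.ρ_e1, ← Frame.e2, mul_assoc Fr.e2]
        _ = Fr.e2 * Fr.b * (Fr.ρ * Fr.b) := by rw [Frame.e2, Fr.ρ_e2]; group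
        _ = Fr.e2 * Fr.b * Fr.e1 * Fr.ρ := by rw [Fr.ρ_b]; group
        _ = Fr.e1 * Fr.e2 * Fr.b * Fr.ρ := by
          rw [mul_assoc Fr.e2 Fr.b Fr.e1, hcb.eq, ← mul_assoc, ← hce.eq]
    have hjt : j * S.t = S.t * j := by
      rw [← hDt, ← hgc, hj]
      refine mul_inv_eq_iff_eq_mul.1 ?_
      calc h * r * h⁻¹ * (h * S.E Fr (false, true, true, true) * h⁻¹) * (h * r * h⁻¹)⁻¹
          = h * (r * S.E Fr (false, true, true, true) * r⁻¹) * h⁻¹ := by group
        _ = h * S.E Fr (false, true, true, true) * h⁻¹ := by rw [hρc]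
    obtain ⟨p, σ, hjσ⟩ := S.mem_C j hjt
    change j = S.el p σ at hjσ
    have hjc : j * S.E Fr (false, true, true, true) * j⁻¹ = h * S.E Fr (true, true, false, false) * h⁻¹ := by
      conv_lhs => rw [← hgb, hj]
      have hρb : r * S.E Fr (true, false, false, true) * r⁻¹ = S.E Fr (true, true, false, false) := by
        simp only [hr, E, cond_true, cond_false, one_mul, mul_one]
        rw [S.el_conj, Fr.ρ_b, mul_assoc, mul_inv_cancel, mul_one]
      rw [← hρb]; group
    obtain ⟨w, hw⟩ := S.exists_E Fr (hhN.2 _ (S.E_mem Fr (true, true, false, false)))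
    have hwd : S.D (S.E Fr w) := hw ▸ S.D_conj h ((hS _).2 (by decide))
    have hw2 := (hS w).1 hwd
    have hfalse : w.1 = false := by
      rw [hw, hjσ] at hjc
      obtain ⟨p', i, j', l⟩ := w
      rw [E_eq, E_eq, S.el_conj] at hjc
      exact (S.el_inj hjc).1.symm
    obtain rfl : w = (false, true, true, true) := by
      simp only [List.mem_cons, List.not_mem_nil, or_false] at hw2
      rcases hw2 with rfl | rfl | rfl | rfl | rfl <;> simp at hfalse ⊢
    rw [← hgb] at hw
    exact absurd (S.E_inj Fr (mul_left_cancel (mul_right_cancel hw))) (by decide)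

theorem F'_c_eq : S.geo.F'.c = S.F.b := by
  rw [Frame.c, S.geo.a', S.geo.b', Frame.c, ← mul_assoc, show S.F.a * S.F.a = 1 from S.F.a_sq, one_mul]

/-- `ta` is a conjugate of `t`. -/
theorem D_ta : S.D (S.el true S.F.a) := by
  by_contra hta
  obtain ⟨hp1, hp2⟩ := S.parities
  rw [ind_false hta] at hp2
  have hm := S.card_normalizer
  rw [S.card_orbit0, ind_false hta] at hm
  have := ind_le (S.D (S.el true S.F.b))
  have := ind_le (S.D (S.el true S.F.c))
  have := ind_le (S.D (S.el false S.F.b))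
  have := ind_le (S.D (S.el false S.F.c))
  have h96 : Nat.card (normalizer (S.T0 : Set G) : Subgroup G) = 96 := by omega
  have : Fact (Nat.Prime 3) := ⟨Nat.prime_three⟩
  obtain ⟨⟨g, hg⟩, hg3⟩ := exists_prime_orderOf_dvd_card' (G := (normalizer (S.T0 : Set G) : Subgroup G)) 3
    (by rw [h96]; norm_num)
  rw [Subgroup.orderOf_mk] at hg3
  have h3 : g * g * g = 1 := by
    rw [← pow_orderOf_eq_one g, hg3, pow_succ, pow_two]
  have hgT : g ∉ S.T0 := by
    intro h
    have := Subgroup.orderOf_dvd_natCard S.T0 h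
    rw [hg3, S.card_T0] at this
    norm_num at this
  by_cases htb : S.D (S.el true S.F.b)
  · have htc : ¬ S.D (S.el true S.F.c) := fun h => by rw [ind_true htb, ind_true h] at hp2; omega
    refine S.no_three hg h3 hgT (Or.inl rfl) htb hta htc ?_ S.not_D_a
    rw [ind_true htb, ind_false htc] at hp1
    constructor
    · intro hb hc; rw [ind_true hb, ind_true hc] at hp1; omega
    · intro hc; by_contra hb; rw [ind_false hb, ind_false hc] at hp1; omega
  · have htc : S.D (S.el true S.F.c) := by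
      by_contra h; rw [ind_false htb, ind_false h] at hp2; omega
    refine S.no_three hg h3 hgT (Fr := S.geo.F') (Or.inr rfl) ?_ ?_ ?_ ?_ ?_
    · rwa [S.geo.b']
    · rwa [S.geo.a']
    · rwa [S.F'_c_eq]
    · rw [S.F'_c_eq, S.geo.b']
      rw [ind_false htb, ind_true htc] at hp1
      constructor
      · intro hc hb; rw [ind_true hb, ind_true hc] at hp1; omega
      · intro hb; by_contra hc; rw [ind_false hb, ind_false hc] at hp1; omega
    · rw [S.geo.a']; exact S.not_D_a

theorem D_tb_iff : S.D (S.el true S.F.b) ↔ S.D (S.el true S.F.c) := by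
  obtain ⟨-, hp2⟩ := S.parities
  rw [ind_true S.D_ta] at hp2
  constructor <;> intro h <;> by_contra h'
  · rw [ind_true h, ind_false h'] at hp2; omega
  · rw [ind_true h, ind_false h'] at hp2; omega

theorem D_b_iff : S.D (S.el false S.F.b) ↔ S.D (S.el false S.F.c) := by
  obtain ⟨hp1, hp2⟩ := S.parities
  rw [ind_true S.D_ta] at hp2
  constructor <;> intro h <;> by_contra h' <;> rw [ind_true h, ind_false h'] at hp1 <;> omega

/-- The four classes are not all fused to `t`. -/
theorem not_full (htb : S.D (S.el true S.F.b)) : ¬ S.D (S.el false S.F.b) := by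
  intro hb
  have hc := S.D_b_iff.1 hb
  have htc := S.D_tb_iff.1 htb
  have hta := S.D_ta
  obtain ⟨g, hg, hgt⟩ := S.exists_normalizer (x := S.el true S.F.a)
    ⟨⟨true, true, false, by rw [S.elP10]⟩, hta⟩
  have hgT : g ∉ S.T0 := by
    intro h
    rw [mem_centralizer_singleton_iff.1 (S.T0_le h), mul_assoc, mul_inv_cancel, mul_one, ← S.el_t] at hgt
    have := S.F.elP_inj ((S.elP00).trans ((S.el_inj hgt).2.trans (S.elP10).symm))
    exact absurd this.1 (by decide)
  have hga := S.conj_a hg
  have htaEq : S.el true S.F.a = S.t * S.el false S.F.a := by rw [← S.el_t, S.el_mul, one_mul, Bool.xor_false]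
  have hgg : g * S.el true S.F.a * g⁻¹ = S.t := by
    rw [htaEq, show g * (S.t * S.el false S.F.a) * g⁻¹ = g * S.t * g⁻¹ * (g * S.el false S.F.a * g⁻¹) by group,
      hgt, hga, S.el_mul, show S.F.a * S.F.a = 1 from S.F.a_sq, Bool.xor_false, S.el_t]
  have hb_orb : S.el false S.F.b ∈ S.orbit0 := ⟨⟨false, false, true, by rw [S.elP01]⟩, hb⟩
  have htb_orb : S.el true S.F.b ∈ S.orbit0 := ⟨⟨true, false, true, by rw [S.elP01]⟩, htb⟩
  obtain ⟨z, hz, ez⟩ := S.exists_normalizer hb_orb
  have h1 : g * S.el false S.F.b * g⁻¹ ∈ S.orbit0 := by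
    have := S.mem_orbit0_of_normalizes (mul_mem hg hz)
    rwa [show g * z * S.t * (g * z)⁻¹ = g * (z * S.t * z⁻¹) * g⁻¹ by group, ez] at this
  obtain ⟨⟨p, u, v, e⟩, hD⟩ := h1
  have hgg2 : g * (g * S.el false S.F.b * g⁻¹) * g⁻¹ = S.el false S.F.b := by
    have hggT : g * g ∈ S.T0 := by
      refine S.mem_T0_of_normalizes (mul_mem hg hg) (mul_inv_eq_iff_eq_mul.1 ?_)
      rw [show g * g * S.t * (g * g)⁻¹ = g * (g * S.t * g⁻¹) * g⁻¹ by group, hgt, hgg]
    have hc2 := ((S.central_T0_iff (S.el_mem_T0 _ S.F.b_mem_P)).2 ⟨false, false, true, by rw [S.elP01]⟩) _ hggT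
    rw [show g * (g * S.el false S.F.b * g⁻¹) * g⁻¹ = g * g * S.el false S.F.b * (g * g)⁻¹ by group, hc2,
      mul_assoc, mul_inv_cancel, mul_one]
  -- the product of `b` and its image is fixed
  set w := S.el false S.F.b * (g * S.el false S.F.b * g⁻¹) with hw
  have hwe : w = S.el p (S.F.elP u (!v) false false) := by
    rw [hw, e, S.el_mul, ← S.elP01, Frame.elP_mul]
    cases p <;> cases u <;> cases v <;> rfl
  have hcom : S.el false S.F.b * (g * S.el false S.F.b * g⁻¹) = g * S.el false S.F.b * g⁻¹ * S.el false S.F.b := by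
    rw [e, S.el_mul, S.el_mul, ← S.elP01, Frame.elP_mul, Frame.elP_mul]
    cases p <;> cases u <;> cases v <;> rfl
  have hwfix : g * w * g⁻¹ = w := by
    conv_lhs => rw [hw, show g * (S.el false S.F.b * (g * S.el false S.F.b * g⁻¹)) * g⁻¹
      = g * S.el false S.F.b * g⁻¹ * (g * (g * S.el false S.F.b * g⁻¹) * g⁻¹) by group, hgg2, ← hcom]
  have hno : ¬ S.D w := fun h => S.orbit0_free hg hgT (x := w) ⟨⟨p, u, !v, hwe⟩, h⟩ hwfix
  rw [hwe] at hno
  cases p <;> cases u <;> cases v <;>
    simp only [Bool.not_false, Bool.not_true, S.elP00, S.elP10, S.elP01, S.elP11] at hno e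
  · exact hno hb
  · exact S.orbit0_free hg hgT hb_orb e
  · exact hno hc
  · -- `g` sends `b` to `c`, so it fixes `tb`
    have hfix : g * S.el true S.F.b * g⁻¹ = S.el true S.F.b := by
      have : S.el true S.F.b = S.t * S.el false S.F.b := by rw [← S.el_t, S.el_mul, one_mul, Bool.xor_false]
      rw [this, show g * (S.t * S.el false S.F.b) * g⁻¹ = g * S.t * g⁻¹ * (g * S.el false S.F.b * g⁻¹) by group,
        hgt, e, S.el_mul, ← this]
      refine congrArg (S.el true) ?_
      rw [Frame.c, ← mul_assoc, show S.F.a * S.F.a = 1 from S.F.a_sq, one_mul]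
    exact S.orbit0_free hg hgT htb_orb hfix
  · exact hno htb
  · exact hno (S.el_t.symm ▸ S.D_t)
  · exact hno htc
  · exact hno hta

end Setup

end Cfsg.Agent.H67.TwoSym
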