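import Cfsg.Agent.H67.TwoSym.Setup

/-!
# The fusion patterns of the involution
-/

set_option autoImplicit false

namespace Cfsg.Agent.H67.TwoSym

open Subgroup Equiv Equiv.Perm

open Classical in
/-- The indicator of a proposition. -/
noncomputable def ind (P : Prop) : ℕ := if P then 1 else 0

theorem ind_true {P : Prop} (h : P) : ind P = 1 := by classical exact if_pos h

theorem ind_false {P : Prop} (h : ¬P) : ind P = 0 := by classical exact if_neg h

theorem ind_le (P : Prop) : ind P ≤ 1 := by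
  by_cases h : P
  · rw [ind_true h]
  · rw [ind_false h]; exact Nat.zero_le _

namespace Geo

variable {k : ℕ} (g : Geo k)

open Classical in
/-- Parity of the number of involutions in a class invariant set. -/
theorem card_invol_parity (Q : Perm (Fin k) → Prop) (hQ : ∀ σ τ, IsConj σ τ → (Q σ ↔ Q τ)) :
    Nat.card {σ : Perm (Fin k) // σ * σ = 1 ∧ Q σ} % 2 =
      ((ind (Q 1)) + (ind (Q g.F.b)) + (ind (Q g.F.a))
        + (ind (Q g.F.c))) % 2 := by
  have hc : g.F.c * g.F.c = 1 := by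
    rw [show g.F.c = g.F.elP true true false false by simp [Frame.elP, Frame.c], Frame.sq_elP]; simp [Frame.elP]
  let rep : Fin 4 → Perm (Fin k) := ![1, g.F.b, g.F.a, g.F.c]
  have hrep : ∀ i, rep i * rep i = 1 := by
    intro i; fin_cases i
    exacts [one_mul 1, g.F.b_sq, g.F.a_sq, hc]
  have hsupp : ∀ i, (rep i).support.card = ![0, 2, 4, 6] i := by
    intro i; fin_cases i
    exacts [by simp [rep], g.supp_b, g.supp_a, g.supp_c]
  have hsplit : Finset.univ.filter (fun σ : Perm (Fin k) => σ * σ = 1 ∧ Q σ)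
      = Finset.univ.biUnion (fun i => Finset.univ.filter (fun σ => IsConj (rep i) σ ∧ Q (rep i))) := by
    ext σ
    simp only [Finset.mem_filter, Finset.mem_univ, true_and, Finset.mem_biUnion]
    constructor
    · rintro ⟨hσ, hq⟩
      rcases g.cases_invol hσ with rfl | h | h | h
      exacts [⟨0, IsConj.refl _, hq⟩, ⟨1, h, (hQ _ _ h).2 hq⟩, ⟨2, h, (hQ _ _ h).2 hq⟩, ⟨3, h, (hQ _ _ h).2 hq⟩]
    · rintro ⟨i, h, hq⟩
      obtain ⟨c, rfl⟩ := isConj_iff.1 h
      refine ⟨?_, (hQ _ _ h).1 hq⟩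
      rw [show c * rep i * c⁻¹ * (c * rep i * c⁻¹) = c * (rep i * rep i) * c⁻¹ by group, hrep]; group
  have hdisj : ∀ i ∈ Finset.univ, ∀ j ∈ Finset.univ, i ≠ j →
      Disjoint (Finset.univ.filter (fun σ => IsConj (rep i) σ ∧ Q (rep i)))
        (Finset.univ.filter (fun σ => IsConj (rep j) σ ∧ Q (rep j))) := by
    intro i _ j _ hij
    rw [Finset.disjoint_filter]
    intro σ _ h1 h2
    have h := Geo.supp_eq_of_isConj (h1.1.trans h2.1.symm)
    rw [hsupp, hsupp] at h
    clear h1 h2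
    revert hij h; revert i j; decide
  have hodd : ∀ i, Nat.card {σ : Perm (Fin k) // IsConj (rep i) σ} % 2 = 1 := by
    intro i
    refine Nat.odd_iff.1 ?_
    fin_cases i
    · refine g.odd_class fun τ _ => ?_
      simp [rep]
    exacts [g.odd_class g.F.b_central, g.odd_class g.F.a_central, g.odd_class g.F.c_central]
  rw [Nat.card_eq_fintype_card, Fintype.card_subtype, hsplit, Finset.card_biUnion hdisj, Fin.sum_univ_four]
  have h4 : ∀ i, (Finset.univ.filter (fun σ => IsConj (rep i) σ ∧ Q (rep i))).card % 2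
      = ind (Q (rep i)) := by
    intro i
    by_cases hq : Q (rep i)
    · rw [ind_true hq, ← hodd i, Nat.card_eq_fintype_card, Fintype.card_subtype]
      simp [hq]
    · rw [ind_false hq]; simp [hq]
  have e0 : _ % 2 = ind (Q 1) := h4 0
  have e1 : _ % 2 = ind (Q g.F.b) := h4 1
  have e2 : _ % 2 = ind (Q g.F.a) := h4 2
  have e3 : _ % 2 = ind (Q g.F.c) := h4 3
  omega

/-- An elementary subgroup of the Sylow subgroup lies in one of the two elementary subgroups of order eight. -/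
theorem le_H_or {X : Subgroup (Perm (Fin k))} (hX : X ≤ g.F.P) (hsq : ∀ σ ∈ X, σ * σ = 1) :
    X ≤ g.F.H ∨ X ≤ g.F'.H := by
  have hm' : ∀ x y i j, g.F'.elP x y i j ∈ g.F'.H ↔ j = false := fun x y i j =>
    ⟨fun ⟨x', y', i', e⟩ => (g.F'.elP_inj e).2.2.2, fun h => ⟨x, y, i, by rw [h]⟩⟩
  have hmem' : ∀ x y j, g.F.elP x y false j ∈ g.F'.H := by
    intro x y j
    refine ⟨xor x (xor y j), xor y j, j, ?_⟩
    rw [g.elP'_eq]
    cases x <;> cases y <;> cases j <;> rfl
  by_contra hcon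
  rw [not_or] at hcon
  obtain ⟨σ, hσX, hσH⟩ := SetLike.not_le_iff_exists.1 hcon.1
  obtain ⟨τ, hτX, hτH⟩ := SetLike.not_le_iff_exists.1 hcon.2
  obtain ⟨x, y, i, j, rfl⟩ := hX hσX
  obtain ⟨x', y', i', j', rfl⟩ := hX hτX
  have hj : j = true := by
    cases j
    · exact absurd ⟨x, y, i, rfl⟩ hσH
    · rfl
  have hi' : i' = true := by
    cases i'
    · exact absurd (hmem' x' y' j') hτH
    · rfl
  have hone : ∀ u, g.F.elP u false false false = 1 → u = false := fun u h =>
    (g.F.faithful u false false false (by simpa [Frame.elP, Frame.a] using h)).1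
  have s1 := hone _ ((g.F.sq_elP x y i j).symm.trans (hsq _ hσX))
  have s2 := hone _ ((g.F.sq_elP x' y' i' j').symm.trans (hsq _ hτX))
  have h3 := hsq _ (mul_mem hσX hτX)
  rw [Frame.elP_mul, Frame.sq_elP] at h3
  have s3 := hone _ h3
  subst hj hi'
  cases i <;> cases j' <;> simp at s1 s2 s3

end Geo

namespace Setup

variable {G : Type*} [Group G] [Finite G] {k : ℕ} (S : Setup G k)

theorem exists_coord (x : centralizer ({S.t} : Set G)) : ∃ y : Bool × Perm (Fin k), (x : G) = S.el y.1 y.2 := by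
  obtain ⟨p, σ, h⟩ := S.mem_centralizer.1 x.2
  exact ⟨(p, σ), h⟩

/-- The sign of the symmetric part. -/
noncomputable def sgnHom : centralizer ({S.t} : Set G) →* ℤˣ :=
  MonoidHom.mk' (fun x => sign (S.exists_coord x).choose.2) fun x y => by
    have h := (S.exists_coord (x * y)).choose_spec.symm.trans ((Subgroup.coe_mul _ x y).trans
      ((congrArg₂ (· * ·) (S.exists_coord x).choose_spec (S.exists_coord y).choose_spec).trans (S.el_mul ..)))
    rw [(S.el_inj h).2, map_mul]

/-- The central part. -/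
noncomputable def parHom : centralizer ({S.t} : Set G) →* ℤˣ :=
  MonoidHom.mk' (fun x => cond (S.exists_coord x).choose.1 (-1) 1) fun x y => by
    have h := (S.exists_coord (x * y)).choose_spec.symm.trans ((Subgroup.coe_mul _ x y).trans
      ((congrArg₂ (· * ·) (S.exists_coord x).choose_spec (S.exists_coord y).choose_spec).trans (S.el_mul ..)))
    rw [(S.el_inj h).1]
    cases (S.exists_coord x).choose.1 <;> cases (S.exists_coord y).choose.1 <;> rfl

theorem sgnHom_el (p : Bool) (σ : Perm (Fin k)) (h : S.el p σ ∈ centralizer ({S.t} : Set G)) :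
    S.sgnHom ⟨_, h⟩ = sign σ := by
  show sign (S.exists_coord ⟨_, h⟩).choose.2 = sign σ
  rw [← (S.el_inj (S.exists_coord ⟨_, h⟩).choose_spec).2]

theorem parHom_el (p : Bool) (σ : Perm (Fin k)) (h : S.el p σ ∈ centralizer ({S.t} : Set G)) :
    S.parHom ⟨_, h⟩ = cond p (-1) 1 := by
  show cond (S.exists_coord ⟨_, h⟩).choose.1 (-1 : ℤˣ) 1 = _
  rw [← (S.el_inj (S.exists_coord ⟨_, h⟩).choose_spec).1]

theorem not_D_one : ¬ S.D (S.el false 1) := fun h => S.D_ne_one h S.el_one

open Classical in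
/-- The parity rule for a class invariant sign character on the centraliser. -/
theorem parity (φ : centralizer ({S.t} : Set G) →* ℤˣ) (χ : Bool → Perm (Fin k) → ℤˣ)
    (hφ : ∀ p σ h, φ ⟨S.el p σ, h⟩ = χ p σ) (hχ : ∀ p σ τ, IsConj σ τ → χ p σ = χ p τ) :
    ((ind (S.D (S.el false 1) ∧ χ false 1 = -1))
      + (ind (S.D (S.el false S.F.b) ∧ χ false S.F.b = -1))
      + (ind (S.D (S.el false S.F.a) ∧ χ false S.F.a = -1))
      + (ind (S.D (S.el false S.F.c) ∧ χ false S.F.c = -1))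
      + ((ind (S.D (S.el true 1) ∧ χ true 1 = -1))
      + (ind (S.D (S.el true S.F.b) ∧ χ true S.F.b = -1))
      + (ind (S.D (S.el true S.F.a) ∧ χ true S.F.a = -1))
      + (ind (S.D (S.el true S.F.c) ∧ χ true S.F.c = -1)))) % 2 = 0 := by
  have h1 := two_dvd S.hno S.t_sq _ φ
  rw [mul_comm 2] at h1
  have h2 : 2 ∣ Nat.card {y : G // (∃ h : y ∈ centralizer ({S.t} : Set G), φ ⟨y, h⟩ = -1) ∧ S.D y} :=
    Nat.dvd_of_mul_dvd_mul_left Nat.card_pos h1
  have he : Nat.card {y : G // (∃ h : y ∈ centralizer ({S.t} : Set G), φ ⟨y, h⟩ = -1) ∧ S.D y}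
      = ∑ p : Bool, Nat.card {σ : Perm (Fin k) // σ * σ = 1 ∧ (S.D (S.el p σ) ∧ χ p σ = -1)} := by
    rw [← Nat.card_sigma]
    refine (Nat.card_congr (Equiv.ofBijective
      (fun x => ⟨S.el x.1 x.2.1, ⟨S.mem_centralizer.2 ⟨_, _, rfl⟩, (hφ _ _ _).trans x.2.2.2.2⟩, x.2.2.2.1⟩)
      ⟨?_, ?_⟩)).symm
    · rintro ⟨p, σ, hσ⟩ ⟨q, τ, hτ⟩ h
      obtain ⟨rfl, rfl⟩ := S.el_inj (congrArg Subtype.val h)
      rfl
    · rintro ⟨y, ⟨hy, hv⟩, hD⟩
      obtain ⟨p, σ, rfl⟩ := S.mem_centralizer.1 hy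
      have hsq := S.D_sq hD
      rw [S.el_mul, ← S.el_one] at hsq
      exact ⟨⟨p, σ, (S.el_inj hsq).2, hD, (hφ _ _ _).symm.trans hv⟩, rfl⟩
  rw [he, Fintype.sum_bool] at h2
  have hQ : ∀ p σ τ, IsConj σ τ →
      ((S.D (S.el p σ) ∧ χ p σ = -1) ↔ (S.D (S.el p τ) ∧ χ p τ = -1)) := fun p σ τ h => by
    rw [S.D_el_congr p h, hχ p σ τ h]
  have hf := S.geo.card_invol_parity _ (hQ false)
  have ht := S.geo.card_invol_parity _ (hQ true)
  simp only [F] at hf ht ⊢
  omega

theorem sign_conj_inv (σ τ : Perm (Fin k)) (h : IsConj σ τ) : sign σ = sign τ := by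
  obtain ⟨c, rfl⟩ := isConj_iff.1 h
  rw [map_mul, map_mul, map_inv, mul_right_comm, mul_inv_cancel, one_mul]

open Classical in
/-- The two parity relations between the classes of the centraliser. -/
theorem parities :
    ((ind (S.D (S.el false S.F.b))) + (ind (S.D (S.el false S.F.c)))
      + (ind (S.D (S.el true S.F.b))) + (ind (S.D (S.el true S.F.c)))) % 2 = 0 ∧
    (1 + (ind (S.D (S.el true S.F.b))) + (ind (S.D (S.el true S.F.a)))
      + (ind (S.D (S.el true S.F.c)))) % 2 = 0 := by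
  have hc : sign S.F.c = -1 := by simp [Frame.c, map_mul, S.F.sgn_a, S.F.sgn_b]
  have hne : ¬ ((1 : ℤˣ) = -1) := by decide
  have p1 := S.parity S.sgnHom (fun _ σ => sign σ) S.sgnHom_el (fun _ σ τ h => sign_conj_inv σ τ h)
  have p2 := S.parity S.parHom (fun p _ => cond p (-1) 1) S.parHom_el (fun _ _ _ _ => rfl)
  simp only [map_one, S.F.sgn_a, S.F.sgn_b, hc, hne, and_false, and_true, cond_true, cond_false,
    S.el_t, S.D_t, ind_false not_false, ind_true trivial, zero_add, add_zero] at p1 p2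
  omega

theorem el_a_eq (σ : Perm (Fin k)) (hσ : σ ∈ S.F.P) (p : Bool) :
    S.el p σ * S.el p σ = 1 ∨ S.el p σ * S.el p σ = S.el false S.F.a := by
  obtain ⟨x, y, i, j, rfl⟩ := hσ
  rw [S.el_mul, Frame.sq_elP, Bool.xor_self]
  rcases Bool.eq_false_or_eq_true (i && j) with h | h <;> rw [h]
  · exact Or.inr (by simp [Frame.elP])
  · exact Or.inl (by simp [Frame.elP, S.el_one])

theorem a_ne_one : S.el false S.F.a ≠ 1 := by
  rw [← S.el_one]
  intro h
  exact absurd (S.F.faithful true false false false (by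
    simpa [Frame.a] using (S.el_inj h).2)).1 (by decide)

/-- The normaliser of `T0` centralises `a`. -/
theorem conj_a {g : G} (hg : g ∈ normalizer (S.T0 : Set G)) :
    g * S.el false S.F.a * g⁻¹ = S.el false S.F.a := by
  set x := S.el false (S.F.elP false false true true)
  have hx : x * x = S.el false S.F.a := by
    rw [S.el_mul, Frame.sq_elP]; simp [Frame.elP]
  have hm : g * x * g⁻¹ ∈ S.T0 := (mem_normalizer_iff.1 hg _).1 (S.el_mem_T0 _ (S.F.elP_mem ..))
  obtain ⟨p, σ, hσ, e⟩ := hm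
  rw [← hx, show g * (x * x) * g⁻¹ = g * x * g⁻¹ * (g * x * g⁻¹) by group, e, hx]
  rcases S.el_a_eq σ hσ p with h | h
  · exfalso
    rw [← e, show g * x * g⁻¹ * (g * x * g⁻¹) = g * (x * x) * g⁻¹ by group, mul_inv_eq_one,
      mul_eq_left, hx] at h
    exact S.a_ne_one h
  · exact h

theorem not_D_a : ¬ S.D (S.el false S.F.a) := by
  intro hD
  obtain ⟨g, hg, e⟩ := S.exists_normalizer (x := S.el false S.F.a)
    ⟨⟨false, true, false, by simp [Frame.elP]⟩, hD⟩
  have h := S.conj_a hg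
  rw [← e] at h
  have h' : S.el true 1 = S.el false S.F.a := by
    rw [S.el_t, ← e]
    have := congrArg (fun z => g⁻¹ * z * g) h
    simp only [mul_assoc, inv_mul_cancel, mul_one, inv_mul_cancel_left] at this
    exact this.symm.trans (by simp [mul_assoc])
  exact absurd (S.el_inj h').1 (by decide)

theorem normalizer_normal {g h : G} (hg : g ∈ normalizer (S.T0 : Set G)) (hh : h ∈ S.T0) :
    g * h * g⁻¹ ∈ S.T0 := (mem_normalizer_iff.1 hg h).1 hh

/-- Outside `T0` the normaliser moves every point of the orbit of `t`. -/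
theorem orbit0_free {g x : G} (hg : g ∈ normalizer (S.T0 : Set G)) (hgT : g ∉ S.T0) (hx : x ∈ S.orbit0) :
    g * x * g⁻¹ ≠ x := by
  intro e
  obtain ⟨h, hh, rfl⟩ := S.exists_normalizer hx
  have h1 : h⁻¹ * g * h ∈ S.T0 := by
    refine S.mem_T0_of_normalizes (mul_mem (mul_mem (inv_mem hh) hg) hh) ?_
    have e' : g * (h * S.t * h⁻¹) = h * S.t * h⁻¹ * g := mul_inv_eq_iff_eq_mul.1 e
    calc h⁻¹ * g * h * S.t = h⁻¹ * (g * (h * S.t * h⁻¹)) * h := by group
      _ = h⁻¹ * (h * S.t * h⁻¹ * g) * h := by rw [e']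
      _ = S.t * (h⁻¹ * g * h) := by group
  have h2 := S.normalizer_normal hh h1
  exact hgT (by rwa [show h * (h⁻¹ * g * h) * h⁻¹ = g by group] at h2)

end Setup

end Cfsg.Agent.H67.TwoSym
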