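import Cfsg.Agent.H67.TwoSym.Count
import Cfsg.Agent.H67.TwoSym.Geo

/-!
# An involution with centraliser `2 × Sₖ`
-/

set_option autoImplicit false

namespace Cfsg.Agent.H67.TwoSym

open Subgroup Equiv

/-- A group without subgroups of index two with an involution centralised by `2 × Sₖ`. -/
structure Setup (G : Type*) [Group G] [Finite G] (k : ℕ) where
  geo : Geo k
  hno : ∀ H : Subgroup G, H.index ≠ 2
  t : G
  ι : Perm (Fin k) →* G
  inj : Function.Injective ι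
  t_sq : t * t = 1
  ι_comm : ∀ σ, ι σ * t = t * ι σ
  t_notin : ∀ σ, ι σ ≠ t
  mem_C : ∀ x, x * t = t * x → ∃ p : Bool, ∃ σ, x = cond p t 1 * ι σ

namespace Setup

variable {G : Type*} [Group G] [Finite G] {k : ℕ} (S : Setup G k)

/-- An element of the centraliser. -/
def el (p : Bool) (σ : Perm (Fin k)) : G := cond p S.t 1 * S.ι σ

/-- Conjugates of the involution. -/
abbrev D (y : G) : Prop := IsConj S.t y

/-- The first frame. -/
abbrev F : Frame k := S.geo.F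

theorem el_mul (p q : Bool) (σ τ : Perm (Fin k)) : S.el p σ * S.el q τ = S.el (xor p q) (σ * τ) := by
  have h := S.ι_comm σ
  cases p <;> cases q <;> simp only [el, cond_true, cond_false, one_mul, Bool.xor_false, Bool.xor_true,
    Bool.not_false, Bool.not_true, map_mul]
  · rw [← mul_assoc, h, mul_assoc]
  · rw [mul_assoc]
  · rw [mul_assoc S.t, ← mul_assoc (S.ι σ), h, ← mul_assoc, ← mul_assoc, S.t_sq, one_mul]

theorem el_one : S.el false 1 = 1 := by simp [el]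

theorem el_t : S.el true 1 = S.t := by simp [el]

theorem t_ne : S.t ≠ 1 := fun h => S.t_notin 1 (by rw [map_one, h])

theorem el_inj {p q : Bool} {σ τ : Perm (Fin k)} (h : S.el p σ = S.el q τ) : p = q ∧ σ = τ := by
  have h1 : S.el (xor p q) (σ * τ⁻¹) = 1 := by
    rw [← S.el_mul p q, h, S.el_mul]; simp [S.el_one]
  rcases Bool.eq_false_or_eq_true (xor p q) with hx | hx <;> rw [hx] at h1
  · simp only [el, cond_true] at h1
    exact absurd ((inv_eq_of_mul_eq_one_right h1).symm.trans (inv_eq_of_mul_eq_one_right S.t_sq))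
      (S.t_notin (σ * τ⁻¹))
  · have hpq : p = q := by cases p <;> cases q <;> simp_all
    simp only [el, cond_false, one_mul] at h1
    have := S.inj (h1.trans (map_one S.ι).symm)
    exact ⟨hpq, mul_inv_eq_one.1 this⟩

theorem el_comm_t (p : Bool) (σ : Perm (Fin k)) : S.el p σ * S.t = S.t * S.el p σ := by
  rw [← S.el_t, S.el_mul, S.el_mul, mul_one, one_mul, Bool.xor_comm]

theorem mem_centralizer {x : G} : x ∈ centralizer ({S.t} : Set G) ↔ ∃ p σ, x = S.el p σ := by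
  rw [mem_centralizer_singleton_iff]
  refine ⟨fun h => S.mem_C x h, ?_⟩
  rintro ⟨p, σ, rfl⟩
  exact S.el_comm_t p σ

theorem card_C : Nat.card (centralizer ({S.t} : Set G)) = 32 * S.geo.κ := by
  rw [← Nat.card_congr (Equiv.ofBijective
    (fun x : Bool × Perm (Fin k) => (⟨S.el x.1 x.2, S.mem_centralizer.2 ⟨_, _, rfl⟩⟩ : centralizer ({S.t} : Set G)))
    ⟨fun x y h => Prod.ext (S.el_inj (congrArg Subtype.val h)).1 (S.el_inj (congrArg Subtype.val h)).2,
     fun ⟨x, hx⟩ => by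
      obtain ⟨p, σ, rfl⟩ := S.mem_centralizer.1 hx
      exact ⟨(p, σ), rfl⟩⟩)]
  rw [Nat.card_prod, S.geo.card_perm, Nat.card_eq_fintype_card, Fintype.card_bool]
  ring

theorem el_conj (q p : Bool) (τ σ : Perm (Fin k)) : S.el q τ * S.el p σ * (S.el q τ)⁻¹ = S.el p (τ * σ * τ⁻¹) := by
  rw [mul_inv_eq_iff_eq_mul, S.el_mul, S.el_mul, mul_assoc (τ * σ), inv_mul_cancel, mul_one, Bool.xor_comm]

theorem D_el_congr (p : Bool) {σ τ : Perm (Fin k)} (h : IsConj σ τ) : S.D (S.el p σ) ↔ S.D (S.el p τ) := by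
  obtain ⟨c, rfl⟩ := isConj_iff.1 h
  have hc : IsConj (S.el p σ) (S.el p (c * σ * c⁻¹)) := isConj_iff.2 ⟨S.el false c, S.el_conj false p c σ⟩
  exact ⟨fun h => h.trans hc, fun h => h.trans hc.symm⟩

theorem D_conj (g : G) {y : G} (h : S.D y) : S.D (g * y * g⁻¹) := h.trans (isConj_iff.2 ⟨g, rfl⟩)

theorem D_conj_iff (g y : G) : S.D (g * y * g⁻¹) ↔ S.D y :=
  ⟨fun h => h.trans (isConj_iff.2 ⟨g⁻¹, by group⟩), S.D_conj g⟩

theorem D_sq {y : G} (h : S.D y) : y * y = 1 := by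
  obtain ⟨c, rfl⟩ := isConj_iff.1 h
  rw [show c * S.t * c⁻¹ * (c * S.t * c⁻¹) = c * (S.t * S.t) * c⁻¹ by group, S.t_sq]; group

theorem D_ne_one {y : G} (h : S.D y) : y ≠ 1 := fun e => by
  subst e
  exact S.t_ne (isConj_one_left.1 h)

theorem D_t : S.D S.t := IsConj.refl _

/-- The Sylow 2-subgroup of the centraliser. -/
def T0 : Subgroup G where
  carrier := {x | ∃ p, ∃ σ ∈ S.F.P, x = S.el p σ}
  one_mem' := ⟨false, 1, one_mem _, S.el_one.symm⟩
  mul_mem' := by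
    rintro _ _ ⟨p, σ, hσ, rfl⟩ ⟨q, τ, hτ, rfl⟩
    exact ⟨_, _, mul_mem hσ hτ, S.el_mul ..⟩
  inv_mem' := by
    rintro _ ⟨p, σ, hσ, rfl⟩
    exact ⟨p, σ⁻¹, inv_mem hσ, inv_eq_of_mul_eq_one_right (by rw [S.el_mul]; simp [S.el_one])⟩

theorem mem_T0 {x : G} : x ∈ S.T0 ↔ ∃ p, ∃ σ ∈ S.F.P, x = S.el p σ := Iff.rfl

theorem el_mem_T0 (p : Bool) {σ : Perm (Fin k)} (h : σ ∈ S.F.P) : S.el p σ ∈ S.T0 := ⟨p, σ, h, rfl⟩

theorem el_mem_T0_iff {p : Bool} {σ : Perm (Fin k)} : S.el p σ ∈ S.T0 ↔ σ ∈ S.F.P := by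
  refine ⟨?_, S.el_mem_T0 p⟩
  rintro ⟨q, τ, hτ, e⟩
  rwa [(S.el_inj e).2]

theorem T0_le : S.T0 ≤ centralizer ({S.t} : Set G) := fun _ ⟨p, σ, _, h⟩ => S.mem_centralizer.2 ⟨p, σ, h⟩

theorem t_mem_T0 : S.t ∈ S.T0 := ⟨true, 1, one_mem _, S.el_t.symm⟩

theorem card_T0 : Nat.card S.T0 = 32 := by
  rw [← Nat.card_congr (Equiv.ofBijective
    (fun x : Bool × S.F.P => (⟨S.el x.1 x.2.1, S.el_mem_T0 _ x.2.2⟩ : S.T0))
    ⟨fun x y h => Prod.ext (S.el_inj (congrArg Subtype.val h)).1 (Subtype.ext (S.el_inj (congrArg Subtype.val h)).2),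
     fun ⟨x, p, σ, hσ, h⟩ => ⟨(p, ⟨σ, hσ⟩), Subtype.ext h.symm⟩⟩)]
  rw [Nat.card_prod, S.F.card_P, Nat.card_eq_fintype_card, Fintype.card_bool]

/-- Subgroups of order 32 of a centraliser of order `32κ` are conjugate within it. -/
theorem conj_of_card (s : G) (hs : Nat.card (centralizer ({s} : Set G)) = 32 * S.geo.κ) (A B : Subgroup G)
    (hA : A ≤ centralizer ({s} : Set G)) (hB : B ≤ centralizer ({s} : Set G)) (cA : Nat.card A = 32)
    (cB : Nat.card B = 32) :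
    ∃ c ∈ centralizer ({s} : Set G), ∀ x, x ∈ A ↔ c * x * c⁻¹ ∈ B := by
  have : Fact (Nat.Prime 2) := ⟨Nat.prime_two⟩
  set C := centralizer ({s} : Set G)
  have hfac : 2 ^ (Nat.card C).factorization 2 = 32 := by
    rw [hs, Nat.factorization_mul (by norm_num) (Nat.pos_iff_ne_zero.1 S.geo.κ_odd.pos),
      Finsupp.add_apply, Nat.factorization_eq_zero_of_not_dvd
        (fun h => Nat.not_even_iff_odd.2 S.geo.κ_odd (even_iff_two_dvd.2 h)), add_zero,
      show (32 : ℕ) = 2 ^ 5 by norm_num, Nat.Prime.factorization_pow Nat.prime_two, Finsupp.single_eq_same]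
  have hcA : Nat.card (A.subgroupOf C) = 2 ^ (Nat.card C).factorization 2 := by
    rw [Nat.card_congr (Subgroup.subgroupOfEquivOfLe hA).toEquiv, cA, hfac]
  have hcB : Nat.card (B.subgroupOf C) = 2 ^ (Nat.card C).factorization 2 := by
    rw [Nat.card_congr (Subgroup.subgroupOfEquivOfLe hB).toEquiv, cB, hfac]
  obtain ⟨c, hc⟩ := MulAction.exists_smul_eq C (Sylow.ofCard _ hcA) (Sylow.ofCard _ hcB)
  refine ⟨c, c.2, fun x => ?_⟩
  have hB' : ((c • Sylow.ofCard _ hcA : Sylow 2 C) : Subgroup C) = B.subgroupOf C := by rw [hc]; rfl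
  have key : ∀ y : C, (y : G) ∈ A ↔ ((c : G) * y * (c : G)⁻¹) ∈ B := by
    intro y
    have h2 : c * y * c⁻¹ ∈ ((c • Sylow.ofCard _ hcA : Sylow 2 C) : Subgroup C) ↔ y ∈ A.subgroupOf C := by
      rw [show c * y * c⁻¹ = MulAut.conj c • y from rfl, Sylow.coe_subgroup_smul,
        Subgroup.smul_mem_pointwise_smul_iff]
      rfl
    rw [hB'] at h2
    simpa [Subgroup.mem_subgroupOf] using h2.symm
  constructor
  · exact fun hx => (key ⟨x, hA hx⟩).1 hx
  · intro hx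
    have hxC : x ∈ C := by
      have := mul_mem (mul_mem (inv_mem c.2) (hB hx)) c.2
      rwa [show (c : G)⁻¹ * ((c : G) * x * (c : G)⁻¹) * c = x by group] at this
    exact (key ⟨x, hxC⟩).2 hx

theorem card_C_of_D {s : G} (hs : S.D s) : Nat.card (centralizer ({s} : Set G)) = 32 * S.geo.κ := by
  obtain ⟨g, rfl⟩ := isConj_iff.1 hs
  rw [← S.card_C]
  refine Nat.card_congr
    { toFun := fun x => ⟨g⁻¹ * x * g, ?_⟩, invFun := fun x => ⟨g * x * g⁻¹, ?_⟩,
      left_inv := fun x => Subtype.ext (by group), right_inv := fun x => Subtype.ext (by group) }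
  · have h := mem_centralizer_singleton_iff.1 x.2
    rw [mem_centralizer_singleton_iff]
    calc g⁻¹ * (x : G) * g * S.t = g⁻¹ * ((x : G) * (g * S.t * g⁻¹)) * g := by group
      _ = g⁻¹ * (g * S.t * g⁻¹ * (x : G)) * g := by rw [h]
      _ = S.t * (g⁻¹ * (x : G) * g) := by group
  · have h := mem_centralizer_singleton_iff.1 x.2
    rw [mem_centralizer_singleton_iff]
    calc g * (x : G) * g⁻¹ * (g * S.t * g⁻¹) = g * ((x : G) * S.t) * g⁻¹ := by group
      _ = g * (S.t * (x : G)) * g⁻¹ := by rw [h]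
      _ = g * S.t * g⁻¹ * (g * (x : G) * g⁻¹) := by group

/-- A subgroup of order 32 centralising a conjugate of `t` is a transported copy of `T0`. -/
theorem transport {s : G} (hs : S.D s) {B : Subgroup G} (hB : B ≤ centralizer ({s} : Set G))
    (cB : Nat.card B = 32) : ∃ g : G, g * S.t * g⁻¹ = s ∧ ∀ x, x ∈ S.T0 ↔ g * x * g⁻¹ ∈ B := by
  obtain ⟨g, hg⟩ := isConj_iff.1 hs
  let A : Subgroup G := S.T0.map (MulAut.conj g).toMonoidHom
  have hA : A ≤ centralizer ({s} : Set G) := by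
    rintro _ ⟨x, hx, rfl⟩
    rw [mem_centralizer_singleton_iff, ← hg]
    have h := mem_centralizer_singleton_iff.1 (S.T0_le hx)
    show g * x * g⁻¹ * (g * S.t * g⁻¹) = g * S.t * g⁻¹ * (g * x * g⁻¹)
    rw [show g * x * g⁻¹ * (g * S.t * g⁻¹) = g * (x * S.t) * g⁻¹ by group, h]; group
  have cA : Nat.card A = 32 :=
    (Nat.card_congr (S.T0.equivMapOfInjective _ (MulAut.conj g).injective).symm.toEquiv).trans S.card_T0
  obtain ⟨c, hc, hcA⟩ := S.conj_of_card s (S.card_C_of_D hs) A B hA hB cA cB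
  refine ⟨c * g, ?_, fun x => ?_⟩
  · rw [show c * g * S.t * (c * g)⁻¹ = c * (g * S.t * g⁻¹) * c⁻¹ by group, hg,
      mem_centralizer_singleton_iff.1 hc, mul_assoc, mul_inv_cancel, mul_one]
  · rw [show c * g * x * (c * g)⁻¹ = c * (g * x * g⁻¹) * c⁻¹ by group, ← hcA]
    exact ⟨fun hx => ⟨x, hx, rfl⟩, fun ⟨y, hy, e⟩ => (MulAut.conj g).injective e ▸ hy⟩

theorem card_centralizer_le_of_D {s : G} (hs : S.D s) {K : Subgroup G} (hK : IsPGroup 2 K) :
    Nat.card (K ⊓ centralizer ({s} : Set G) : Subgroup G) ≤ 32 := by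
  have : Fact (Nat.Prime 2) := ⟨Nat.prime_two⟩
  obtain ⟨n, hn⟩ := IsPGroup.iff_card.mp (hK.to_le (inf_le_left : K ⊓ centralizer ({s} : Set G) ≤ K))
  have hd : Nat.card (K ⊓ centralizer ({s} : Set G) : Subgroup G) ∣ 32 * S.geo.κ :=
    S.card_C_of_D hs ▸ Subgroup.card_dvd_of_le inf_le_right
  rw [hn] at hd ⊢
  exact Nat.le_of_dvd (by norm_num)
    ((Nat.Coprime.dvd_mul_right (Nat.Coprime.pow_left n
      (Nat.coprime_two_left.2 S.geo.κ_odd))).1 hd)

theorem t_conj_of_normalizes {g : G} (hg : g ∈ normalizer (S.T0 : Set G)) : g * S.t * g⁻¹ ∈ S.T0 :=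
  (mem_normalizer_iff.1 hg S.t).1 S.t_mem_T0

/-- The normaliser of `T0` meets the centraliser in `T0`. -/
theorem mem_T0_of_normalizes {g : G} (hg : g ∈ normalizer (S.T0 : Set G)) (hc : g * S.t = S.t * g) :
    g ∈ S.T0 := by
  obtain ⟨p, σ, e⟩ := S.mem_C g hc
  change g = S.el p σ at e
  subst e
  refine S.el_mem_T0 p (S.geo.self_normalising fun τ => ?_)
  rw [← S.el_mem_T0_iff (p := false), ← S.el_mem_T0_iff (p := false) (σ := σ * τ * σ⁻¹),
    ← S.el_conj p false σ τ]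
  exact mem_normalizer_iff.1 hg _

/-- The elements centralising `T0` inside it. -/
theorem central_T0_iff {x : G} (hx : x ∈ S.T0) :
    (∀ y ∈ S.T0, y * x = x * y) ↔ ∃ p u v, x = S.el p (S.F.elP u v false false) := by
  obtain ⟨p, σ, hσ, rfl⟩ := hx
  constructor
  · intro h
    obtain ⟨u, v, e⟩ := (S.F.central_iff hσ).1 fun τ hτ => by
      have h1 := h _ (S.el_mem_T0 false hτ)
      rw [S.el_mul, S.el_mul] at h1
      exact (S.el_inj h1).2
    exact ⟨p, u, v, by rw [e]⟩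
  · rintro ⟨p', u, v, e⟩ y ⟨q, τ, hτ, rfl⟩
    have hc := ((S.F.central_iff hσ).2 ⟨u, v, (S.el_inj e).2⟩) τ hτ
    rw [S.el_mul, S.el_mul, hc, Bool.xor_comm]

/-- The conjugates of `t` in the centre of `T0`. -/
def orbit0 : Set G := {x | (∃ p u v, x = S.el p (S.F.elP u v false false)) ∧ S.D x}

theorem mem_orbit0_of_normalizes {g : G} (hg : g ∈ normalizer (S.T0 : Set G)) :
    g * S.t * g⁻¹ ∈ S.orbit0 := by
  refine ⟨(S.central_T0_iff (S.t_conj_of_normalizes hg)).1 fun y hy => ?_, isConj_iff.2 ⟨g, rfl⟩⟩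
  have hy' : g⁻¹ * y * g ∈ S.T0 := (mem_normalizer_iff.1 hg _).2 (by
    rwa [show g * (g⁻¹ * y * g) * g⁻¹ = y by group])
  have h := mem_centralizer_singleton_iff.1 (S.T0_le hy')
  calc y * (g * S.t * g⁻¹) = g * (g⁻¹ * y * g * S.t) * g⁻¹ := by group
    _ = g * (S.t * (g⁻¹ * y * g)) * g⁻¹ := by rw [h]
    _ = g * S.t * g⁻¹ * y := by group

theorem exists_normalizer {x : G} (hx : x ∈ S.orbit0) :
    ∃ g ∈ normalizer (S.T0 : Set G), g * S.t * g⁻¹ = x := by
  obtain ⟨⟨p, u, v, e⟩, hD⟩ := hx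
  have hcent : ∀ y ∈ S.T0, y * x = x * y :=
    (S.central_T0_iff (e ▸ S.el_mem_T0 p (S.F.elP_mem u v false false))).2 ⟨p, u, v, e⟩
  obtain ⟨g, hg, hT⟩ := S.transport hD (B := S.T0)
    (fun y hy => mem_centralizer_singleton_iff.2 (hcent y hy)) S.card_T0
  exact ⟨g, mem_normalizer_iff.2 hT, hg⟩

theorem card_normalizer :
    Nat.card (normalizer (S.T0 : Set G) : Subgroup G) = Nat.card S.orbit0 * 32 := by
  classical
  set N := (normalizer (S.T0 : Set G) : Subgroup G)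
  let φ : N → S.orbit0 := fun g => ⟨_, S.mem_orbit0_of_normalizes g.2⟩
  have := Fintype.ofFinite S.orbit0
  rw [← Nat.card_congr (Equiv.sigmaFiberEquiv φ), Nat.card_sigma]
  rw [Finset.sum_congr rfl (g := fun _ => 32), Finset.sum_const, Finset.card_univ, smul_eq_mul,
    Nat.card_eq_fintype_card]
  intro x _
  obtain ⟨g, hgN, hg⟩ := S.exists_normalizer x.2
  rw [← S.card_T0]
  refine Nat.card_congr
    { toFun := fun y => ⟨g⁻¹ * y.1.1, ?_⟩
      invFun := fun y => ⟨⟨g * y.1, mul_mem hgN (le_normalizer y.2)⟩, ?_⟩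
      left_inv := fun y => Subtype.ext (Subtype.ext (by simp))
      right_inv := fun y => Subtype.ext (by simp) }
  · refine S.mem_T0_of_normalizes (mul_mem (inv_mem hgN) y.1.2) ?_
    have h : y.1.1 * S.t * y.1.1⁻¹ = g * S.t * g⁻¹ := (congrArg Subtype.val y.2).trans hg.symm
    calc g⁻¹ * y.1.1 * S.t = g⁻¹ * (y.1.1 * S.t * y.1.1⁻¹) * y.1.1 := by group
      _ = g⁻¹ * (g * S.t * g⁻¹) * y.1.1 := by rw [h]
      _ = S.t * (g⁻¹ * y.1.1) := by group
  · refine Subtype.ext ?_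
    show g * (y : G) * S.t * (g * (y : G))⁻¹ = (x : G)
    rw [← hg, show g * (y : G) * S.t * (g * (y : G))⁻¹ = g * ((y : G) * S.t * (y : G)⁻¹) * g⁻¹ by group,
      mem_centralizer_singleton_iff.1 (S.T0_le y.2), mul_assoc S.t, mul_inv_cancel, mul_one]

end Setup

end Cfsg.Agent.H67.TwoSym
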