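import Cfsg.Agent.H67.TwoSym.Orbit

/-!
# Reduction to two patterns
-/

set_option autoImplicit false

namespace Cfsg.Agent.H67.TwoSym

open Subgroup Equiv Equiv.Perm

namespace Setup

variable {G : Type*} [Group G] [Finite G] {k : ℕ} (S : Setup G k)

/-- Only the class of `ta` is fused to `t`. -/
def IsL : Prop := ¬ S.D (S.el false S.F.b) ∧ ¬ S.D (S.el true S.F.b)

/-- All classes of involutions outside the symmetric group are fused to `t`. -/
def IsMp : Prop := ¬ S.D (S.el false S.F.b) ∧ S.D (S.el true S.F.b)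

/-- Multiplying the odd permutations by `t`. -/
noncomputable def twist : Setup G k where
  geo := S.geo
  hno := S.hno
  t := S.t
  ι := MonoidHom.mk' (fun σ => S.el (decide (sign σ = -1)) σ) fun σ τ => by
    rw [S.el_mul]
    congr 1
    rcases Int.units_eq_one_or (sign σ) with h | h <;> rcases Int.units_eq_one_or (sign τ) with h' | h' <;>
      simp [map_mul, h, h']
  inj := fun σ τ h => (S.el_inj h).2
  t_sq := S.t_sq
  ι_comm := fun σ => S.el_comm_t _ σ
  t_notin := fun σ h => by
    change S.el _ σ = S.t at h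
    rw [← S.el_t] at h
    obtain ⟨h1, rfl⟩ := S.el_inj h
    simp at h1
  mem_C := fun x hx => by
    obtain ⟨p, σ, e⟩ := S.mem_C x hx
    change x = S.el p σ at e
    refine ⟨xor p (decide (sign σ = -1)), σ, ?_⟩
    change x = cond _ S.t 1 * S.el _ σ
    rw [e]
    rcases Int.units_eq_one_or (sign σ) with h | h <;> cases p <;>
      simp [h, el, ← mul_assoc, S.t_sq]

theorem twist_el (p : Bool) (σ : Perm (Fin k)) :
    S.twist.el p σ = S.el (xor p (decide (sign σ = -1))) σ := by
  show cond p S.t 1 * S.el _ σ = _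
  rcases Int.units_eq_one_or (sign σ) with h | h <;> cases p <;> simp [h, el, ← mul_assoc, S.t_sq]

/-- The three patterns. -/
theorem cases : S.IsL ∨ S.IsMp ∨ S.twist.IsMp := by
  by_cases hb : S.D (S.el false S.F.b)
  · right; right
    have htb : ¬ S.D (S.el true S.F.b) := fun h => S.not_full h hb
    have e0 : S.twist.el false S.F.b = S.el true S.F.b := by rw [S.twist_el]; simp [S.F.sgn_b]
    have e1 : S.twist.el true S.F.b = S.el false S.F.b := by rw [S.twist_el]; simp [S.F.sgn_b]
    exact ⟨fun h => htb (e0 ▸ h), e1.symm ▸ hb⟩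
  · by_cases htb : S.D (S.el true S.F.b)
    exacts [Or.inr (Or.inl ⟨hb, htb⟩), Or.inl ⟨hb, htb⟩]

end Setup

end Cfsg.Agent.H67.TwoSym
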